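import Cfsg.Agent.H606.PQR.Pieces_m3
import Cfsg.Agent.GpLn.Quot
import Cfsg.Agent.S2086
import Cfsg.Agent.S0249
import Cfsg.Agent.S2332
import Cfsg.Agent.S0280
import Cfsg.Agent.SignalizersComponents.SLQuasisimple
import Mathlib
import Cfsg.Agent.H80.Fpf.Loc
import Cfsg.Agent.H343.WitTri
import Cfsg.Agent.H378.RegE7
import Cfsg.Agent.S1055
import Cfsg.Agent.S1059
import Cfsg.Agent.S2100
import Cfsg.Agent.S2338
import Cfsg.Agent.ClassicalGeometry.PSL2Basic
import Cfsg.Agent.H631.Fpf.CardTw
import Cfsg.Agent.H35.ExcIdxTw_m3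
import Cfsg.Agent.H934.HeisE6_m3
import Cfsg.Agent.S1054
import Cfsg.Agent.S2105
import Cfsg.Agent.S1035
import Cfsg.Agent.H631.Fpf.DegE6_m3
import Cfsg.Agent.Characters.Core
import Cfsg.Agent.H704.S8.Defs_m3
import Cfsg.Agent.S0157
import Cfsg.Agent.S0184
import Cfsg.Agent.SporRec.TwoAn
import Cfsg.Agent.Blocks.AvgTrace
import Cfsg.Agent.S0892
import Cfsg.Agent.ThType.ModMain
import Cfsg.Agent.ThType.Final
import Cfsg.Agent.ThType.CSideMain_mg
import Cfsg.Agent.KFacts.Th.Main
import Cfsg.Agent.H800.Sp.NotAb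
import Cfsg.Agent.H502.ThFiveP
import Cfsg.Agent.S1700
import Cfsg.Agent.H51.Rad3.Ru
import Cfsg.Agent.H978.RadRu
import Cfsg.Agent.CTwoTab.Ru
import Cfsg.Agent.Ru127.Xi_m3
import Cfsg.Agent.SporadicB.ON45Rels
import Cfsg.Agent.SporRec.ONAssembly
import Cfsg.Agent.R04.ONThree
import Cfsg.Agent.KFacts.ON.Words_m3
import Cfsg.Agent.SporRec.ONFinal
import Cfsg.Agent.H936.AltBig2
import Cfsg.Agent.S5549
import Cfsg.Agent.S0359
import Cfsg.Agent.S0360
import Cfsg.Agent.S0361
import Cfsg.Agent.H857.Orbits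
import Cfsg.Agent.H865.RhoEleven
import Cfsg.Agent.S2042
import Cfsg.Agent.H378.TwRows
import Cfsg.Agent.KFacts.TwESix.Tor
import Cfsg.Agent.H400.LieLocal
import Cfsg.Agent.KFacts.RgdLieCharP
import Cfsg.Agent.S1070
import Cfsg.Agent.H77.E4Poly_m3
import Cfsg.Agent.BpExc.AsmN_m3
import Cfsg.Agent.H371.CycEval
import Cfsg.Agent.H522.FpfEmbSL_mg_m3
import Cfsg.Agent.S1067
import Cfsg.Agent.S1071
import Cfsg.Agent.S2110
import Cfsg.Agent.S2342
import Cfsg.Agent.H111.Fpf.SevenRad
import Cfsg.Agent.H585.SuE7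
import Cfsg.Agent.H120.StSeven
import Cfsg.Agent.S2107
import Cfsg.Agent.S2339
import Cfsg.Agent.S1069
import Cfsg.Agent.S1073
import Cfsg.Agent.S1116
import Cfsg.Agent.S1158
import Cfsg.Agent.S2113
import Cfsg.Agent.S2343
import Cfsg.Agent.H20.FrobTitsInst
import Cfsg.Agent.FastGrp
import Cfsg.Agent.Prune
set_option linter.all false

section
prune_inst 0x7f00000000000000000000000000000000000000000000000000000000000000000000000000000000000000000000000000000000000000000000000000000000000000000000000000000000000000003ffdf7fffffffffffffff7ffffffbeffbde3feffff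

section
prune_inst 0xb2e8f9abaea1dfdfff7e37f6d0cffc13808fffa4dff94bffe869bfabdf239009c56b8589e030fc0e56c21410a87843fb7eeeffe86bdc7ffffd5fb41ffbee0fe5f7b50811948c3406280ff703f0570e6f000200000000000000000000000000000200000000

-- part: H517/Fpf/Psl
section
prune_inst 0x41150650515620200001c8080d1000280750004b00040000040200042090020220942000008002108020800810001000811000020420000000a0404000005010000800000a008009102008800020801000000800000000000000080000000000401c010000
set_option linter.all false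
open scoped Cfsg.Agent.FastGrp

-- part: H517/Fpf/PslA
section
/-!
# Fixed point free primes of `PSL_n(q)`, `n ≥ 3`: only primes `r` with `ord(q mod r) = n` (helper517, for S4228)

`not_may` : `¬ May r (PSL_n(q))` if `r` is an odd prime divisor of the order with `ord(q mod r) ≠ n`,
`(n, q)` not `(3,2), (3,4), (4,2)`.  `not_may_char` : `r` the characteristic (no exceptions).
-/

set_option autoImplicit false

namespace Cfsg.Agent.H517.FpfPsl

open Subgroup Matrix Cfsg.Agent.GpLn.Block Cfsg.Agent.GpLn.Elem Cfsg.Agent.H80.Fpf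

section kap

variable {F : Type*} [Field F] {m : ℕ}

/-- upper block unipotent elements -/
def kap (v : Matrix (Fin m) (Fin 1) F) : _root_.Matrix.SpecialLinearGroup (Fin m ⊕ Fin 1) F :=
  ⟨fromBlocks 1 v 0 1, by rw [det_fromBlocks_zero₂₁]; simp⟩

theorem coe_kap (v : Matrix (Fin m) (Fin 1) F) :
    ((kap v : _root_.Matrix.SpecialLinearGroup (Fin m ⊕ Fin 1) F) : Matrix (Fin m ⊕ Fin 1) (Fin m ⊕ Fin 1) F) =
      fromBlocks 1 v 0 1 := rfl

theorem kap_mul (v w : Matrix (Fin m) (Fin 1) F) : kap v * kap w = kap (v + w) := by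
  apply ext'
  rw [Matrix.SpecialLinearGroup.coe_mul, coe_kap, coe_kap, coe_kap, fromBlocks_multiply]
  simp [add_comm]

theorem kap_zero : kap (0 : Matrix (Fin m) (Fin 1) F) = 1 := by
  apply ext'
  rw [coe_kap, Matrix.SpecialLinearGroup.coe_one, fromBlocks_one]

/-- `kap` as a homomorphism -/
def kapHom (F : Type*) [Field F] (m : ℕ) :
    Multiplicative (Matrix (Fin m) (Fin 1) F) →* _root_.Matrix.SpecialLinearGroup (Fin m ⊕ Fin 1) F where
  toFun v := kap v.toAdd
  map_one' := kap_zero
  map_mul' _ _ := (kap_mul _ _).symm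

theorem kap_center {v : Matrix (Fin m) (Fin 1) F} (h : kap v ∈ center (_root_.Matrix.SpecialLinearGroup (Fin m ⊕ Fin 1) F)) :
    v = 0 := by
  obtain ⟨r, -, hr⟩ := Matrix.SpecialLinearGroup.mem_center_iff.1 h
  rw [coe_kap] at hr
  ext i j
  have h1 := congrFun (congrFun hr (Sum.inl i)) (Sum.inr j)
  rw [fromBlocks_apply₁₂, scalar_apply, diagonal_apply_ne _ (by simp)] at h1
  rw [← h1]
  rfl

theorem kap_neg (v : Matrix (Fin m) (Fin 1) F) : (kap v)⁻¹ = kap (-v) := by
  rw [inv_eq_iff_mul_eq_one, kap_mul, add_neg_cancel, kap_zero]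

theorem kap_pow (v : Matrix (Fin m) (Fin 1) F) (k : ℕ) : kap v ^ k = kap (k • v) := by
  induction k with
  | zero => rw [pow_zero, zero_smul, kap_zero]
  | succ k ih => rw [pow_succ, ih, kap_mul, succ_nsmul]

theorem kap_zpow (v : Matrix (Fin m) (Fin 1) F) (k : ℤ) : kap v ^ k = kap (k • v) := by
  cases k with
  | ofNat k => rw [Int.ofNat_eq_natCast, zpow_natCast, kap_pow, natCast_zsmul]
  | negSucc k => rw [zpow_negSucc, kap_pow, kap_neg, negSucc_zsmul]

variable {G : Type*} [Group G] {π : _root_.Matrix.SpecialLinearGroup (Fin m ⊕ Fin 1) F →* G}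

theorem eq_of_pi_kap (hker : π.ker = center (_root_.Matrix.SpecialLinearGroup (Fin m ⊕ Fin 1) F))
    {v w : Matrix (Fin m) (Fin 1) F} (h : π (kap v) = π (kap w)) : v = w := by
  have h1 : kap (v - w) ∈ π.ker := by
    rw [MonoidHom.mem_ker, sub_eq_add_neg, ← kap_mul, ← kap_neg, map_mul, map_inv, h, mul_inv_cancel]
  rw [hker] at h1
  exact sub_eq_zero.1 (kap_center h1)

/-- the image of the unipotent radical -/
def KK (π : _root_.Matrix.SpecialLinearGroup (Fin m ⊕ Fin 1) F →* G) : Subgroup G := (π.comp (kapHom F m)).range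

theorem mem_KK (v : Matrix (Fin m) (Fin 1) F) : π (kap v) ∈ KK π := ⟨Multiplicative.ofAdd v, rfl⟩

theorem exists_of_mem_KK {k : G} (h : k ∈ KK π) : ∃ v : Matrix (Fin m) (Fin 1) F, k = π (kap v) := by
  obtain ⟨v, rfl⟩ := h
  exact ⟨v.toAdd, rfl⟩

theorem smul_char {l : ℕ} [CharP F l] (v : Matrix (Fin m) (Fin 1) F) : l • v = 0 := by
  ext i j
  rw [Matrix.smul_apply, nsmul_eq_mul, CharP.cast_eq_zero, zero_mul]
  rfl

theorem isPGroup_KK {l : ℕ} [CharP F l] : IsPGroup l (KK π) := by
  rintro ⟨k, hk⟩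
  obtain ⟨v, rfl⟩ := exists_of_mem_KK hk
  refine ⟨1, Subtype.ext ?_⟩
  change π (kap v) ^ l ^ 1 = 1
  rw [pow_one, ← map_pow, kap_pow, smul_char, kap_zero, map_one]

theorem comm_KK : ∀ a ∈ KK π, ∀ b ∈ KK π, a * b = b * a := by
  intro a ha b hb
  obtain ⟨v, rfl⟩ := exists_of_mem_KK ha
  obtain ⟨w, rfl⟩ := exists_of_mem_KK hb
  rw [← map_mul, ← map_mul, kap_mul, kap_mul, add_comm]

theorem blk_kap {A : Matrix (Fin m) (Fin m) F} {d : F} (hd0 : d ≠ 0)
    (h : A.det * (d • (1 : Matrix (Fin 1) (Fin 1) F)).det = 1) (v : Matrix (Fin m) (Fin 1) F) :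
    blk A (d • (1 : Matrix (Fin 1) (Fin 1) F)) h * kap v =
      kap (d⁻¹ • (A * v)) * blk A (d • (1 : Matrix (Fin 1) (Fin 1) F)) h := by
  apply ext'
  rw [Matrix.SpecialLinearGroup.coe_mul, Matrix.SpecialLinearGroup.coe_mul, coe_kap, coe_kap, coe_blk, fromBlocks_multiply,
    fromBlocks_multiply]
  congr 1
  · simp
  · simp only [smul_smul, hd0, _root_.Matrix.mul_one, _root_.add_zero, _root_.Matrix.mul_zero, _root_.Matrix.mul_smul, _root_.ne_eq, _root_.not_false_eq_true, _root_.mul_inv_cancel₀, _root_.one_smul, _root_.zero_add]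
  · simp only [_root_.Matrix.mul_one, _root_.Matrix.mul_zero, _root_.add_zero, _root_.Matrix.zero_mul]
  · simp

/-- **action of a block element on the unipotent radical** -/
theorem not_may_of_block [Finite G] [IsSimpleGroup G]
    (hker : π.ker = center (_root_.Matrix.SpecialLinearGroup (Fin m ⊕ Fin 1) F)) {r l : ℕ} [CharP F l] (hr : r.Prime)
    (hr2 : r ≠ 2) (hl : l.Prime) (hlr : l ≠ r) (hM : l = 2 → ∃ M : ℕ, MultDvd G M ∧ ¬ l ∣ M)
    {A : Matrix (Fin m) (Fin m) F} {d : F} (hA : A ^ r = 1) (hd : A.det * d = 1) {v : Matrix (Fin m) (Fin 1) F}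
    (hv : A * v ≠ d • v) : ¬ May r G := by
  have hd0 : d ≠ 0 := right_ne_zero_of_mul_eq_one hd
  have h : A.det * (d • (1 : Matrix (Fin 1) (Fin 1) F)).det = 1 := by simpa only [_root_.Matrix.det_unique, _root_.Fin.default_eq_zero, _root_.Fin.isValue, _root_.Matrix.smul_apply, _root_.Matrix.one_apply_eq, _root_.smul_eq_mul, _root_.mul_one] using hd
  have hdr : d ^ r = 1 := by
    have h1 : (A.det * d) ^ r = 1 := by rw [hd, one_pow]
    rwa [mul_pow, ← det_pow, hA, det_one, one_mul] at h1
  set x := blk A (d • (1 : Matrix (Fin 1) (Fin 1) F)) h with hx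
  have hxr : x ^ r = 1 := by
    apply ext'
    rw [Matrix.SpecialLinearGroup.coe_pow, hx, coe_blk, Matrix.SpecialLinearGroup.coe_one, ← fromBlocks_one]
    have key : ∀ k : ℕ, (fromBlocks A 0 0 (d • (1 : Matrix (Fin 1) (Fin 1) F))) ^ k =
        fromBlocks (A ^ k) 0 0 ((d ^ k) • (1 : Matrix (Fin 1) (Fin 1) F)) := by
      intro k
      induction k with
      | zero => simp
      | succ k ih => rw [pow_succ, ih, fromBlocks_multiply]; simp only [pow_succ, smul_smul, mul_comm, _root_.Matrix.mul_zero, _root_.add_zero, _root_.Matrix.mul_smul, _root_.Matrix.mul_one, _root_.smul_zero, _root_.Matrix.zero_mul, _root_.Algebra.mul_smul_comm, _root_.mul_one, _root_.zero_add]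
    rw [key, hA, hdr, one_smul]
  have hc : ∀ w : Matrix (Fin m) (Fin 1) F, π x * π (kap w) * (π x)⁻¹ = π (kap (d⁻¹ • (A * w))) := by
    intro w
    rw [mul_inv_eq_iff_eq_mul, ← map_mul, ← map_mul, hx, blk_kap hd0]
  have hne : π x * π (kap v) ≠ π (kap v) * π x := by
    intro h1
    apply hv
    have h2 := hc v
    rw [h1, mul_inv_cancel_right] at h2
    have h3 := eq_of_pi_kap hker h2
    calc A * v = d • (d⁻¹ • (A * v)) := by rw [smul_smul, mul_inv_cancel₀ hd0, one_smul]
      _ = d • v := by rw [← h3]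
  have hord : orderOf (π x) = r := by
    have : Fact r.Prime := ⟨hr⟩
    refine orderOf_eq_prime (by rw [← map_pow, hxr, map_one]) ?_
    intro h1
    apply hne
    rw [h1, one_mul, mul_one]
  have hxK : ∀ k ∈ KK π, π x * k * (π x)⁻¹ ∈ KK π := by
    intro k hk
    obtain ⟨w, rfl⟩ := exists_of_mem_KK hk
    rw [hc]
    exact mem_KK _
  by_cases hl2 : l = 2
  · obtain ⟨M, hM1, hM2⟩ := hM hl2
    exact not_may_of_act_abelian hr hr2 hl hM1 hM2 (isPGroup_KK (l := l)) comm_KK hord hxK (mem_KK v) hne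
  · exact not_may_of_act hr hr2 hl hlr (good_of_odd hl hl2 hr hr2) (isPGroup_KK (l := l)) hord hxK (mem_KK v) hne

/-- **the characteristic** -/
theorem not_may_char' [Finite G] (hker : π.ker = center (_root_.Matrix.SpecialLinearGroup (Fin m ⊕ Fin 1) F)) {l : ℕ}
    [CharP F l] (hl : l.Prime) (hl2 : l ≠ 2) (hm : 2 ≤ m) : ¬ May l G := by
  have : Fact l.Prime := ⟨hl⟩
  let e : Fin m → Matrix (Fin m) (Fin 1) F := fun i => Matrix.of fun j _ => if j = i then 1 else 0
  have ho : ∀ i, orderOf (π (kap (e i))) = l := by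
    intro i
    refine orderOf_eq_prime (by rw [← map_pow, kap_pow, smul_char, kap_zero, map_one]) ?_
    intro h1
    rw [← map_one π, ← kap_zero] at h1
    have h2 := congrFun (congrFun (eq_of_pi_kap hker h1) i) 0
    simp [e] at h2
  refine not_may_of_comm (a := π (kap (e ⟨0, by omega⟩))) (b := π (kap (e ⟨1, by omega⟩))) hl hl2 ?_ (ho _) (ho _) ?_
  · rw [← map_mul, ← map_mul, kap_mul, kap_mul, add_comm]
  · rintro ⟨k, hk⟩
    change π (kap (e ⟨0, by omega⟩)) ^ k = _ at hk
    rw [← map_zpow, kap_zpow] at hk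
    have h2 := congrFun (congrFun (eq_of_pi_kap hker hk) ⟨1, by omega⟩) 0
    simp [e] at h2

end kap

section exist

variable {F : Type*} [Field F] [Fintype F]

theorem exists_block {m r : ℕ} (hm : 2 ≤ m) (hr : r.Prime) (hd : r ∣ Nat.card (GL (Fin m) F)) :
    ∃ (A : Matrix (Fin m) (Fin m) F) (d : F) (v : Matrix (Fin m) (Fin 1) F), A ^ r = 1 ∧ A.det * d = 1 ∧
      A * v ≠ d • v := by
  have : Fact r.Prime := ⟨hr⟩
  obtain ⟨g, hg⟩ := exists_prime_orderOf_dvd_card' r hd
  have hgr : (g : Matrix (Fin m) (Fin m) F) ^ r = 1 := by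
    have h1 : g ^ r = 1 := by rw [← hg, pow_orderOf_eq_one]
    have h2 := congrArg (fun x : GL (Fin m) F => (x : Matrix (Fin m) (Fin m) F)) h1
    simpa using h2
  have hg1 : (g : Matrix (Fin m) (Fin m) F) ≠ 1 := by
    intro h1
    have h2 : g = 1 := Units.ext h1
    rw [h2, orderOf_one] at hg
    exact hr.one_lt.ne hg
  have hdet : (g : Matrix (Fin m) (Fin m) F).det ≠ 0 := by
    have := (Matrix.isUnit_iff_isUnit_det _).1 g.isUnit
    exact this.ne_zero
  set d : F := ((g : Matrix (Fin m) (Fin m) F).det)⁻¹ with hdd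
  have hd1 : (g : Matrix (Fin m) (Fin m) F).det * d = 1 := mul_inv_cancel₀ hdet
  by_cases hv : ∃ v : Matrix (Fin m) (Fin 1) F, (g : Matrix (Fin m) (Fin m) F) * v ≠ d • v
  · obtain ⟨v, hv⟩ := hv
    exact ⟨_, d, v, hgr, hd1, hv⟩
  push Not at hv
  have hgd : (g : Matrix (Fin m) (Fin m) F) = d • 1 := by
    ext i j
    have h1 := congrFun (congrFun (hv (Matrix.of fun k _ => if k = j then 1 else 0)) i) 0
    simp only [mul_apply, of_apply, mul_ite, mul_one, mul_zero, Finset.sum_ite_eq', Finset.mem_univ, if_true,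
      Matrix.smul_apply, smul_eq_mul] at h1
    rw [h1, Matrix.smul_apply, one_apply, smul_eq_mul]
    split_ifs <;> simp
  have hdr : d ^ r = 1 := by
    rw [hgd, smul_pow, one_pow] at hgr
    have h1 := congrFun (congrFun hgr ⟨0, by omega⟩) ⟨0, by omega⟩
    simpa only [_root_.Matrix.smul_apply, _root_.Matrix.one_apply_eq, _root_.smul_eq_mul, _root_.mul_one] using h1
  have hdne : d ≠ 1 := by
    intro h1
    apply hg1
    rw [hgd, h1, one_smul]
  have hd0 : d ≠ 0 := right_ne_zero_of_mul_eq_one hd1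
  let f : Fin m → F := fun i => if i = ⟨0, by omega⟩ then d else 1
  refine ⟨diagonal f, d⁻¹, Matrix.of fun k _ => if k = ⟨1, by omega⟩ then 1 else 0, ?_, ?_, ?_⟩
  · rw [diagonal_pow]
    have : f ^ r = 1 := by
      ext i
      by_cases hi : i = ⟨0, by omega⟩
      · simp [f, hi, hdr]
      · simp [f, hi]
    rw [this]
    exact diagonal_one
  · rw [det_diagonal]
    simp only [f]
    rw [Finset.prod_ite_eq' Finset.univ (⟨0, by omega⟩ : Fin m) (fun _ => d)]
    simp only [hd0, _root_.Finset.mem_univ, ↓ _root_.reduceIte, _root_.ne_eq, _root_.not_false_eq_true, _root_.mul_inv_cancel₀]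
  · intro h1
    have h2 := congrFun (congrFun h1 ⟨1, by omega⟩) 0
    simp [f, diagonal_mul] at h2
    exact hdne (h2.symm ▸ rfl)

omit [Fintype F] in
theorem card_psl_dvd (n : ℕ) :
    Nat.card (Matrix.ProjectiveSpecialLinearGroup (Fin n) F) ∣ Nat.card (GL (Fin n) F) := by
  refine (Subgroup.card_quotient_dvd_card (center (Matrix.SpecialLinearGroup (Fin n) F))).trans ?_
  exact Subgroup.card_dvd_of_injective (Matrix.SpecialLinearGroup.toGL : _ →* GL (Fin n) F)
    Matrix.SpecialLinearGroup.toGL_injective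

theorem pow_sub_one_iff {r q j : ℕ} (hr : r.Prime) (hq : 1 ≤ q) : r ∣ q ^ j - 1 ↔ (q : ZMod r) ^ j = 1 := by
  have : Fact r.Prime := ⟨hr⟩
  rw [← ZMod.natCast_eq_zero_iff, Nat.cast_sub (Nat.one_le_pow _ _ hq), sub_eq_zero]
  push_cast
  rfl

theorem ord_pos {r q j : ℕ} (hj : 1 ≤ j) (h : (q : ZMod r) ^ j = 1) : 0 < orderOf (q : ZMod r) :=
  orderOf_pos_iff.2 (isOfFinOrder_iff_pow_eq_one.2 ⟨j, hj, h⟩)

/-- the prime divisors of `|GL_n(q)|` -/
theorem dvd_card_GL_iff {n r : ℕ} (hr : r.Prime) (hrq : ¬ r ∣ Fintype.card F) :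
    r ∣ Nat.card (GL (Fin n) F) ↔
      0 < orderOf ((Fintype.card F : ℕ) : ZMod r) ∧ orderOf ((Fintype.card F : ℕ) : ZMod r) ≤ n := by
  set q := Fintype.card F with hq
  have hq1 : 1 ≤ q := Fintype.card_pos
  rw [Matrix.card_GL_field, ← hq, hr.prime.dvd_finsetProd_iff]
  have key : ∀ i : Fin n, q ^ n - q ^ (i : ℕ) = q ^ (i : ℕ) * (q ^ (n - i) - 1) := by
    intro i
    rw [Nat.mul_sub, mul_one, ← pow_add]
    congr 2
    omega
  constructor
  · rintro ⟨i, -, hi⟩
    rw [key, hr.dvd_mul] at hi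
    rcases hi with hi | hi
    · exact absurd (hr.dvd_of_dvd_pow hi) hrq
    · rw [pow_sub_one_iff hr hq1] at hi
      have h1 := ord_pos (by omega) hi
      refine ⟨h1, ?_⟩
      have h2 := Nat.le_of_dvd (by omega) (orderOf_dvd_of_pow_eq_one hi)
      omega
  · rintro ⟨h1, h2⟩
    refine ⟨⟨n - orderOf (q : ZMod r), by omega⟩, Finset.mem_univ _, ?_⟩
    rw [key]
    refine dvd_mul_of_dvd_right ?_ _
    rw [pow_sub_one_iff hr hq1]
    have h3 : n - (n - orderOf (q : ZMod r)) = orderOf (q : ZMod r) := by omega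
    simp only [h3]
    exact pow_orderOf_eq_one _

end exist

/-- **Only the primes `r` with `ord(q mod r) = n` remain.** -/
theorem not_may {F : Type} [Field F] [Fintype F] {n : ℕ} (hn : 3 ≤ n)
    (hex : (n, Fintype.card F) ∉ ({(3, 2), (3, 4), (4, 2)} : Set (ℕ × ℕ))) {r : ℕ} (hr : r.Prime) (hr2 : r ≠ 2)
    (hd : r ∣ Nat.card (Matrix.ProjectiveSpecialLinearGroup (Fin n) F))
    (hord : orderOf ((Fintype.card F : ℕ) : ZMod r) ≠ n) :
    ¬ May r (Matrix.ProjectiveSpecialLinearGroup (Fin n) F) := by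
  obtain ⟨m, rfl⟩ : ∃ m, n = m + 1 := ⟨n - 1, by omega⟩
  have hm : 2 ≤ m := by omega
  have hs : IsSimpleGroup (Matrix.ProjectiveSpecialLinearGroup (Fin (m + 1)) F) := S0249.result (m + 1) hn
  obtain ⟨π, -, hker⟩ := exists_proj (α := Fin m ⊕ Fin 1)
    (MulEquiv.refl (Matrix.ProjectiveSpecialLinearGroup (Fin (m + 1)) F)) (by simp only [_root_.Fintype.card_sum, _root_.Fintype.card_fin, _root_.Fintype.card_unique, _root_.Nat.add_left_cancel_iff])
  obtain ⟨l, hchar⟩ := CharP.exists F
  have hl : l.Prime := (CharP.char_is_prime_or_zero F l).resolve_right (CharP.char_ne_zero_of_finite F l)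
  have : Fact l.Prime := ⟨hl⟩
  obtain ⟨k, -, hk⟩ := FiniteField.card F l
  by_cases hlr : l = r
  · subst hlr
    exact not_may_char' hker hl hr2 hm
  have hrq : ¬ r ∣ Fintype.card F := by
    rw [hk]
    intro h1
    exact hlr ((Nat.prime_dvd_prime_iff_eq hr hl).1 (hr.dvd_of_dvd_pow h1)).symm
  have h1 := (dvd_card_GL_iff hr hrq).1 (hd.trans (card_psl_dvd (m + 1)))
  have h2 : r ∣ Nat.card (GL (Fin m) F) := (dvd_card_GL_iff hr hrq).2 ⟨h1.1, by omega⟩
  obtain ⟨A, d, v, hA, hdA, hv⟩ := exists_block hm hr h2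
  refine not_may_of_block hker hr hr2 hl hlr (fun hl2 => ?_) hA hdA hv
  refine ⟨Nat.gcd (m + 1) (Fintype.card F - 1), multDvd_of_cyclic (Nat.gcd_pos_of_pos_left _ (by omega)).ne'
    (S2086.result rfl (m + 1) (by omega) (fun h => by omega) ?_), ?_⟩
  · intro h3
    apply hex
    simp only [Set.mem_insert_iff, Set.mem_singleton_iff, Prod.mk.injEq] at h3 ⊢
    (clear * - hn h3; omega)
  · intro h3
    have h4 : l ∣ Fintype.card F - 1 := h3.trans (Nat.gcd_dvd_right _ _)
    have h5 : l ∣ Fintype.card F := by rw [hk]; exact dvd_pow_self _ k.ne_zero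
    have h6 : 1 ≤ Fintype.card F := Fintype.card_pos
    have h7 : l ∣ 1 := by
      have := (Nat.dvd_sub h5 h4)
      rwa [Nat.sub_sub_self h6] at this
    exact hl.one_lt.ne' (Nat.dvd_one.1 h7)

/-- **the characteristic** -/
theorem not_may_char {F : Type} [Field F] [Fintype F] {n : ℕ} (hn : 3 ≤ n) {l : ℕ} [CharP F l] (hl2 : l ≠ 2) :
    ¬ May l (Matrix.ProjectiveSpecialLinearGroup (Fin n) F) := by
  obtain ⟨m, rfl⟩ : ∃ m, n = m + 1 := ⟨n - 1, by omega⟩
  obtain ⟨π, -, hker⟩ := exists_proj (α := Fin m ⊕ Fin 1)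
    (MulEquiv.refl (Matrix.ProjectiveSpecialLinearGroup (Fin (m + 1)) F)) (by simp only [_root_.Fintype.card_sum, _root_.Fintype.card_fin, _root_.Fintype.card_unique, _root_.Nat.add_left_cancel_iff])
  have hl : l.Prime := (CharP.char_is_prime_or_zero F l).resolve_right (CharP.char_ne_zero_of_finite F l)
  exact not_may_char' hker hl hl2 (by omega)

end Cfsg.Agent.H517.FpfPsl
end

-- part: H517/Fpf/Psl
section
/-!
# The row `PSL_n(q)`, `n ≥ 3`, of S4228 (helper517)

`card_centralizer` : `|C(x)| (q - 1) ≤ q^n - 1` for `x ∈ PSL_n(q)` of prime order `r`, `ord(q mod r) = n`;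
`minDeg` : the smallest degree; `eq_of_may` : at most one prime; `row_psln`.
-/

set_option autoImplicit false

namespace Cfsg.Agent.H517.FpfPsl

open Subgroup Matrix Cfsg.Agent.H80.Fpf

section fin

variable {F : Type} [Field F] [Fintype F] {n : ℕ}

/-- the projection -/
abbrev pr (F : Type) [Field F] (n : ℕ) :
    Matrix.SpecialLinearGroup (Fin n) F →* Matrix.ProjectiveSpecialLinearGroup (Fin n) F :=
  QuotientGroup.mk' (center (Matrix.SpecialLinearGroup (Fin n) F))

omit [Fintype F] in
theorem ker_pr : (pr F n).ker = center (Matrix.SpecialLinearGroup (Fin n) F) := QuotientGroup.ker_mk' _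

omit [Fintype F] in
theorem isCover (hn : 3 ≤ n) : IsCover (pr F n) where
  surj := QuotientGroup.mk'_surjective _
  central := by rw [QuotientGroup.ker_mk']
  perf := Cfsg.Agent.LieClassical.SLGen.commutator_eq_top (by simpa only [_root_.Fintype.card_fin] using hn)

theorem minDeg (hn : 3 ≤ n)
    (hex : (n, Fintype.card F) ∉ ({(3, 2), (3, 4), (4, 2), (4, 3)} : Set (ℕ × ℕ))) :
    MinDeg (Matrix.ProjectiveSpecialLinearGroup (Fin n) F)
      ((Fintype.card F ^ n - Fintype.card F) / (Fintype.card F - 1)) := by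
  classical
  have h0 : Nat.gcd n (Fintype.card F - 1) ≠ 0 := (Nat.gcd_pos_of_pos_left _ (by omega)).ne'
  simp only [Set.mem_insert_iff, Set.mem_singleton_iff, not_or] at hex
  refine minDeg_of_universal (m := Nat.gcd n (Fintype.card F - 1)) h0
    (multDvd_of_cyclic h0 (S2086.result rfl n (by omega) (fun h => by omega) ?_)) (isCover hn) ?_ ?_
  · intro h3
    simp only [Set.mem_insert_iff, Set.mem_singleton_iff] at h3
    rcases h3 with h3 | h3 | h3 | h3 | h3
    · rw [Prod.mk.injEq] at h3; omega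
    · rw [Prod.mk.injEq] at h3; omega
    · exact hex.1 h3
    · exact hex.2.1 h3
    · exact hex.2.2.1 h3
  · rw [ker_pr, S0280.card_center_SL (by omega)]
  · intro d ρ hρ hd
    exact (S2332.result n hn hex).1 d ρ hρ hd

/-- an element of order `r` without invariant subspaces -/
theorem scalar_of_eigen {r : ℕ} (hr : r.Prime) (hrq : ¬ r ∣ Fintype.card F)
    (hord : orderOf ((Fintype.card F : ℕ) : ZMod r) = n) {X C : Matrix (Fin n) (Fin n) F} (hX : X ^ r = 1)
    (hX1 : X ≠ 1) (hc : C * X = X * C) {v : Fin n → F} (hv : v ≠ 0) {c : F} (hcv : C.mulVec v = c • v) :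
    C = c • 1 := by
  classical
  have : Fact r.Prime := ⟨hr⟩
  have hq : 1 ≤ Fintype.card F := Fintype.card_pos
  have hn0 : n ≠ 0 := by
    rintro rfl
    apply hv
    ext i
    exact i.elim0
  -- cardinalities of submodules
  have hcard : ∀ W : Submodule F (Fin n → F), Fintype.card W = Fintype.card F ^ Module.finrank F W := fun W =>
    Module.card_eq_pow_finrank
  have hle : ∀ W : Submodule F (Fin n → F), Module.finrank F W ≤ n := fun W => by
    have := Submodule.finrank_le W
    simpa only [_root_.ge_iff_le, _root_.Module.finrank_fintype_fun_eq_card, _root_.Fintype.card_fin] using this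
  -- the fixed space of `X`
  have hpow : ∀ (k : ℕ) (w : Fin n → F), (X.mulVec)^[k] w = (X ^ k).mulVec w := by
    intro k
    induction k with
    | zero => intro w; simp
    | succ k ih => intro w; rw [Function.iterate_succ_apply, ih, mulVec_mulVec, pow_succ]
  let U : Submodule F (Fin n → F) := LinearMap.ker (Matrix.mulVecLin X - LinearMap.id)
  have hU : ∀ w, w ∈ U ↔ X.mulVec w = w := by
    intro w
    rw [LinearMap.mem_ker, LinearMap.sub_apply, sub_eq_zero]
    rfl
  have hmodV : Fintype.card (Fin n → F) ≡ Fintype.card U [MOD r] := by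
    have h1 := Equiv.Perm.card_fixedPoints_modEq (α := Fin n → F) (f := (X.mulVec : Function.End (Fin n → F)))
      (p := r) (n := 1) (by
        funext w
        rw [pow_one]
        have h2 := hpow r w
        rw [hX, one_mulVec] at h2
        exact h2)
    refine h1.trans ?_
    have h2 : Fintype.card (Function.fixedPoints (X.mulVec : (Fin n → F) → (Fin n → F))) = Fintype.card U :=
      Fintype.card_congr (Equiv.subtypeEquivRight fun w => by rw [hU]; rfl)
    rw [← h2]
  -- powers of `q` congruent modulo `r`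
  have hmod : ∀ a b : ℕ, a ≤ b → b ≤ n → Fintype.card F ^ b ≡ Fintype.card F ^ a [MOD r] → b = a ∨ b = a + n := by
    intro a b hab hbn h
    by_cases hba : b = a
    · exact Or.inl hba
    right
    have h1 : r ∣ Fintype.card F ^ b - Fintype.card F ^ a :=
      (Nat.modEq_iff_dvd' (Nat.pow_le_pow_right hq hab)).1 h.symm
    have h2 : Fintype.card F ^ b - Fintype.card F ^ a = Fintype.card F ^ a * (Fintype.card F ^ (b - a) - 1) := by
      rw [Nat.mul_sub, mul_one, ← pow_add]
      congr 2
      omega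
    rw [h2, hr.dvd_mul] at h1
    rcases h1 with h1 | h1
    · exact absurd (hr.dvd_of_dvd_pow h1) hrq
    · rw [pow_sub_one_iff hr hq] at h1
      have h3 := orderOf_dvd_of_pow_eq_one h1
      rw [hord] at h3
      have h4 := Nat.le_of_dvd (by omega) h3
      omega
  have hcV : Fintype.card (Fin n → F) = Fintype.card F ^ n := by simp only [_root_.Fintype.card_pi, _root_.Finset.prod_const, _root_.Finset.card_univ, _root_.Fintype.card_fin]
  have hU0 : Module.finrank F U = 0 := by
    rw [hcV, hcard U] at hmodV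
    rcases hmod _ _ (hle U) le_rfl hmodV with h1 | h1
    · exfalso
      apply hX1
      have h2 : U = ⊤ := Submodule.eq_top_of_finrank_eq (by rw [← h1]; simp only [_root_.Module.finrank_fintype_fun_eq_card, _root_.Fintype.card_fin])
      have h3 : ∀ w, X.mulVec w = w := fun w => (hU w).1 (h2 ▸ Submodule.mem_top)
      apply Matrix.ext_of_mulVec_single
      intro i
      rw [h3, one_mulVec]
    · omega
  have hUb : U = ⊥ := Submodule.finrank_eq_zero.1 hU0
  -- the eigenspace of `C`
  let W : Submodule F (Fin n → F) := LinearMap.ker (Matrix.mulVecLin C - c • LinearMap.id)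
  have hW : ∀ w, w ∈ W ↔ C.mulVec w = c • w := by
    intro w
    rw [LinearMap.mem_ker, LinearMap.sub_apply, sub_eq_zero]
    rfl
  have hXW : ∀ w, w ∈ W → X.mulVec w ∈ W := by
    intro w hw
    rw [hW] at hw ⊢
    rw [mulVec_mulVec, hc, ← mulVec_mulVec, hw, mulVec_smul]
  let g : W → W := fun w => ⟨X.mulVec w, hXW w w.2⟩
  have hg : ∀ (k : ℕ) (w : W), ((g^[k] w : W) : Fin n → F) = (X.mulVec)^[k] (w : Fin n → F) := by
    intro k
    induction k with
    | zero => intro w; rfl
    | succ k ih => intro w; rw [Function.iterate_succ_apply, ih, Function.iterate_succ_apply]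
  have hmodW : Fintype.card W ≡ 1 [MOD r] := by
    have h1 := Equiv.Perm.card_fixedPoints_modEq (α := W) (f := (g : Function.End W)) (p := r) (n := 1) (by
      funext w
      rw [pow_one]
      apply Subtype.ext
      refine (hg r w).trans ?_
      rw [hpow, hX, one_mulVec]
      rfl)
    refine h1.trans ?_
    have h2 : Fintype.card (Function.fixedPoints g) = 1 := by
      rw [Fintype.card_eq_one_iff]
      refine ⟨⟨0, ?_⟩, ?_⟩
      · apply Subtype.ext
        change X.mulVec 0 = 0
        rw [mulVec_zero]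
      · rintro ⟨w, hw⟩
        apply Subtype.ext
        apply Subtype.ext
        have h3 : X.mulVec (w : Fin n → F) = w := congrArg Subtype.val hw
        have h4 : (w : Fin n → F) ∈ U := (hU _).2 h3
        rw [hUb] at h4
        exact (Submodule.mem_bot F).1 h4
    rw [← h2]
  have hWn : Module.finrank F W = n := by
    rw [hcard W] at hmodW
    have h1 : Fintype.card F ^ Module.finrank F W ≡ Fintype.card F ^ 0 [MOD r] := by rwa [pow_zero]
    rcases hmod _ _ (Nat.zero_le _) (hle W) h1 with h2 | h2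
    · exfalso
      apply hv
      have h3 : W = ⊥ := Submodule.finrank_eq_zero.1 h2
      have h4 : v ∈ W := (hW v).2 hcv
      rw [h3] at h4
      exact (Submodule.mem_bot F).1 h4
    · omega
  have hWt : W = ⊤ := Submodule.eq_top_of_finrank_eq (by rw [hWn]; simp only [_root_.Module.finrank_fintype_fun_eq_card, _root_.Fintype.card_fin])
  apply Matrix.ext_of_mulVec_single
  intro i
  have h1 : (Pi.single i 1 : Fin n → F) ∈ W := hWt ▸ Submodule.mem_top
  rw [(hW _).1 h1, smul_mulVec, one_mulVec]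

theorem not_dvd_center {r : ℕ} (hr : r.Prime) (hn : 3 ≤ n) (hord : orderOf ((Fintype.card F : ℕ) : ZMod r) = n) :
    ¬ r ∣ Nat.card (center (Matrix.SpecialLinearGroup (Fin n) F)) := by
  rw [S0280.card_center_SL (by omega)]
  intro h
  have h1 : r ∣ Fintype.card F ^ 1 - 1 := by
    rw [pow_one]
    exact h.trans (Nat.gcd_dvd_right _ _)
  rw [pow_sub_one_iff hr Fintype.card_pos] at h1
  have h2 := Nat.le_of_dvd one_pos (orderOf_dvd_of_pow_eq_one h1)
  omega

/-- **The centraliser** of an element of order `r`, `ord(q mod r) = n`, in `PSL_n(q)`. -/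
theorem card_centralizer {r : ℕ} (hr : r.Prime) (hn : 3 ≤ n) (hrq : ¬ r ∣ Fintype.card F)
    (hord : orderOf ((Fintype.card F : ℕ) : ZMod r) = n) {x : Matrix.ProjectiveSpecialLinearGroup (Fin n) F}
    (hx : orderOf x = r) :
    Nat.card (centralizer ({x} : Set (Matrix.ProjectiveSpecialLinearGroup (Fin n) F))) * (Fintype.card F - 1) ≤
      Fintype.card F ^ n - 1 := by
  classical
  have hz := not_dvd_center (F := F) hr hn hord
  obtain ⟨X, hX, hXr⟩ := exists_lift (isCover (F := F) hn) hr (by rw [ker_pr]; exact hz) hx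
  have hXr1 : X ^ r = 1 := by rw [← hXr, pow_orderOf_eq_one]
  have hXm : (X : Matrix (Fin n) (Fin n) F) ^ r = 1 := by
    rw [← Matrix.SpecialLinearGroup.coe_pow, hXr1, Matrix.SpecialLinearGroup.coe_one]
  have hXm1 : (X : Matrix (Fin n) (Fin n) F) ≠ 1 := by
    intro h
    have h1 : X = 1 := Subtype.ext h
    rw [h1, orderOf_one] at hXr
    exact hr.one_lt.ne hXr
  -- lifts of the centraliser commute with `X`
  have hcomm : ∀ c : Matrix.SpecialLinearGroup (Fin n) F, pr F n c ∈ centralizer ({x} : Set _) → c * X = X * c := by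
    intro c hc
    rw [mem_centralizer_singleton_iff, ← hX, ← map_mul, ← map_mul] at hc
    have h1 : c * X * c⁻¹ * X⁻¹ ∈ center (Matrix.SpecialLinearGroup (Fin n) F) := by
      rw [← ker_pr, MonoidHom.mem_ker]
      have : c * X * c⁻¹ * X⁻¹ = (c * X) * (X * c)⁻¹ := by group
      rw [this, map_mul, map_inv, hc, mul_inv_cancel]
    obtain ⟨z, hzdef⟩ : ∃ z, z = c * X * c⁻¹ * X⁻¹ := ⟨_, rfl⟩
    rw [← hzdef] at h1
    have h2 : c * X * c⁻¹ = z * X := by rw [hzdef]; group
    have hcz : Commute z X := (mem_center_iff.1 h1 X).symm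
    have h3 : z ^ r = 1 := by
      have h4 : (c * X * c⁻¹) ^ r = 1 := by rw [conj_pow, hXr1]; group
      rw [h2, hcz.mul_pow, hXr1, mul_one] at h4
      exact h4
    have h5 : z = 1 := by
      by_contra h6
      have : Fact r.Prime := ⟨hr⟩
      have h7 : orderOf z = r := orderOf_eq_prime h3 h6
      apply hz
      rw [← h7, ← Subgroup.orderOf_mk z h1]
      exact _root_.orderOf_dvd_natCard _
    rw [h5, one_mul] at h2
    exact mul_inv_eq_iff_eq_mul.1 h2
  have hn0 : 0 < n := by omega
  let v₀ : Fin n → F := Pi.single ⟨0, hn0⟩ 1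
  have hv₀ : v₀ ≠ 0 := by
    intro h
    have := congrFun h ⟨0, hn0⟩
    simp [v₀] at this
  have hsurj : Function.Surjective (pr F n) := QuotientGroup.mk'_surjective _
  let lift : Matrix.ProjectiveSpecialLinearGroup (Fin n) F → Matrix.SpecialLinearGroup (Fin n) F :=
    Function.surjInv hsurj
  have hlift : ∀ y, pr F n (lift y) = y := Function.surjInv_eq hsurj
  let C := centralizer ({x} : Set (Matrix.ProjectiveSpecialLinearGroup (Fin n) F))
  let f : C × Fˣ → {v : Fin n → F // v ≠ 0} := fun y =>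
    ⟨(y.2 : F) • (lift y.1 : Matrix (Fin n) (Fin n) F).mulVec v₀, by
      intro h
      have h1 : (lift y.1 : Matrix (Fin n) (Fin n) F).mulVec v₀ = 0 := by
        rcases smul_eq_zero.1 h with h1 | h1
        · exact absurd h1 y.2.ne_zero
        · exact h1
      have h2 : ((lift y.1)⁻¹ * lift y.1 : Matrix.SpecialLinearGroup (Fin n) F) = 1 := inv_mul_cancel _
      have h3 := congrArg (fun g : Matrix.SpecialLinearGroup (Fin n) F => (g : Matrix (Fin n) (Fin n) F).mulVec v₀) h2
      simp only [Matrix.SpecialLinearGroup.coe_mul, ← mulVec_mulVec, h1, mulVec_zero,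
        Matrix.SpecialLinearGroup.coe_one, one_mulVec] at h3
      exact hv₀ h3.symm⟩
  have hf : Function.Injective f := by
    rintro ⟨a, s⟩ ⟨b, t⟩ h
    have h1 : (s : F) • (lift a : Matrix (Fin n) (Fin n) F).mulVec v₀ =
      (t : F) • (lift b : Matrix (Fin n) (Fin n) F).mulVec v₀ := congrArg Subtype.val h
    have hba : ((lift b)⁻¹ * lift a : Matrix.SpecialLinearGroup (Fin n) F) * X =
        X * ((lift b)⁻¹ * lift a : Matrix.SpecialLinearGroup (Fin n) F) := by
      apply hcomm
      rw [map_mul, map_inv, hlift, hlift]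
      exact C.mul_mem (C.inv_mem b.2) a.2
    have h2 : (((lift b)⁻¹ * lift a : Matrix.SpecialLinearGroup (Fin n) F) : Matrix (Fin n) (Fin n) F).mulVec v₀ =
        ((s : F)⁻¹ * t) • v₀ := by
      have h3 : (lift a : Matrix (Fin n) (Fin n) F).mulVec v₀ =
          ((s : F)⁻¹ * t) • (lift b : Matrix (Fin n) (Fin n) F).mulVec v₀ := by
        rw [mul_smul, ← h1, smul_smul, inv_mul_cancel₀ s.ne_zero, one_smul]
      have h4 : ((lift b)⁻¹ * lift b : Matrix.SpecialLinearGroup (Fin n) F) = 1 := inv_mul_cancel _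
      have h5 := congrArg (fun g : Matrix.SpecialLinearGroup (Fin n) F => (g : Matrix (Fin n) (Fin n) F).mulVec v₀) h4
      simp only [Matrix.SpecialLinearGroup.coe_mul, ← mulVec_mulVec, Matrix.SpecialLinearGroup.coe_one,
        one_mulVec] at h5
      rw [Matrix.SpecialLinearGroup.coe_mul, ← mulVec_mulVec, h3, mulVec_smul, h5]
    have h6 := scalar_of_eigen hr hrq hord hXm hXm1
      (C := (((lift b)⁻¹ * lift a : Matrix.SpecialLinearGroup (Fin n) F) : Matrix (Fin n) (Fin n) F)) (by
        have := congrArg (fun g : Matrix.SpecialLinearGroup (Fin n) F => (g : Matrix (Fin n) (Fin n) F)) hba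
        simpa only [Matrix.SpecialLinearGroup.coe_mul] using this) hv₀ h2
    have h7 : ((lift b)⁻¹ * lift a : Matrix.SpecialLinearGroup (Fin n) F) ∈
        center (Matrix.SpecialLinearGroup (Fin n) F) := by
      rw [mem_center_iff]
      intro g
      apply Subtype.ext
      change ((g * ((lift b)⁻¹ * lift a) : Matrix.SpecialLinearGroup (Fin n) F) : Matrix (Fin n) (Fin n) F) =
        ((((lift b)⁻¹ * lift a) * g : Matrix.SpecialLinearGroup (Fin n) F) : Matrix (Fin n) (Fin n) F)
      rw [Matrix.SpecialLinearGroup.coe_mul, Matrix.SpecialLinearGroup.coe_mul (_ * _) g, h6]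
      simp
    have h8 : a = b := by
      have h8 : pr F n ((lift b)⁻¹ * lift a) = 1 := by
        rw [← MonoidHom.mem_ker, ker_pr]
        exact h7
      rw [map_mul, map_inv, hlift, hlift, inv_mul_eq_one] at h8
      exact Subtype.ext h8.symm
    subst h8
    have h9 : s = t := by
      have h10 : ((s : F) - t) • (lift a : Matrix (Fin n) (Fin n) F).mulVec v₀ = 0 := by
        rw [sub_smul, h1, sub_self]
      rcases smul_eq_zero.1 h10 with h11 | h11
      · exact Units.ext (sub_eq_zero.1 h11)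
      · refine absurd ?_ (f (a, s)).2
        change (s : F) • (lift a : Matrix (Fin n) (Fin n) F).mulVec v₀ = 0
        rw [h11, smul_zero]
    rw [h9]
  have h1 := Nat.card_le_card_of_injective f hf
  rw [Nat.card_prod] at h1
  have h2 : Nat.card Fˣ = Fintype.card F - 1 := by
    rw [Nat.card_eq_fintype_card, Fintype.card_units]
  have h3 : Nat.card {v : Fin n → F // v ≠ 0} = Fintype.card F ^ n - 1 := by
    rw [Nat.card_eq_fintype_card, Fintype.card_subtype_compl]
    simp only [_root_.Fintype.card_pi, _root_.Finset.prod_const, _root_.Finset.card_univ, _root_.Fintype.card_fin, _root_.Fintype.card_unique]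
  rwa [h2, h3] at h1

/-- **At most one prime** `r` with `ord(q mod r) = n`. -/
theorem not_lt_of_may (hn : 3 ≤ n)
    (hex : (n, Fintype.card F) ∉ ({(3, 2), (3, 4), (4, 2), (4, 3)} : Set (ℕ × ℕ))) {r s : ℕ} (hr : r.Prime)
    (hr2 : r ≠ 2) (hs : s.Prime) (hrs : r < s) (hrq : ¬ r ∣ Fintype.card F)
    (hordr : orderOf ((Fintype.card F : ℕ) : ZMod r) = n) (hords : orderOf ((Fintype.card F : ℕ) : ZMod s) = n)
    (hd : r ∣ Nat.card (Matrix.ProjectiveSpecialLinearGroup (Fin n) F)) :
    ¬ May r (Matrix.ProjectiveSpecialLinearGroup (Fin n) F) := by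
  intro hM
  have : Fact r.Prime := ⟨hr⟩
  obtain ⟨x, hx⟩ := exists_prime_orderOf_dvd_card' r hd
  have h1 := hM.lt_of_minDeg' hr hr2 (minDeg hn hex) hx
  have h2 := card_centralizer hr hn hrq hordr hx
  set q := Fintype.card F with hq
  have hq2 : 2 ≤ q := Fintype.one_lt_card
  -- `D = (q^n - q)/(q-1)`, `(D + 1)(q - 1) = q^n - 1`
  obtain ⟨D, hD⟩ : ∃ D, D = (q ^ n - q) / (q - 1) := ⟨_, rfl⟩
  have hdvd : q - 1 ∣ q ^ n - q := by
    have h3 : q ^ n - q = q * (q ^ (n - 1) - 1) := by
      rw [Nat.mul_sub, mul_one, ← pow_succ']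
      congr 2
      omega
    rw [h3]
    exact dvd_mul_of_dvd_right (by simpa only [_root_.one_pow] using Nat.sub_dvd_pow_sub_pow q 1 (n - 1)) _
  have hDq : D * (q - 1) = q ^ n - q := by rw [hD, Nat.div_mul_cancel hdvd]
  have hqn : q ≤ q ^ n := Nat.le_self_pow (by omega) q
  have hM1 : (D + 1) * (q - 1) = q ^ n - 1 := by
    rw [add_mul, hDq, one_mul]
    (clear * - hq2 hqn; omega)
  rw [← hD] at h1
  rw [← hM1] at h2
  have h3 := Nat.le_of_mul_le_mul_right h2 (by omega)
  -- `r s ≤ D + 1`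
  have key : ∀ p : ℕ, p.Prime → orderOf ((q : ℕ) : ZMod p) = n → p ∣ D + 1 := by
    intro p hp hop
    have h4 : p ∣ q ^ n - 1 := by
      rw [pow_sub_one_iff hp (by omega), ← hop]
      exact pow_orderOf_eq_one _
    rw [← hM1, hp.dvd_mul] at h4
    rcases h4 with h4 | h4
    · exact h4
    · exfalso
      have h5 : p ∣ q ^ 1 - 1 := by rwa [pow_one]
      rw [pow_sub_one_iff hp (by omega)] at h5
      have h6 := Nat.le_of_dvd one_pos (orderOf_dvd_of_pow_eq_one h5)
      omega
  have h4 : r * s ∣ D + 1 := Nat.Coprime.mul_dvd_of_dvd_of_dvd ((Nat.coprime_primes hr hs).2 hrs.ne)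
    (key r hr hordr) (key s hs hords)
  have h5 := Nat.le_of_dvd (by omega) h4
  have h6 : D ^ 2 < (r - 1) ^ 2 * (D + 1) := lt_of_lt_of_le h1 (Nat.mul_le_mul_left _ h3)
  obtain ⟨a, rfl⟩ : ∃ a, r = a + 1 := ⟨r - 1, by have := hr.two_le; omega⟩
  rw [Nat.add_sub_cancel] at h6
  have h7 : (a + 1) * (a + 2) ≤ D + 1 := le_trans (Nat.mul_le_mul_left _ (by omega)) h5
  nlinarith only [h6, h7]

omit [Fintype F] in
/-- matrices over the prime field of characteristic 2 -/
theorem exists_two [CharP F 2] : ∃ f : Matrix.SpecialLinearGroup (Fin n) (ZMod 2) →*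
    Matrix.ProjectiveSpecialLinearGroup (Fin n) F, Function.Injective f := by
  let ι : ZMod 2 →+* F := ZMod.castHom dvd_rfl F
  have hι : Function.Injective ι := ι.injective
  refine ⟨(pr F n).comp (Matrix.SpecialLinearGroup.map ι), ?_⟩
  rw [injective_iff_map_eq_one]
  intro g hg
  have h1 : Matrix.SpecialLinearGroup.map ι g ∈ center (Matrix.SpecialLinearGroup (Fin n) F) := by
    rw [← ker_pr, MonoidHom.mem_ker]
    exact hg
  obtain ⟨c, -, hc⟩ := Matrix.SpecialLinearGroup.mem_center_iff.1 h1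
  have hent : ∀ i j, (scalar (Fin n) c) i j = ι ((g : Matrix (Fin n) (Fin n) (ZMod 2)) i j) := by
    intro i j
    rw [hc]
    rfl
  have hoff : ∀ i j, i ≠ j → (g : Matrix (Fin n) (Fin n) (ZMod 2)) i j = 0 := by
    intro i j hij
    apply hι
    rw [← hent, map_zero, scalar_apply, diagonal_apply_ne _ hij]
  have hdiag : (g : Matrix (Fin n) (Fin n) (ZMod 2)) = diagonal fun i => (g : Matrix (Fin n) (Fin n) (ZMod 2)) i i := by
    ext i j
    by_cases hij : i = j
    · subst hij
      rw [diagonal_apply_eq]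
    · rw [diagonal_apply_ne _ hij, hoff i j hij]
  have hdet : ∏ i, (g : Matrix (Fin n) (Fin n) (ZMod 2)) i i = 1 := by
    rw [← det_diagonal, ← hdiag]
    exact g.2
  have hone : ∀ i, (g : Matrix (Fin n) (Fin n) (ZMod 2)) i i = 1 := by
    intro i
    have h2 : (g : Matrix (Fin n) (Fin n) (ZMod 2)) i i ≠ 0 := by
      intro h3
      have h4 := Finset.prod_eq_zero (f := fun i => (g : Matrix (Fin n) (Fin n) (ZMod 2)) i i) (Finset.mem_univ i) h3
      exact zero_ne_one (h4.symm.trans hdet)
    generalize (g : Matrix (Fin n) (Fin n) (ZMod 2)) i i = a at h2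
    revert h2
    revert a
    decide
  apply Subtype.ext
  rw [hdiag]
  ext i j
  by_cases hij : i = j
  · subst hij
    rw [diagonal_apply_eq, hone]
    change 1 = (1 : Matrix (Fin n) (Fin n) (ZMod 2)) i i
    rw [one_apply_eq]
  · rw [diagonal_apply_ne _ hij]
    change 0 = (1 : Matrix (Fin n) (Fin n) (ZMod 2)) i j
    rw [one_apply_ne hij]

theorem not_may_three (hn : 3 ≤ n) [CharP F 2] {x y : Matrix.SpecialLinearGroup (Fin n) (ZMod 2)} (hx : x ^ 3 = 1)
    (hx1 : x ≠ 1) (hy : y ^ 7 = 1) (hy1 : y ≠ 1) (hxy : x * y = y ^ 2 * x) (hne : x * y ≠ y * x) :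
    ¬ May 3 (Matrix.ProjectiveSpecialLinearGroup (Fin n) F) := by
  have hs : IsSimpleGroup (Matrix.ProjectiveSpecialLinearGroup (Fin n) F) := S0249.result n hn
  obtain ⟨f, hf⟩ := exists_two (F := F) (n := n)
  have : Fact (Nat.Prime 3) := ⟨Nat.prime_three⟩
  have : Fact (Nat.Prime 7) := ⟨by norm_num⟩
  refine not_may_of_frob (x := f x) (y := f y) (l := 7) (a := 2) Nat.prime_three (by norm_num) (by norm_num)
    (by norm_num) (by norm_num) ?_ ?_ ?_ ?_
  · rw [orderOf_injective f hf]
    exact orderOf_eq_prime hx hx1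
  · rw [orderOf_injective f hf]
    exact orderOf_eq_prime hy hy1
  · rw [mul_inv_eq_iff_eq_mul, ← map_mul, hxy, map_mul, map_pow]
  · rw [← map_mul, ← map_mul]
    exact fun h => hne (hf h)

def x3 : Matrix.SpecialLinearGroup (Fin 3) (ZMod 2) := ⟨!![1, 0, 0; 0, 0, 1; 0, 1, 1], by decide +kernel⟩
def y3 : Matrix.SpecialLinearGroup (Fin 3) (ZMod 2) := ⟨!![0, 0, 1; 1, 0, 1; 0, 1, 0], by decide +kernel⟩
def x4 : Matrix.SpecialLinearGroup (Fin 4) (ZMod 2) :=
  ⟨!![1, 0, 0, 0; 0, 0, 1, 0; 0, 1, 1, 0; 0, 0, 0, 1], by decide +kernel⟩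
def y4 : Matrix.SpecialLinearGroup (Fin 4) (ZMod 2) :=
  ⟨!![0, 0, 1, 0; 1, 0, 1, 0; 0, 1, 0, 0; 0, 0, 0, 1], by decide +kernel⟩

theorem row_of {S : Type} [Group S] (a b : ℕ)
    (h : ∀ r : ℕ, r.Prime → r ≠ 2 → r ∣ Nat.card S → r ≠ a → r ≠ b → ¬ May r S) : Row S := by
  refine ⟨a, b, fun r hr hr2 hd hM => ?_⟩
  by_contra h1
  rw [not_or] at h1
  exact h r hr hr2 hd h1.1 h1.2 hM

theorem row_of_primes {S : Type} [Group S] {N a b c : ℕ} (hN : Nat.card S ∣ N)
    (hp : ∀ r : ℕ, r.Prime → r ∣ N → r = 2 ∨ r = a ∨ r = b ∨ r = c) (hc : ¬ May c S) : Row S := by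
  refine row_of a b fun r hr hr2 hd hra hrb => ?_
  rcases hp r hr (hd.trans hN) with h | h | h | h
  · exact absurd h hr2
  · exact absurd h hra
  · exact absurd h hrb
  · rw [h]; exact hc

end fin

/-- **The row `PSL_n(q)`, `n ≥ 3`.** -/
theorem row_psln {F : Type} [Field F] [Fintype F] (n : ℕ) (hn : 3 ≤ n) :
    Row (Matrix.ProjectiveSpecialLinearGroup (Fin n) F) := by
  classical
  by_cases hex : (n, Fintype.card F) ∈ ({(3, 2), (3, 4), (4, 2), (4, 3)} : Set (ℕ × ℕ))
  · simp only [Set.mem_insert_iff, Set.mem_singleton_iff, Prod.mk.injEq] at hex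
    have hcard := card_psl_dvd (F := F) n
    rw [Matrix.card_GL_field] at hcard
    have : Fact (Nat.Prime 2) := ⟨Nat.prime_two⟩
    have : Fact (Nat.Prime 3) := ⟨Nat.prime_three⟩
    rcases hex with ⟨rfl, hF⟩ | ⟨rfl, hF⟩ | ⟨rfl, hF⟩ | ⟨rfl, hF⟩
    · rw [hF] at hcard
      refine row_of 3 7 fun r hr hr2 hd hra hrb => ?_
      have h1 := hd.trans hcard
      rw [show ∏ i : Fin 3, (2 ^ 3 - 2 ^ (i : ℕ)) = 2 ^ 3 * 3 * 7 by decide, hr.dvd_mul, hr.dvd_mul] at h1
      rcases h1 with (h1 | h1) | h1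
      · exact absurd ((Nat.prime_dvd_prime_iff_eq hr Nat.prime_two).1 (hr.dvd_of_dvd_pow h1)) hr2
      · exact absurd ((Nat.prime_dvd_prime_iff_eq hr Nat.prime_three).1 h1) hra
      · exact absurd ((Nat.prime_dvd_prime_iff_eq hr (by norm_num)).1 h1) hrb
    · rw [hF, show ∏ i : Fin 3, (4 ^ 3 - 4 ^ (i : ℕ)) = 2 ^ 6 * 3 ^ 4 * 5 * 7 by decide] at hcard
      have : CharP F 2 := charP_of_card_eq_prime_pow (f := 2) (by rw [hF]; norm_num)
      refine row_of_primes (a := 5) (b := 7) (c := 3) hcard ?_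
        (not_may_three hn (x := x3) (y := y3) (by decide +kernel) (by decide +kernel) (by decide +kernel)
          (by decide +kernel) (by decide +kernel) (by decide +kernel))
      intro r hr h1
      rw [hr.dvd_mul, hr.dvd_mul, hr.dvd_mul] at h1
      rcases h1 with ((h1 | h1) | h1) | h1
      · exact Or.inl ((Nat.prime_dvd_prime_iff_eq hr Nat.prime_two).1 (hr.dvd_of_dvd_pow h1))
      · exact Or.inr (Or.inr (Or.inr ((Nat.prime_dvd_prime_iff_eq hr Nat.prime_three).1 (hr.dvd_of_dvd_pow h1))))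
      · exact Or.inr (Or.inl ((Nat.prime_dvd_prime_iff_eq hr Nat.prime_five).1 h1))
      · exact Or.inr (Or.inr (Or.inl ((Nat.prime_dvd_prime_iff_eq hr (by norm_num)).1 h1)))
    · rw [hF, show ∏ i : Fin 4, (2 ^ 4 - 2 ^ (i : ℕ)) = 2 ^ 6 * 3 ^ 2 * 5 * 7 by decide] at hcard
      have : CharP F 2 := charP_of_card_eq_prime_pow (f := 1) (by rw [hF]; norm_num)
      refine row_of_primes (a := 5) (b := 7) (c := 3) hcard ?_
        (not_may_three hn (x := x4) (y := y4) (by decide +kernel) (by decide +kernel) (by decide +kernel)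
          (by decide +kernel) (by decide +kernel) (by decide +kernel))
      intro r hr h1
      rw [hr.dvd_mul, hr.dvd_mul, hr.dvd_mul] at h1
      rcases h1 with ((h1 | h1) | h1) | h1
      · exact Or.inl ((Nat.prime_dvd_prime_iff_eq hr Nat.prime_two).1 (hr.dvd_of_dvd_pow h1))
      · exact Or.inr (Or.inr (Or.inr ((Nat.prime_dvd_prime_iff_eq hr Nat.prime_three).1 (hr.dvd_of_dvd_pow h1))))
      · exact Or.inr (Or.inl ((Nat.prime_dvd_prime_iff_eq hr Nat.prime_five).1 h1))
      · exact Or.inr (Or.inr (Or.inl ((Nat.prime_dvd_prime_iff_eq hr (by norm_num)).1 h1)))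
    · rw [hF, show ∏ i : Fin 4, (3 ^ 4 - 3 ^ (i : ℕ)) = 2 ^ 9 * 3 ^ 6 * 5 * 13 by decide] at hcard
      have : CharP F 3 := charP_of_card_eq_prime_pow (f := 1) (by rw [hF]; norm_num)
      refine row_of_primes (a := 5) (b := 13) (c := 3) hcard ?_ (not_may_char hn (by norm_num))
      intro r hr h1
      rw [hr.dvd_mul, hr.dvd_mul, hr.dvd_mul] at h1
      rcases h1 with ((h1 | h1) | h1) | h1
      · exact Or.inl ((Nat.prime_dvd_prime_iff_eq hr Nat.prime_two).1 (hr.dvd_of_dvd_pow h1))
      · exact Or.inr (Or.inr (Or.inr ((Nat.prime_dvd_prime_iff_eq hr Nat.prime_three).1 (hr.dvd_of_dvd_pow h1))))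
      · exact Or.inr (Or.inl ((Nat.prime_dvd_prime_iff_eq hr Nat.prime_five).1 h1))
      · exact Or.inr (Or.inr (Or.inl ((Nat.prime_dvd_prime_iff_eq hr (by norm_num)).1 h1)))
  -- the general case
  have hex' : (n, Fintype.card F) ∉ ({(3, 2), (3, 4), (4, 2)} : Set (ℕ × ℕ)) := by
    intro h
    apply hex
    simp only [Set.mem_insert_iff, Set.mem_singleton_iff] at h ⊢
    (clear * - h; tauto)
  have hord : ∀ r : ℕ, r.Prime → r ≠ 2 → r ∣ Nat.card (Matrix.ProjectiveSpecialLinearGroup (Fin n) F) →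
      May r (Matrix.ProjectiveSpecialLinearGroup (Fin n) F) → orderOf ((Fintype.card F : ℕ) : ZMod r) = n := by
    intro r hr hr2 hd hM
    by_contra h
    exact not_may hn hex' hr hr2 hd h hM
  have hndvd : ∀ r : ℕ, r.Prime → orderOf ((Fintype.card F : ℕ) : ZMod r) = n → ¬ r ∣ Fintype.card F := by
    intro r hr ho h
    have : Fact r.Prime := ⟨hr⟩
    have h1 : ((Fintype.card F : ℕ) : ZMod r) = 0 := (ZMod.natCast_eq_zero_iff _ _).2 h
    rw [h1] at ho
    have h2 : (0 : ZMod r) ^ orderOf (0 : ZMod r) = 1 := pow_orderOf_eq_one _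
    rw [ho, zero_pow (by omega)] at h2
    exact zero_ne_one h2
  by_cases h0 : ∃ a : ℕ, a.Prime ∧ a ≠ 2 ∧ a ∣ Nat.card (Matrix.ProjectiveSpecialLinearGroup (Fin n) F) ∧
      May a (Matrix.ProjectiveSpecialLinearGroup (Fin n) F)
  · obtain ⟨a, ha, ha2, had, haM⟩ := h0
    refine row_of a a fun r hr hr2 hd hra _ hM => ?_
    have hoa := hord a ha ha2 had haM
    have hor := hord r hr hr2 hd hM
    rcases lt_or_gt_of_ne hra with h | h
    · exact not_lt_of_may hn hex hr hr2 ha h (hndvd r hr hor) hor hoa hd hM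
    · exact not_lt_of_may hn hex ha ha2 hr h (hndvd a ha hoa) hoa hor had haM
  · refine row_of 2 2 fun r hr hr2 hd _ _ hM => h0 ⟨r, hr, hr2, hd, hM⟩

end Cfsg.Agent.H517.FpfPsl
end
end

-- part: H701/FpfTwo
section
prune_inst 0x800000000000000080000000000001c010000
set_option linter.all false
open scoped Cfsg.Agent.FastGrp

/-!
# Two commuting `SL_2` and the automizer of a cyclic subgroup of a linear group (helper701)

* `not_may_of_two` : two commuting homomorphic images of `SL_2(P)`, `SL_2(P')` with kernels in `±1`: no odd prime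
  dividing both orders satisfies `May r S`;
* `card_normalizer_le` : `S ≤ GL_n(F)`, `x ∈ S` of prime order `r`, `r ≠ 0` in `F`: `|N_S(⟨x⟩)| ≤ n |C_S(x)|`.
-/

set_option autoImplicit false
set_option linter.style.haveILetI false

namespace Cfsg.Agent.H701.FpfTwo

open Cfsg.Agent.H80.Fpf Matrix

universe u v w

theorem orderOf_hom_prime {K : Type*} [Field K] {G : Type*} [Group G] (f : SpecialLinearGroup (Fin 2) K →* G)
    (hf : ∀ g, f g = 1 → g = 1 ∨ g = -1) {r : ℕ} (hr : r.Prime) (hr2 : r ≠ 2) {a : SpecialLinearGroup (Fin 2) K}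
    (ha : orderOf a = r) : orderOf (f a) = r := by
  haveI : Fact r.Prime := ⟨hr⟩
  rw [orderOf_eq_prime_iff]
  constructor
  · rw [← map_pow, ← ha, pow_orderOf_eq_one, map_one]
  · intro h
    rcases hf a h with h | h
    · rw [h, orderOf_one] at ha
      exact hr.one_lt.ne ha
    · have h1 : a ^ 2 = 1 := by rw [h]; simp
      have h2 := orderOf_dvd_of_pow_eq_one h1
      rw [ha] at h2
      exact hr2 ((Nat.prime_dvd_prime_iff_eq hr Nat.prime_two).1 h2)

/-- **Two commuting `SL_2`.** -/
theorem not_may_of_two {S : Type u} [Group S] [Finite S] {P : Type v} {P' : Type w} [Field P] [Field P'] [Finite P]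
    [Finite P'] (f : SpecialLinearGroup (Fin 2) P →* S) (g : SpecialLinearGroup (Fin 2) P' →* S)
    (hf : ∀ x, f x = 1 → x = 1 ∨ x = -1) (hg : ∀ x, g x = 1 → x = 1 ∨ x = -1)
    (hfg : ∀ a b, f a * g b = g b * f a) {r : ℕ} (hr : r.Prime) (hr2 : r ≠ 2)
    (h1 : r ∣ Nat.card (SpecialLinearGroup (Fin 2) P)) (h2 : r ∣ Nat.card (SpecialLinearGroup (Fin 2) P')) :
    ¬ May r S := by
  haveI : Fact r.Prime := ⟨hr⟩
  obtain ⟨a, ha⟩ := exists_prime_orderOf_dvd_card' r h1
  obtain ⟨b, hb⟩ := exists_prime_orderOf_dvd_card' r h2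
  refine not_may_of_comm hr hr2 (hfg a b) (orderOf_hom_prime f hf hr hr2 ha) (orderOf_hom_prime g hg hr hr2 hb) ?_
  rintro ⟨k, hk⟩
  have hc : ∀ x, g b * g x = g x * g b := by
    intro x
    have h3 : Commute (f a) (g x) := hfg a x
    have h4 : Commute (f a ^ k) (g x) := h3.zpow_left k
    have h5 : f a ^ k = g b := hk
    rw [h5] at h4
    exact h4.eq
  have h3 : b = 1 ∨ b = -1 := Cfsg.Agent.H343.Tri.eq_one_or_of_comm (fun x => hg _ (by
    rw [map_mul, map_mul, map_mul, map_inv, map_inv, hc x]; group))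
  have hgb := orderOf_hom_prime g hg hr hr2 hb
  rcases h3 with h3 | h3
  · rw [h3, orderOf_one] at hb
    exact hr.one_lt.ne hb
  · have h4 : b ^ 2 = 1 := by rw [h3]; simp
    have h5 := orderOf_dvd_of_pow_eq_one h4
    rw [hb] at h5
    exact hr2 ((Nat.prime_dvd_prime_iff_eq hr Nat.prime_two).1 h5)

/-- a matrix of order `r ≠ 0` over an algebraically closed field has an eigenvalue of order `r` -/
theorem exists_root {n : Type*} [Fintype n] [DecidableEq n] {K : Type*} [Field K] [IsAlgClosed K] {M : Matrix n n K}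
    {r : ℕ} (hr : r.Prime) (hM : M ^ r = 1) (hM1 : M ≠ 1) (hr0 : (r : K) ≠ 0) :
    ∃ α : K, orderOf α = r ∧ ∃ v : n → K, v ≠ 0 ∧ M.mulVec v = α • v := by
  haveI : Fact r.Prime := ⟨hr⟩
  haveI : Nontrivial (Matrix n n K) := ⟨M, 1, hM1⟩
  -- some root of the minimal polynomial is not `1`
  have hmd : minpoly K M ∣ Polynomial.X ^ r - 1 := by
    apply minpoly.dvd
    simp [hM]
  have hsep : (Polynomial.X ^ r - 1 : Polynomial K).Separable :=
    Polynomial.separable_X_pow_sub_C (1 : K) hr0 one_ne_zero |>.of_dvd (by simp)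
  have hsep' : (minpoly K M).Separable := hsep.of_dvd hmd
  have hint : IsIntegral K M := Algebra.IsIntegral.isIntegral M
  by_contra hcon
  push Not at hcon
  have hall : ∀ α ∈ (minpoly K M).roots, α = 1 := by
    intro α hα
    have h1 : (minpoly K M).IsRoot α := (Polynomial.mem_roots'.1 hα).2
    have h2 : Module.End.HasEigenvalue (Matrix.toLin' M) α := by
      rw [Module.End.hasEigenvalue_iff_isRoot, Matrix.minpoly_toLin']
      exact h1
    obtain ⟨v, hv⟩ := h2.exists_hasEigenvector
    have h3 : M.mulVec v = α • v := by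
      have := hv.apply_eq_smul
      rwa [Matrix.toLin'_apply] at this
    have h4 : α ^ r = 1 := by
      have h5 : (Polynomial.X ^ r - 1 : Polynomial K).IsRoot α := h1.dvd hmd
      simpa [Polynomial.IsRoot, sub_eq_zero] using h5
    by_contra h5
    exact hcon α (orderOf_eq_prime h4 h5) v hv.2 h3
  have hspl : (minpoly K M).Splits := IsAlgClosed.splits _
  have hcard : Multiset.card (minpoly K M).roots = (minpoly K M).natDegree := by
    exact (Polynomial.splits_iff_card_roots.1 hspl)
  have hnd : (minpoly K M).roots.Nodup := Polynomial.nodup_roots hsep'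
  have hle : (minpoly K M).natDegree ≤ 1 := by
    rw [← hcard]
    have h1 : (minpoly K M).roots ≤ {1} := by
      rw [Multiset.le_iff_subset hnd]
      intro α hα
      rw [hall α hα]
      exact Multiset.mem_singleton_self _
    exact (Multiset.card_le_card h1).trans (by simp)
  have hpos : 0 < (minpoly K M).natDegree := minpoly.natDegree_pos hint
  have h1 : (minpoly K M).roots = {1} := by
    have h2 : Multiset.card (minpoly K M).roots = 1 := by omega
    obtain ⟨α, hα⟩ := Multiset.card_eq_one.1 h2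
    rw [hα, hall α (by rw [hα]; exact Multiset.mem_singleton_self _)]
  have h2 := Polynomial.Splits.eq_prod_roots_of_monic hspl (minpoly.monic hint)
  rw [h1] at h2
  simp only [Multiset.map_singleton, Multiset.prod_singleton, map_one] at h2
  have h3 := minpoly.aeval K M
  rw [h2] at h3
  simp only [map_sub, Polynomial.aeval_X, map_one] at h3
  exact hM1 (sub_eq_zero.1 h3)

/-- an eigenvalue is a root of the characteristic polynomial -/
theorem mem_roots_charpoly {n : Type*} [Fintype n] [DecidableEq n] {K : Type*} [Field K] {M : Matrix n n K}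
    {α : K} {v : n → K} (hv : v ≠ 0) (h : M.mulVec v = α • v) : α ∈ M.charpoly.roots := by
  have h1 : Module.End.HasEigenvalue (Matrix.toLin' M) α := by
    apply Module.End.hasEigenvalue_of_hasEigenvector (x := v)
    refine ⟨?_, hv⟩
    rw [Module.End.mem_eigenspace_iff, Matrix.toLin'_apply, h]
  rw [Module.End.hasEigenvalue_iff_isRoot, Matrix.minpoly_toLin'] at h1
  rw [Polynomial.mem_roots M.charpoly_monic.ne_zero]
  exact h1.dvd (Matrix.minpoly_dvd_charpoly M)

/-- **The automizer of a cyclic group of prime order in a linear group.** -/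
theorem card_normalizer_le {n : Type*} [Fintype n] [DecidableEq n] {F : Type*} [Field F] {S : Type*} [Group S]
    [Finite S] (ρ : S →* GL n F) (hρ : Function.Injective ρ) {x : S} {r : ℕ} (hr : r.Prime) (hx : orderOf x = r)
    (hF : (r : F) ≠ 0) :
    Nat.card (Subgroup.normalizer (Subgroup.zpowers x : Set S)) ≤
      Fintype.card n * Nat.card (Subgroup.centralizer ({x} : Set S)) := by
  classical
  let K := AlgebraicClosure F
  let M : S → Matrix n n K := fun s => (ρ s : Matrix n n F).map (algebraMap F K)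
  have hMmul : ∀ a b, M (a * b) = M a * M b := by
    intro a b
    show ((ρ (a * b) : GL n F) : Matrix n n F).map (algebraMap F K) = _
    rw [map_mul, Units.val_mul, Matrix.map_mul]
  have hM1 : M 1 = 1 := by
    show ((ρ 1 : GL n F) : Matrix n n F).map (algebraMap F K) = _
    rw [map_one, Units.val_one]
    exact Matrix.map_one _ (map_zero _) (map_one _)
  have hMpow : ∀ a (k : ℕ), M (a ^ k) = M a ^ k := by
    intro a k
    induction k with
    | zero => rw [pow_zero, pow_zero, hM1]
    | succ k ih => rw [pow_succ, pow_succ, hMmul, ih]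
  have hMinj : Function.Injective M := by
    intro a b hab
    apply hρ
    apply Units.ext
    exact Matrix.map_injective (algebraMap F K).injective hab
  have hx1 : x ≠ 1 := by
    rintro rfl
    rw [orderOf_one] at hx
    exact hr.one_lt.ne hx
  obtain ⟨α, hα, v, hv, hMv⟩ := exists_root hr (M := M x) (by rw [← hMpow, ← hx, pow_orderOf_eq_one, hM1])
    (by rw [← hM1]; exact fun h => hx1 (hMinj h)) (by
      intro h
      apply hF
      apply (algebraMap F K).injective
      rw [map_natCast, map_zero]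
      exact h)
  have hMvk : ∀ k : ℕ, (M (x ^ k)).mulVec v = α ^ k • v := by
    intro k
    induction k with
    | zero => rw [pow_zero, hM1, Matrix.one_mulVec, pow_zero, one_smul]
    | succ k ih =>
      rw [pow_succ, hMmul, ← Matrix.mulVec_mulVec, hMv, Matrix.mulVec_smul, ih, smul_smul, pow_succ, mul_comm]
  let N := Subgroup.normalizer (Subgroup.zpowers x : Set S)
  have hk : ∀ y : N, ∃ k : ℕ, (y : S) * x * (y : S)⁻¹ = x ^ k := by
    intro y
    have h1 : (y : S) * x * (y : S)⁻¹ ∈ Subgroup.zpowers x :=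
      (Subgroup.mem_normalizer_iff.1 y.2 x).1 (Subgroup.mem_zpowers x)
    rw [← mem_powers_iff_mem_zpowers] at h1
    obtain ⟨k, hk⟩ := h1
    exact ⟨k, hk.symm⟩
  choose k hk using hk
  have hroot : ∀ y : N, α ^ k y ∈ (M x).charpoly.roots.toFinset := by
    intro y
    rw [Multiset.mem_toFinset]
    apply mem_roots_charpoly (v := (M (y : S)⁻¹).mulVec v)
    · intro h0
      apply hv
      have h1 : (M (y : S)).mulVec ((M (y : S)⁻¹).mulVec v) = v := by
        rw [Matrix.mulVec_mulVec, ← hMmul, mul_inv_cancel, hM1, Matrix.one_mulVec]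
      rw [← h1, h0, Matrix.mulVec_zero]
    · rw [Matrix.mulVec_mulVec, ← hMmul]
      have h1 : x * (y : S)⁻¹ = (y : S)⁻¹ * x ^ k y := by
        rw [← hk y]; group
      rw [h1, hMmul, ← Matrix.mulVec_mulVec, hMvk, Matrix.mulVec_smul]
  haveI : Fintype N := Fintype.ofFinite N
  let f : N → K := fun y => α ^ k y
  have h1 : ∀ a ∈ Finset.univ.image f, (Finset.univ.filter (f · = a)).card ≤
      Nat.card (Subgroup.centralizer ({x} : Set S)) := by
    intro a ha
    obtain ⟨y₀, -, rfl⟩ := Finset.mem_image.1 ha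
    haveI : Fintype (Subgroup.centralizer ({x} : Set S)) := Fintype.ofFinite _
    rw [Nat.card_eq_fintype_card, ← Finset.card_univ]
    have hmem : ∀ y : N, f y = f y₀ → (y₀ : S)⁻¹ * (y : S) ∈ Subgroup.centralizer ({x} : Set S) := by
      intro y hy
      have h2 : α ^ k y = α ^ k y₀ := hy
      have h2' : k y % r = k y₀ % r := by
        rw [← pow_mod_orderOf α (k y), ← pow_mod_orderOf α (k y₀), hα] at h2
        have h5 : IsPrimitiveRoot α r := by
          have := IsPrimitiveRoot.orderOf α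
          rwa [hα] at this
        exact h5.pow_inj (Nat.mod_lt _ hr.pos) (Nat.mod_lt _ hr.pos) h2
      have h3 : x ^ k y = x ^ k y₀ := by
        rw [pow_inj_mod, hx, h2']
      rw [← hk y, ← hk y₀] at h3
      rw [Subgroup.mem_centralizer_singleton_iff]
      have h4 : (y : S) * x = (y₀ : S) * x * (y₀ : S)⁻¹ * y := by
        rw [← h3]; group
      calc (y₀ : S)⁻¹ * (y : S) * x = (y₀ : S)⁻¹ * ((y : S) * x) := by group
        _ = (y₀ : S)⁻¹ * ((y₀ : S) * x * (y₀ : S)⁻¹ * y) := by rw [h4]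
        _ = x * ((y₀ : S)⁻¹ * (y : S)) := by group
    refine Finset.card_le_card_of_injOn (fun y => if h : f y = f y₀ then ⟨_, hmem y h⟩ else 1)
      (fun _ _ => Finset.mem_coe.2 (Finset.mem_univ _)) ?_
    intro y hy y' hy' h2
    have hy1 : f y = f y₀ := (Finset.mem_filter.1 (Finset.mem_coe.1 hy)).2
    have hy2 : f y' = f y₀ := (Finset.mem_filter.1 (Finset.mem_coe.1 hy')).2
    simp only [hy1, hy2, dif_pos] at h2
    have h3 : (y₀ : S)⁻¹ * (y : S) = (y₀ : S)⁻¹ * (y' : S) := congrArg Subtype.val h2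
    exact Subtype.ext (mul_left_cancel h3)
  have h2 := Finset.card_le_mul_card_image Finset.univ (Nat.card (Subgroup.centralizer ({x} : Set S))) h1
  have h3 : (Finset.univ.image f).card ≤ Fintype.card n := by
    have h4 : Finset.univ.image f ⊆ (M x).charpoly.roots.toFinset := by
      intro a ha
      obtain ⟨y, -, rfl⟩ := Finset.mem_image.1 ha
      exact hroot y
    calc (Finset.univ.image f).card ≤ (M x).charpoly.roots.toFinset.card := Finset.card_le_card h4
      _ ≤ Multiset.card (M x).charpoly.roots := Multiset.toFinset_card_le _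
      _ ≤ (M x).charpoly.natDegree := Polynomial.card_roots' _
      _ = Fintype.card n := Matrix.charpoly_natDegree_eq_dim _
  rw [Finset.card_univ] at h2
  rw [Nat.card_eq_fintype_card]
  calc Fintype.card N ≤ Nat.card (Subgroup.centralizer ({x} : Set S)) * (Finset.univ.image f).card := h2
    _ ≤ Nat.card (Subgroup.centralizer ({x} : Set S)) * Fintype.card n := Nat.mul_le_mul_left _ h3
    _ = _ := mul_comm _ _

end Cfsg.Agent.H701.FpfTwo
end

-- part: H701/FpfG2
section
prune_inst 0x800000000000000080000000000001c010000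
set_option linter.all false
open scoped Cfsg.Agent.FastGrp

/-!
# `G₂(q)`: at most two fixed-point-free primes (helper701, for S4228)

* `row_G2` : `Row (G₂(q))`, `q ≥ 3`;
* `not_may_small` : `r ∣ q (q^2 - 1)` (two commuting root `SL_2(q)`), `not_may_big` : `q ≥ 5`, all other `r`.
-/

set_option autoImplicit false
set_option linter.style.haveILetI false

namespace Cfsg.Agent.H701.FpfG2

open Cfsg Cfsg.Lie Matrix
open Cfsg.Agent.H80.Fpf Cfsg.Agent.H701.FpfTwo Cfsg.Agent.H343 Cfsg.Agent.ETable.Exc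
open Cfsg.Agent.H378.ExcAdj Cfsg.Agent.H378.RegFin Cfsg.Agent.Nodes.RGDChev Cfsg.Agent.BpExc.FamInst
open Cfsg.Agent.BpExc.RowsUntw

theorem so_G2 : SO chevG2 11 7 := by decide +kernel

section

variable {F : Type} [Field F] [Fintype F]

/-- the primes dividing `q (q^2 - 1)` -/
theorem not_may_small {r : ℕ} (hr : r.Prime) (hr2 : r ≠ 2)
    (h : r ∣ Fintype.card F * (Fintype.card F ^ 2 - 1)) : ¬ May r ↥(chevG2.group F) := by
  have h11 := rootIn_group F inList_G2 (r := 11) (by decide)
  have h7 := rootIn_group F inList_G2 (r := 7) (by decide)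
  have hc : r ∣ Nat.card (SpecialLinearGroup (Fin 2) F) := by
    rw [Cfsg.Agent.ClassicalGeometry.PSL2Basic.card_SL2]; exact h
  exact not_may_of_two h11.hom h7.hom (fun _ => h11.ker) (fun _ => h7.ker) (h11.comm h7 so_G2) hr hr2 hc hc

theorem exists_elt (h3 : 3 ≤ Fintype.card F) : ∃ a : F, a ≠ 0 ∧ a ≠ 1 := by
  classical
  by_contra hcon
  push Not at hcon
  have h1 : (Finset.univ : Finset F) ⊆ {0, 1} := by
    intro a _
    by_cases h : a = 0
    · rw [h]; simp
    · rw [hcon a h]; simp
  have h2 := Finset.card_le_card h1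
  rw [Finset.card_univ] at h2
  have h3' : ({0, 1} : Finset F).card ≤ 2 := Finset.card_le_two
  omega

theorem simple (h3 : 3 ≤ Fintype.card F) : IsSimpleGroup ↥(chevG2.group F) :=
  (Cfsg.Agent.S1055.result (exists_elt h3)).1

theorem perfect (h3 : 3 ≤ Fintype.card F) : commutator ↥(chevG2.group F) = ⊤ := by
  have h1 := Cfsg.Agent.S1055.result (exists_elt h3)
  haveI := h1.1
  by_contra hcon
  apply h1.2
  refine ⟨⟨?_⟩⟩
  by_contra hcon2
  push Not at hcon2
  obtain ⟨a, b, hab⟩ := hcon2
  exact hcon (perfect_of_simple hab)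

theorem minDeg (h5 : 5 ≤ Fintype.card F) : MinDeg ↥(chevG2.group F) (Fintype.card F ^ 3 - 1) := by
  refine minDeg_of_mult_one (perfect (by omega)) (multDvd_of_cyclic one_ne_zero (Cfsg.Agent.S2100.result h5)) ?_
  intro d ρ hρ hd
  obtain ⟨h1, h2, h3⟩ := Cfsg.Agent.S2338.result d ρ hρ hd
  have h4 : Fintype.card F % 3 = 0 ∨ Fintype.card F % 3 = 1 ∨ Fintype.card F % 3 = 2 := by omega
  rcases h4 with h4 | h4 | h4
  · have h5' := h3 h4 (by omega)
    have h6 : Fintype.card F ^ 3 ≤ Fintype.card F ^ 4 := Nat.pow_le_pow_right (by omega) (by norm_num)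
    omega
  · have h5' := h1 h4 (by omega)
    omega
  · exact h2 h4 (by omega)

theorem ne_zero {r : ℕ} (hr : r.Prime) (h : ¬ r ∣ Fintype.card F) : (r : F) ≠ 0 := by
  intro h0
  apply h
  obtain ⟨p, hp⟩ := CharP.exists F
  obtain ⟨n, hpp, hn⟩ := FiniteField.card F p
  have h1 : p ∣ r := (CharP.cast_eq_zero_iff F p r).1 h0
  have h2 : p = r := (Nat.prime_dvd_prime_iff_eq hpp hr).1 h1
  rw [hn, h2]
  exact dvd_pow_self _ n.2.ne'

theorem card_idx : Fintype.card chevG2.Idx = 14 := by decide +kernel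

theorem eval3 (q : ℤ) : (Polynomial.cyclotomic 3 ℤ).eval q = q ^ 2 + q + 1 := by
  rw [Polynomial.cyclotomic_three]; simp

theorem eval6 (q : ℤ) : (Polynomial.cyclotomic 6 ℤ).eval q = q ^ 2 - q + 1 := by
  rw [Polynomial.cyclotomic_six]; simp

/-- the primes with `q` of order 3 or 6 -/
theorem not_may_big (h5 : 5 ≤ Fintype.card F) {r : ℕ} (hr : r.Prime) (hr2 : r ≠ 2)
    (hd : r ∣ Nat.card ↥(chevG2.group F)) (h : od (Nat.card F) r = 3 ∨ od (Nat.card F) r = 6) :
    ¬ May r ↥(chevG2.group F) := by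
  intro hM
  haveI : Fact r.Prime := ⟨hr⟩
  haveI := simple (F := F) (by omega)
  obtain ⟨x, hx⟩ := exists_prime_orderOf_dvd_card' r hd
  have hcard : Nat.card F = Fintype.card F := Nat.card_eq_fintype_card
  have hrF : ¬ r ∣ Fintype.card F := by
    rw [← hcard]
    rcases h with h | h
    · exact not_dvd_q hr h (by norm_num)
    · exact not_dvd_q hr h (by norm_num)
  have hC : Nat.card ↥(Subgroup.centralizer ({x} : Set ↥(chevG2.group F))) ≤ Fintype.card F ^ 2 + Fintype.card F + 1 := by
    obtain ⟨m, hm, hm2⟩ : ∃ m : ℕ, od (Nat.card F) r = m ∧ (m = 3 ∨ m = 6) := ⟨_, rfl, h⟩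
    have h1 := (cent_od g2T inv_G2 one_ne_zero hr hx hm (by rcases hm2 with rfl | rfl <;> decide)
      (by rcases hm2 with rfl | rfl <;> norm_num)).2
    rw [hcard] at h1
    rcases hm2 with rfl | rfl
    · rw [eval3] at h1
      have h2 : ((Fintype.card F : ℤ) ^ 2 + (Fintype.card F : ℤ) + 1).natAbs = Fintype.card F ^ 2 + Fintype.card F + 1 := by
        have : ((Fintype.card F : ℤ) ^ 2 + (Fintype.card F : ℤ) + 1) = ((Fintype.card F ^ 2 + Fintype.card F + 1 : ℕ) : ℤ) := by
          push_cast; ring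
        rw [this, Int.natAbs_natCast]
      rw [h2] at h1
      exact Nat.le_of_dvd (by positivity) h1
    · rw [eval6] at h1
      have hle : Fintype.card F ≤ Fintype.card F ^ 2 := Nat.le_self_pow two_ne_zero _
      have h2 : ((Fintype.card F : ℤ) ^ 2 - (Fintype.card F : ℤ) + 1).natAbs = Fintype.card F ^ 2 - Fintype.card F + 1 := by
        have : ((Fintype.card F : ℤ) ^ 2 - (Fintype.card F : ℤ) + 1) = ((Fintype.card F ^ 2 - Fintype.card F + 1 : ℕ) : ℤ) := by
          push_cast [Nat.cast_sub hle]; ring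
        rw [this, Int.natAbs_natCast]
      rw [h2] at h1
      have := Nat.le_of_dvd (by positivity) h1
      omega
  have hrC : r ≤ Fintype.card F ^ 2 + Fintype.card F + 1 := by
    refine le_trans ?_ hC
    have h1 : r ∣ Nat.card ↥(Subgroup.centralizer ({x} : Set ↥(chevG2.group F))) := by
      have h2 : x ∈ Subgroup.centralizer ({x} : Set ↥(chevG2.group F)) := Subgroup.mem_centralizer_singleton_iff.2 rfl
      rw [← hx, ← Subgroup.orderOf_mk x h2]
      exact orderOf_dvd_natCard _
    exact Nat.le_of_dvd Nat.card_pos h1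
  have hN := card_normalizer_le (chevG2.group F).subtype (Subgroup.subtype_injective _) hr hx (ne_zero hr hrF)
  rw [card_idx] at hN
  have h1 := hM.lt_of_minDeg hr hr2 (minDeg h5) hx
  have hr1 := hr.two_le
  generalize Nat.card ↥(Subgroup.normalizer ((Subgroup.zpowers x : Subgroup ↥(chevG2.group F)) : Set ↥(chevG2.group F))) = N at *
  generalize Nat.card ↥(Subgroup.centralizer ({x} : Set ↥(chevG2.group F))) = C at *
  generalize Fintype.card F = q at *
  obtain ⟨s, rfl⟩ : ∃ s, q = s + 5 := ⟨q - 5, by omega⟩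
  have h2 : (r - 1) * N ≤ ((s + 5) ^ 2 + (s + 5)) * (14 * ((s + 5) ^ 2 + (s + 5) + 1)) :=
    Nat.mul_le_mul (by omega) (hN.trans (Nat.mul_le_mul_left _ hC))
  have h3 : (s + 5) ^ 3 - 1 = s ^ 3 + 15 * s ^ 2 + 75 * s + 124 := by
    have : (s + 5) ^ 3 = s ^ 3 + 15 * s ^ 2 + 75 * s + 125 := by ring
    omega
  rw [h3] at h1
  have h4 : ((s + 5) ^ 2 + (s + 5)) * (14 * ((s + 5) ^ 2 + (s + 5) + 1)) ≤ (s ^ 3 + 15 * s ^ 2 + 75 * s + 124) ^ 2 := by
    ring_nf
    nlinarith [Nat.zero_le s, Nat.zero_le (s ^ 2), Nat.zero_le (s ^ 3), Nat.zero_le (s ^ 4), Nat.zero_le (s ^ 5), Nat.zero_le (s ^ 6)]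
  omega

end

/-- **`G₂(q)`, `q ≥ 3`.** -/
theorem row_G2 {F : Type} [Field F] [Fintype F] (hF : 3 ≤ Fintype.card F) : Row ↥(Cfsg.Lie.chevG2.group F) := by
  refine row_of 7 13 fun r hr hr2 hd h7 h13 => ?_
  rcases Nat.lt_or_ge (Fintype.card F) 5 with h5 | h5
  · apply not_may_small hr hr2
    have h1 := hd
    rw [Cfsg.Agent.S1059.result rfl] at h1
    have h2 : Fintype.card F = 3 ∨ Fintype.card F = 4 := by omega
    rcases h2 with h2 | h2
    · rw [h2] at h1 ⊢
      have h3 : r ∣ 3 ^ 6 * 2 ^ 6 * 7 * 13 := by norm_num at h1 ⊢; exact h1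
      rw [hr.dvd_mul, hr.dvd_mul, hr.dvd_mul] at h3
      rcases h3 with ((h3 | h3) | h3) | h3
      · have := (Nat.prime_dvd_prime_iff_eq hr Nat.prime_three).1 (hr.dvd_of_dvd_pow h3)
        rw [this]; norm_num
      · exact absurd ((Nat.prime_dvd_prime_iff_eq hr Nat.prime_two).1 (hr.dvd_of_dvd_pow h3)) hr2
      · exact absurd ((Nat.prime_dvd_prime_iff_eq hr (by norm_num)).1 h3) h7
      · exact absurd ((Nat.prime_dvd_prime_iff_eq hr (by norm_num)).1 h3) h13
    · rw [h2] at h1 ⊢
      have h3 : r ∣ 2 ^ 12 * 3 ^ 3 * 5 ^ 2 * 7 * 13 := by norm_num at h1 ⊢; exact h1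
      rw [hr.dvd_mul, hr.dvd_mul, hr.dvd_mul, hr.dvd_mul] at h3
      rcases h3 with (((h3 | h3) | h3) | h3) | h3
      · exact absurd ((Nat.prime_dvd_prime_iff_eq hr Nat.prime_two).1 (hr.dvd_of_dvd_pow h3)) hr2
      · have := (Nat.prime_dvd_prime_iff_eq hr Nat.prime_three).1 (hr.dvd_of_dvd_pow h3)
        rw [this]; norm_num
      · have := (Nat.prime_dvd_prime_iff_eq hr Nat.prime_five).1 (hr.dvd_of_dvd_pow h3)
        rw [this]; norm_num
      · exact absurd ((Nat.prime_dvd_prime_iff_eq hr (by norm_num)).1 h3) h7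
      · exact absurd ((Nat.prime_dvd_prime_iff_eq hr (by norm_num)).1 h3) h13
  · have hcard : Nat.card F = Fintype.card F := Nat.card_eq_fintype_card
    have hq : 1 ≤ Nat.card F := Nat.card_pos
    rcases od_G2 hr hd with h | h | h | h | h
    · apply not_may_small hr hr2
      rw [← hcard]
      exact dvd_mul_of_dvd_left h _
    · apply not_may_small hr hr2
      rw [← hcard]
      exact dvd_mul_of_dvd_right (dvd_of_od_dvd hq (by rw [h]; norm_num)) _
    · apply not_may_small hr hr2
      rw [← hcard]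
      exact dvd_mul_of_dvd_right (dvd_of_od_dvd hq (by rw [h])) _
    · exact not_may_big h5 hr hr2 hd (Or.inl h)
    · exact not_may_big h5 hr hr2 hd (Or.inr h)

end Cfsg.Agent.H701.FpfG2
end

-- part: H631/Fpf/ParE6
section
prune_inst 0x800000000000000080000000000001c010000
set_option linter.all false
open scoped Cfsg.Agent.FastGrp

/-!
# `E₆(q)`: the parabolic subgroup of type `D₅` (for S4228, helper631)

`not_may_small` : the primes `r` for which `q` has order `1, 2, 3, 4, 5, 6, 8` modulo `r`; `not_may_self_E6` : the characteristic.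
-/

set_option autoImplicit false
set_option linter.unusedSectionVars false
set_option linter.style.haveILetI false

namespace Cfsg.Agent.H631.Fpf.ParE6

universe u

open CoxeterSystem Cfsg.Agent.ChevalleyStructure.CoxeterGeom Cfsg.Agent.ChevalleyStructure.CoxeterGeomTypes
  Cfsg.Agent.Tits.Roots Cfsg.Agent.Tits.Core
  Cfsg.Agent.Nodes.Reps Cfsg.Agent.Nodes.BNOf Cfsg.Agent.Nodes.StabComb Cfsg.Agent.Nodes.Bruhat
  Cfsg.Agent.Nodes.LeviDec Cfsg.Agent.H35.ExcIdx Cfsg.Agent.H134.StrP
open Cfsg.Lie Cfsg.Agent.Nodes.RGDChev Cfsg.Agent.ChevalleyStructure.Elts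
open Cfsg.Agent.H80.Fpf Cfsg.Agent.H631.Fpf Cfsg.Agent.H378.ExcAdj Cfsg.Agent.H378.CycTab Cfsg.Agent.H493.PGTorus

theorem tab_D5 : Tab (cartanOf chevE6 6) [0, 1, 2, 3, 4] 0 [(![1, 0, 0, 0, 0, 0], 0), (![-1, 0, 1, 0, 0, 0], 1),
    (![0, 0, -1, 1, 0, 0], 2), (![0, 1, 0, -1, 1, 0], 3), (![0, -1, 0, 0, 1, 0], 4), (![0, 1, 0, 0, -1, 1], 4),
    (![0, -1, 0, 1, -1, 1], 5), (![0, 0, 1, -1, 0, 1], 6), (![1, 0, -1, 0, 0, 1], 7), (![-1, 0, 0, 0, 0, 1], 8)] :=
  Tab.of_check (by decide +kernel)

theorem tab_D4 : Tab (cartanOf chevE6 6) [1, 2, 3, 4] 4 [(![0, 0, 0, 0, 1, 0], 0), (![0, 0, 0, 1, -1, 1], 1),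
    (![0, 1, 1, -1, 0, 1], 2), (![0, -1, 1, 0, 0, 1], 3), (![1, 1, -1, 0, 0, 1], 3), (![1, -1, -1, 1, 0, 1], 4),
    (![1, 0, 0, -1, 1, 1], 5), (![1, 0, 0, 0, -1, 2], 6)] :=
  Tab.of_check (by decide +kernel)

theorem path_A3 : PathOK CoxeterMatrix.E₆ [1, 2, 3] [1, 3, 2] [] 1 := by constructor <;> decide +kernel

section

variable {F : Type} [Field F] [Fintype F]

/-- the order of the parabolic subgroup of type `D₅` -/
theorem card_PD5 : Nat.card ↥(PJ CoxeterMatrix.E₆.toCoxeterSystem hpE6.isCartan (TT chevE6 F) (XX chevE6 6 F)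
      {j | j ∈ ([0, 1, 2, 3, 4] : List (Fin 6))}) =
    ((Fintype.card F ^ 4 + 1) * (Fintype.card F ^ 4 + Fintype.card F ^ 3 + Fintype.card F ^ 2 + Fintype.card F + 1)) *
      (((Fintype.card F ^ 3 + 1) * (Fintype.card F ^ 3 + Fintype.card F ^ 2 + Fintype.card F + 1)) *
        ((1 + Fintype.card F) * (1 + Fintype.card F + Fintype.card F ^ 2) *
          (1 + Fintype.card F + Fintype.card F ^ 2 + Fintype.card F ^ 3))) *
      Nat.card ↥(RGD.B CoxeterMatrix.E₆.toCoxeterSystem hpE6.isCartan (TT chevE6 F) (XX chevE6 6 F)) := by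
  obtain ⟨l, hl⟩ := CharP.exists F
  haveI : Fact l.Prime := ⟨CharP.char_is_prime F l⟩
  haveI := finite_W hpE6 CoxeterMatrix.E₆.toCoxeterSystem
  have R := rgd (K := F) hpE6 CoxeterMatrix.E₆.toCoxeterSystem l
  have hc : ∀ i, Nat.card (XX chevE6 6 F (sr i)) = Fintype.card F := fun i => by
    rw [card_XX hpE6 F CoxeterMatrix.E₆.toCoxeterSystem (isRoot_sr _ _ i), Nat.card_eq_fintype_card]
  have h1 := card_step R path_A3 (y := Fintype.card F) (fun i _ => hc i) (card_nil R)
  have h2 := card_tab_step R tab_D4 (y := Fintype.card F) (fun i _ => hc i) (J' := [1, 2, 3]) (by decide) h1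
  have h3 := card_tab_step R tab_D5 (y := Fintype.card F) (fun i _ => hc i) (J' := [1, 2, 3, 4]) (by decide) h2
  rw [h3]
  simp only [List.map_cons, List.map_nil, List.sum_cons, List.sum_nil, List.length_cons, List.length_nil, FA,
    Finset.prod_range_succ, Finset.prod_range_zero, Finset.sum_range_succ, Finset.sum_range_zero]
  congr 1
  ring

theorem TT_le_PJ {J : Set (Fin 6)} : TT chevE6 F ≤
    PJ CoxeterMatrix.E₆.toCoxeterSystem hpE6.isCartan (TT chevE6 F) (XX chevE6 6 F) J :=
  le_trans le_sup_left B_le_PJ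

theorem dvd_PD5 {r : ℕ} (hr : r.Prime) (h : od (Nat.card F) r = 1 ∨ od (Nat.card F) r = 2 ∨ od (Nat.card F) r = 3 ∨
    od (Nat.card F) r = 4 ∨ od (Nat.card F) r = 5 ∨ od (Nat.card F) r = 6 ∨ od (Nat.card F) r = 8) :
    r ∣ Nat.card ↥(PJ CoxeterMatrix.E₆.toCoxeterSystem hpE6.isCartan (TT chevE6 F) (XX chevE6 6 F)
      {j | j ∈ ([0, 1, 2, 3, 4] : List (Fin 6))}) := by
  have hq : Nat.card F = Fintype.card F := Nat.card_eq_fintype_card
  rcases h with h | h
  · -- the torus
    have h1 : r ∣ Fintype.card F - 1 := by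
      rw [← hq]; exact dvd_of_od_one (by rw [hq]; exact Fintype.card_pos) h
    refine dvd_trans ?_ (Subgroup.card_dvd_of_le (TT_le_PJ (F := F)
      (J := {j | j ∈ ([0, 1, 2, 3, 4] : List (Fin 6))})))
    have h2 : Nat.gcd 3 (Fintype.card F - 1) * Nat.card (TT chevE6 F) = (Fintype.card F - 1) ^ 6 := by
      rw [Nat.card_congr (Subgroup.subgroupOfEquivOfLe (diagonal_le_group hpE6.inList F)).toEquiv]
      exact Cfsg.Agent.S1035.result (F := F) rfl (chevE6, Nat.gcd 3 (Fintype.card F - 1)) (by simp)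
    by_contra hn
    have h3 : r ^ 6 ∣ Nat.gcd 3 (Fintype.card F - 1) := by
      have h4 : r ^ 6 ∣ Nat.gcd 3 (Fintype.card F - 1) * Nat.card (TT chevE6 F) := by
        rw [h2]; exact pow_dvd_pow_of_dvd h1 6
      exact (Nat.Coprime.pow_left 6 ((Nat.Prime.coprime_iff_not_dvd hr).2 hn)).dvd_of_dvd_mul_right h4
    have h4 := Nat.le_of_dvd (Nat.gcd_pos_of_pos_left _ (by norm_num)) h3
    have h5 : Nat.gcd 3 (Fintype.card F - 1) ≤ 3 := Nat.gcd_le_left _ (by norm_num)
    have h6 : 2 ^ 6 ≤ r ^ 6 := Nat.pow_le_pow_left hr.two_le 6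
    omega
  · rw [card_PD5]
    refine Dvd.dvd.mul_right ?_ _
    have hcast : ∀ (P : ℤ) (N : ℕ), (r : ℤ) ∣ P → P ∣ (N : ℤ) → r ∣ N := fun P N h1 h2 =>
      Int.natCast_dvd_natCast.1 (h1.trans h2)
    rcases h with h | h | h | h | h | h
    · have h1 := dvd2 hr h
      rw [pv2, hq] at h1
      refine hcast _ _ h1 ?_
      push_cast
      generalize ((Fintype.card F : ℕ) : ℤ) = q
      exact ⟨(q ^ 4 + 1) * (q ^ 4 + q ^ 3 + q ^ 2 + q + 1) * ((q ^ 3 + 1) * (q ^ 3 + q ^ 2 + q + 1) *
        ((1 + q + q ^ 2) * (1 + q + q ^ 2 + q ^ 3))), by ring⟩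
    · have h1 := dvd3 hr h
      rw [pv3, hq] at h1
      refine hcast _ _ h1 ?_
      push_cast
      generalize ((Fintype.card F : ℕ) : ℤ) = q
      exact ⟨(q ^ 4 + 1) * (q ^ 4 + q ^ 3 + q ^ 2 + q + 1) * ((q ^ 3 + 1) * (q ^ 3 + q ^ 2 + q + 1) *
        ((1 + q) * (1 + q + q ^ 2 + q ^ 3))), by ring⟩
    · have h1 := dvd4 hr h
      rw [pv4, hq] at h1
      refine hcast _ _ h1 ?_
      push_cast
      generalize ((Fintype.card F : ℕ) : ℤ) = q
      exact ⟨(q ^ 4 + 1) * (q ^ 4 + q ^ 3 + q ^ 2 + q + 1) * ((q ^ 3 + 1) * (q + 1) *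
        ((1 + q) * (1 + q + q ^ 2) * (1 + q + q ^ 2 + q ^ 3))), by ring⟩
    · have h1 := dvd5 hr h
      rw [pv5, hq] at h1
      refine hcast _ _ h1 ?_
      push_cast
      generalize ((Fintype.card F : ℕ) : ℤ) = q
      exact ⟨(q ^ 4 + 1) * ((q ^ 3 + 1) * (q ^ 3 + q ^ 2 + q + 1) *
        ((1 + q) * (1 + q + q ^ 2) * (1 + q + q ^ 2 + q ^ 3))), by ring⟩
    · have h1 := dvd6 hr h
      rw [pv6, hq] at h1
      refine hcast _ _ h1 ?_
      push_cast
      generalize ((Fintype.card F : ℕ) : ℤ) = q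
      exact ⟨(q ^ 4 + 1) * (q ^ 4 + q ^ 3 + q ^ 2 + q + 1) * ((q + 1) * (q ^ 3 + q ^ 2 + q + 1) *
        ((1 + q) * (1 + q + q ^ 2) * (1 + q + q ^ 2 + q ^ 3))), by ring⟩
    · have h1 := dvd8 hr h
      rw [pv8, hq] at h1
      refine hcast _ _ h1 ?_
      push_cast
      generalize ((Fintype.card F : ℕ) : ℤ) = q
      exact ⟨(q ^ 4 + q ^ 3 + q ^ 2 + q + 1) * ((q ^ 3 + 1) * (q ^ 3 + q ^ 2 + q + 1) *
        ((1 + q) * (1 + q + q ^ 2) * (1 + q + q ^ 2 + q ^ 3))), by ring⟩

/-! ### the unipotent radical -/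

theorem tab_comm : ∀ r s : Fin 72, r ≠ s → 0 < vec chevE6 6 r.1 5 → 0 < vec chevE6 6 s.1 5 →
    s.1 ≠ chevE6.neg r.1 ∧ chevE6.commTerms r.1 s.1 = [] := by decide +kernel

theorem VJ_comm : ∀ a ∈ VJ CoxeterMatrix.E₆.toCoxeterSystem hpE6.isCartan (XX chevE6 6 F)
      {j | j ∈ ([0, 1, 2, 3, 4] : List (Fin 6))},
    ∀ b ∈ VJ CoxeterMatrix.E₆.toCoxeterSystem hpE6.isCartan (XX chevE6 6 F)
      {j | j ∈ ([0, 1, 2, 3, 4] : List (Fin 6))}, a * b = b * a := by
  set cs := CoxeterMatrix.E₆.toCoxeterSystem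
  set J : Set (Fin 6) := {j | j ∈ ([0, 1, 2, 3, 4] : List (Fin 6))}
  have h5 : ∀ x ∈ NotJ cs hpE6.isCartan J, 0 < x 5 := by
    rintro x ⟨-, -, k, hk, hx⟩
    have h6 : ∀ k : Fin 6, k ∉ J → k = 5 := by decide
    rwa [h6 k hk] at hx
  have key : ∀ x ∈ NotJ cs hpE6.isCartan J, ∀ y ∈ NotJ cs hpE6.isCartan J, ∀ a ∈ XX chevE6 6 F x,
      ∀ b ∈ XX chevE6 6 F y, a * b = b * a := by
    intro x hx y hy a ha b hb
    have hx5 := h5 x hx
    have hy5 := h5 y hy
    obtain ⟨r, hr, rfl⟩ := (isRoot_iff hpE6 cs x).1 hx.1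
    obtain ⟨s, hs, rfl⟩ := (isRoot_iff hpE6 cs y).1 hy.1
    have ha' : (a : GL chevE6.Idx F) ∈ XV chevE6 6 F (vec chevE6 6 r) := ha
    have hb' : (b : GL chevE6.Idx F) ∈ XV chevE6 6 F (vec chevE6 6 s) := hb
    rw [XV_vec hpE6 F hr] at ha'
    rw [XV_vec hpE6 F hs] at hb'
    obtain ⟨t, ht⟩ := (mem_rootSubgroup_iff hpE6.inList r _).1 ha'
    obtain ⟨u, hu⟩ := (mem_rootSubgroup_iff hpE6.inList s _).1 hb'
    have ea : a = Cfsg.Agent.H934.HeisChev.xe hpE6.inList r t := Subtype.ext ht
    have eb : b = Cfsg.Agent.H934.HeisChev.xe hpE6.inList s u := Subtype.ext hu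
    rcases eq_or_ne r s with rfl | hne
    · rw [ea, eb, ← Cfsg.Agent.H934.HeisChev.xe_add, ← Cfsg.Agent.H934.HeisChev.xe_add, add_comm]
    · obtain ⟨h1, h2⟩ := tab_comm ⟨s, hs⟩ ⟨r, hr⟩ (by intro h; exact hne (congrArg Fin.val h).symm) hy5 hx5
      rw [ea, eb]
      exact Cfsg.Agent.H934.HeisChev.comm_nil hpE6.inList hs hr hne h1 h2 u t
  have h1 : VJ cs hpE6.isCartan (XX chevE6 6 F) J ≤
      Subgroup.centralizer (VJ cs hpE6.isCartan (XX chevE6 6 F) J : Set ↥(chevE6.group F)) := by
    refine RGD.Sup_le fun x hx a ha => ?_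
    rw [Subgroup.mem_centralizer_iff]
    intro b hb
    have h2 : VJ cs hpE6.isCartan (XX chevE6 6 F) J ≤ Subgroup.centralizer {a} := by
      refine RGD.Sup_le fun y hy c hc => ?_
      rw [Subgroup.mem_centralizer_singleton_iff]
      exact key y hy x hx c hc a ha
    exact Subgroup.mem_centralizer_singleton_iff.1 (h2 hb)
  intro a ha b hb
  exact ((Subgroup.mem_centralizer_iff.1 (h1 ha)) b hb).symm

/-- **The small orders.** -/
theorem not_may_small {r : ℕ} (hr : r.Prime) (hr2 : r ≠ 2)
    (h : od (Nat.card F) r = 1 ∨ od (Nat.card F) r = 2 ∨ od (Nat.card F) r = 3 ∨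
    od (Nat.card F) r = 4 ∨ od (Nat.card F) r = 5 ∨ od (Nat.card F) r = 6 ∨ od (Nat.card F) r = 8) :
    ¬ May r ↥(chevE6.group F) := by
  obtain ⟨l, hl⟩ := CharP.exists F
  haveI : Fact l.Prime := ⟨CharP.char_is_prime F l⟩
  haveI := finite_W hpE6 CoxeterMatrix.E₆.toCoxeterSystem
  have R := rgd (K := F) hpE6 CoxeterMatrix.E₆.toCoxeterSystem l
  obtain ⟨hs, hc⟩ := Cfsg.Agent.S1054.result (F := F) chevE6 (by simp)
  have hc' : ∃ a b : ↥(chevE6.group F), a * b ≠ b * a := by
    by_contra hcon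
    push Not at hcon
    exact hc ⟨⟨hcon⟩⟩
  obtain ⟨n, -, hn⟩ := FiniteField.card F l
  have hlq : l ∣ Fintype.card F := by rw [hn]; exact dvd_pow_self _ n.ne_zero
  refine not_may_par_abelian R (G1_eq_top hpE6 _) hc' (J := {j | j ∈ ([0, 1, 2, 3, 4] : List (Fin 6))})
    ⟨5, by decide⟩ VJ_comm (multDvd_of_cyclic (Nat.gcd_ne_zero_left (by norm_num)) (Cfsg.Agent.S2105.result (F := F) rfl))
    (not_dvd_gcd_three Fact.out hlq (Or.inr ⟨rfl, Fintype.card_pos⟩)) hr hr2 ?_ (dvd_PD5 hr h)
  rintro rfl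
  have h0 : ∀ m, 0 < m → od (Nat.card F) l = m → False := fun m hm h1 =>
    Cfsg.Agent.H378.RegFin.not_dvd_q hr h1 hm (by rw [Nat.card_eq_fintype_card]; exact hlq)
  rcases h with h | h | h | h | h | h | h <;> exact h0 _ (by norm_num) h

/-- **The characteristic.** -/
theorem not_may_self_E6 {l : ℕ} (hl : l.Prime) (hl2 : l ≠ 2) (hlq : l ∣ Fintype.card F) : ¬ May l ↥(chevE6.group F) := by
  obtain ⟨l', hl'⟩ := CharP.exists F
  haveI : Fact l'.Prime := ⟨CharP.char_is_prime F l'⟩
  obtain ⟨n, -, hn⟩ := FiniteField.card F l'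
  have he : l = l' := by
    rw [hn] at hlq
    exact (Nat.prime_dvd_prime_iff_eq hl Fact.out).1 (hl.dvd_of_dvd_pow hlq)
  subst he
  haveI := finite_W hpE6 CoxeterMatrix.E₆.toCoxeterSystem
  haveI := (Cfsg.Agent.S1054.result (F := F) chevE6 (by simp)).1
  exact not_may_self (rgd (K := F) hpE6 CoxeterMatrix.E₆.toCoxeterSystem l) hl2 ⟨0, 1, by decide⟩

end

end Cfsg.Agent.H631.Fpf.ParE6

private theorem dce_3c0101fd1e9f : _root_.True := by
  try have : _root_.True := by simp only [_root_.Cfsg.Agent.H35.ExcIdx.FA.eq_1]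
  exact _root_.True.intro
end

-- part: H80/Fpf/RowAlt_mg
section
prune_inst 0xc0200400008000000000800000002200000004200000000000000400000000000000000000000100020200010000000000000000400000000a000000000000000000000400000000400080000000000000000000000000000000000000000000000000000
set_option linter.all false
open scoped Cfsg.Agent.FastGrp

-- part: H80/Fpf/NumSelf
section
/-!
# The norm bound without a cover
-/

set_option autoImplicit false
set_option linter.style.haveILetI false

namespace Cfsg.Agent.H80.Fpf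

universe u v

/-- `|N(⟨x⟩)| ≤ (r - 1) |C(x)|` for `x` of prime order `r`. -/
theorem card_normalizer_le_centralizer {S : Type v} [Group S] [Finite S] {r : ℕ} (hr : r.Prime) {x : S}
    (hx : orderOf x = r) : Nat.card (Subgroup.normalizer (Subgroup.zpowers x : Set S)) ≤
      (r - 1) * Nat.card (Subgroup.centralizer ({x} : Set S)) := by
  let N : Subgroup S := Subgroup.normalizer (Subgroup.zpowers x : Set S)
  let f := (Subgroup.zpowers x).normalizerMonoidHom
  have h1 : Nat.card N = Nat.card f.ker * Nat.card f.range := by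
    have h3 := Subgroup.card_eq_card_quotient_mul_card_subgroup f.ker
    rw [Nat.card_congr (QuotientGroup.quotientKerEquivRange f).toEquiv] at h3
    rw [mul_comm]
    exact h3
  have h2 : Nat.card f.range ≤ r - 1 := by
    have h3 : Nat.card f.range ≤ Nat.card (MulAut (Subgroup.zpowers x)) := Subgroup.card_le_card_group _
    rw [IsCyclic.card_mulAut, Nat.card_zpowers, hx, Nat.totient_prime hr] at h3
    exact h3
  have h3 : Nat.card f.ker ≤ Nat.card (Subgroup.centralizer ({x} : Set S)) := by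
    have hk : f.ker = (Subgroup.centralizer (Subgroup.zpowers x : Set S)).subgroupOf N :=
      Subgroup.normalizerMonoidHom_ker _
    refine Nat.card_le_card_of_injective
      (fun z : f.ker => (⟨((z : N) : S), ?_⟩ : Subgroup.centralizer ({x} : Set S))) ?_
    · have h4 : (z : N) ∈ (Subgroup.centralizer (Subgroup.zpowers x : Set S)).subgroupOf N := by
        rw [← hk]; exact z.2
      rw [Subgroup.mem_subgroupOf, Subgroup.mem_centralizer_iff] at h4
      rw [Subgroup.mem_centralizer_iff]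
      intro y hy
      rw [Set.mem_singleton_iff] at hy
      rw [hy]
      exact h4 x (Subgroup.mem_zpowers x)
    · intro a b hab
      apply Subtype.ext
      apply Subtype.ext
      exact congrArg (fun z : Subgroup.centralizer ({x} : Set S) => (z : S)) hab
  calc Nat.card N = Nat.card f.ker * Nat.card f.range := h1
    _ ≤ Nat.card (Subgroup.centralizer ({x} : Set S)) * (r - 1) := Nat.mul_le_mul h3 h2
    _ = (r - 1) * Nat.card (Subgroup.centralizer ({x} : Set S)) := mul_comm _ _

/-- The norm bound in the group itself. -/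
theorem norm_bound_self {S : Type v} [Group S] [Finite S] {r : ℕ} (hr : r.Prime) {d : ℕ}
    (ρ : Representation ℂ S (Fin d → ℂ)) (hρ : ρ.IsIrreducible) {x : S} (hx : orderOf x = r)
    (hfix : ∀ v, ρ x v = v → v = 0) :
    d ^ 2 < (r - 1) ^ 2 * Nat.card (Subgroup.centralizer ({x} : Set S)) := by
  classical
  haveI : Fintype S := Fintype.ofFinite S
  haveI := hρ
  have hd : 0 < d := Cfsg.Agent.Blocks.CliffordCentral.pos_of_irreducible ρ
  let F : S → ℝ := fun s => ‖ρ.character s‖ ^ 2
  have hF0 : ∀ s, 0 ≤ F s := fun s => by positivity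
  have hFc : ∀ s t, F (t * s * t⁻¹) = F s := by
    intro s t
    show ‖ρ.character (t * s * t⁻¹)‖ ^ 2 = _
    rw [Representation.char_conj]
  have hsum : ∑ s, F s = Nat.card S := Cfsg.Agent.S0191.sum_norm_sq ρ
  have hcount := count hr F hF0 hFc x hx
  have hF1 : F 1 = (d : ℝ) ^ 2 := by
    show ‖ρ.character 1‖ ^ 2 = _
    rw [Representation.char_one]
    simp only [_root_.Module.finrank_fintype_fun_eq_card, _root_.Fintype.card_fin, _root_.RCLike.norm_natCast]
  have hcs := sq_le_sum hr ρ x hx hfix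
  rw [hsum, hF1] at hcount
  set N := Nat.card (Subgroup.normalizer (Subgroup.zpowers x : Set S)) with hN
  have hS : (0 : ℝ) < Nat.card S := by exact_mod_cast Nat.card_pos
  have hN0 : (0 : ℝ) < N := by
    have : 0 < N := Nat.card_pos
    exact_mod_cast this
  have hr0 : (0 : ℝ) < ((r - 1 : ℕ) : ℝ) := by
    have := hr.one_lt
    have : 0 < r - 1 := by omega
    exact_mod_cast this
  have hd0 : (0 : ℝ) < (d : ℝ) ^ 2 := by positivity
  have h2 : (Nat.card S : ℝ) * (d : ℝ) ^ 2 ≤ ((r - 1 : ℕ) : ℝ) * (N * (Nat.card S - (d : ℝ) ^ 2)) := by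
    calc (Nat.card S : ℝ) * (d : ℝ) ^ 2
        ≤ Nat.card S * (((r - 1 : ℕ) : ℝ) * ∑ i ∈ Finset.Ico 1 r, F (x ^ i)) :=
          mul_le_mul_of_nonneg_left hcs hS.le
      _ = ((r - 1 : ℕ) : ℝ) * (Nat.card S * ∑ i ∈ Finset.Ico 1 r, F (x ^ i)) := by ring
      _ ≤ ((r - 1 : ℕ) : ℝ) * (N * (Nat.card S - (d : ℝ) ^ 2)) :=
          mul_le_mul_of_nonneg_left hcount hr0.le
  have h3 : (Nat.card S : ℝ) * (d : ℝ) ^ 2 < (Nat.card S : ℝ) * (((r - 1 : ℕ) : ℝ) * N) := by
    refine lt_of_le_of_lt h2 ?_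
    have : ((r - 1 : ℕ) : ℝ) * (N * (Nat.card S - (d : ℝ) ^ 2)) =
        Nat.card S * (((r - 1 : ℕ) : ℝ) * N) - ((r - 1 : ℕ) : ℝ) * N * (d : ℝ) ^ 2 := by ring
    rw [this]
    have : 0 < ((r - 1 : ℕ) : ℝ) * N * (d : ℝ) ^ 2 := by (clear * - hd hN0 hr0; positivity)
    linarith only [this]
  have h4 := lt_of_mul_lt_mul_left h3 hS.le
  have h5 : d ^ 2 < (r - 1) * N := by exact_mod_cast h4
  calc d ^ 2 < (r - 1) * N := h5
    _ ≤ (r - 1) * ((r - 1) * Nat.card (Subgroup.centralizer ({x} : Set S))) :=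
      Nat.mul_le_mul_left _ (card_normalizer_le_centralizer hr hx)
    _ = _ := by ring

end Cfsg.Agent.H80.Fpf
end

-- part: H80/Fpf/AltA
section
/-!
# The standard character of the symmetric groups
-/

set_option autoImplicit false
set_option linter.style.haveILetI false
set_option linter.unusedSectionVars false

namespace Cfsg.Agent.H80.Fpf.Alt

open Cfsg Equiv Cfsg.Agent.Characters.Core

section

variable {α : Type} [Fintype α] [DecidableEq α]

/-- The linear characters of a symmetric group. -/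
theorem linear_perm {lam : Perm α → ℂ} (h : IsIrrCharacter (Perm α) lam) (h1 : lam 1 = 1) :
    (∀ σ, lam σ = 1) ∨ (∀ σ, lam σ = ((Perm.sign σ : ℤ) : ℂ)) := by
  obtain ⟨n, ρ, hρ, rfl⟩ := h
  have hn : n = 1 := by
    rw [Representation.char_one, Module.finrank_fin_fun] at h1
    exact_mod_cast h1
  subst hn
  have hsc : ∀ c : Module.End ℂ (Fin 1 → ℂ), ∃ μ : ℂ, c = μ • 1 := by
    intro c
    refine ⟨c 1 0, ?_⟩
    apply LinearMap.ext
    intro v
    have h2 : v = v 0 • (1 : Fin 1 → ℂ) := by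
      ext i
      rw [Subsingleton.elim i 0]
      simp
    rw [h2, map_smul, map_smul]
    congr 1
    ext i
    rw [Subsingleton.elim i 0]
    simp only [_root_.Fin.isValue, _root_.LinearMap.smul_apply, _root_.Module.End.one_apply, _root_.Pi.smul_apply, _root_.Pi.one_apply, _root_.smul_eq_mul, _root_.mul_one]
  choose c hc using fun σ : Perm α => hsc (ρ σ)
  have hchar : ∀ σ, ρ.character σ = c σ := by
    intro σ
    show LinearMap.trace ℂ (Fin 1 → ℂ) (ρ σ) = c σ
    rw [hc σ, map_smul, LinearMap.trace_one, Module.finrank_fin_fun]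
    simp
  have hmul : ∀ σ τ, ρ.character (σ * τ) = ρ.character σ * ρ.character τ := by
    intro σ τ
    have h2 : ρ (σ * τ) = (c σ * c τ) • (1 : Module.End ℂ (Fin 1 → ℂ)) := by
      rw [map_mul, hc σ, hc τ, smul_mul_smul_comm, one_mul]
    show LinearMap.trace ℂ (Fin 1 → ℂ) (ρ (σ * τ)) = _
    rw [hchar σ, hchar τ, h2, map_smul, LinearMap.trace_one, Module.finrank_fin_fun]
    simp
  by_cases hall : ∀ x y : α, x ≠ y → ρ.character (swap x y) = 1
  · left
    intro σ
    induction σ using Equiv.Perm.swap_induction_on with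
    | one => exact h1
    | swap_mul f x y hxy ih => rw [hmul, hall x y hxy, ih, mul_one]
  · right
    push Not at hall
    obtain ⟨a, b, hab, hne⟩ := hall
    have hsq : ρ.character (swap a b) * ρ.character (swap a b) = 1 := by
      rw [← hmul, swap_mul_self, h1]
    have hm1 : ρ.character (swap a b) = -1 := by
      rcases mul_self_eq_one_iff.1 hsq with h | h
      · exact absurd h hne
      · exact h
    have hall : ∀ x y : α, x ≠ y → ρ.character (swap x y) = -1 := by
      intro x y hxy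
      obtain ⟨g, hg⟩ := isConj_iff.1 (Equiv.Perm.isConj_swap hab hxy)
      rw [← hg, Representation.char_conj, hm1]
    intro σ
    induction σ using Equiv.Perm.swap_induction_on with
    | one => rw [h1]; simp
    | swap_mul f x y hxy ih =>
      rw [hmul, hall x y hxy, ih, Equiv.Perm.sign_mul, Equiv.Perm.sign_swap hxy]
      push_cast
      ring

/-- The number of fixed points. -/
noncomputable def fx (σ : Perm α) : ℂ := (Nat.card (MulAction.fixedBy α σ) : ℂ)

theorem fx_eq (σ : Perm α) : fx σ = ((Fintype.card α - σ.support.card : ℕ) : ℂ) := by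
  rw [fx]
  congr 1
  have h1 : MulAction.fixedBy α σ = ((σ.supportᶜ : Finset α) : Set α) := by
    ext x
    simp [MulAction.mem_fixedBy, Perm.mem_support]
  rw [h1, Nat.card_coe_set_eq, Set.ncard_coe_finset, Finset.card_compl]

theorem irr_std (hα : 2 ≤ Fintype.card α) : IsIrrCharacter (Perm α) (fun σ => fx σ - 1) := by
  haveI : MulAction.IsPretransitive (Perm α) α := inferInstance
  refine (Cfsg.Agent.S0157.result (G := Perm α) α (by rw [Nat.card_eq_fintype_card]; exact hα)).2 ?_
  exact Equiv.Perm.isMultiplyPretransitive α 2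

/-- Double counting of fixed points. -/
theorem sum_mul_fx (a : α) {θ : Perm α → ℂ} (hθ : IsClassFunction (Perm α) θ) :
    ∑ σ, θ σ * fx σ = (Fintype.card α : ℂ) * ∑ τ : Perm {x : α // x ≠ a}, θ (Perm.ofSubtype τ) := by
  have h1 : ∀ σ : Perm α, fx σ = ∑ b : α, if σ b = b then (1 : ℂ) else 0 := by
    intro σ
    rw [Finset.sum_boole, fx]
    congr 1
    rw [Nat.card_eq_fintype_card, Fintype.card_subtype]
    congr 1
  have h2 : ∀ b : α, ∑ σ : Perm α, (if σ b = b then θ σ else 0) = ∑ σ : Perm α, (if σ a = a then θ σ else 0) := by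
    intro b
    refine Fintype.sum_equiv (MulAut.conj (swap a b)).toEquiv _ _ ?_
    intro σ
    show _ = if (swap a b * σ * (swap a b)⁻¹) a = a then θ (swap a b * σ * (swap a b)⁻¹) else 0
    have h3 : θ (swap a b * σ * (swap a b)⁻¹) = θ σ := hθ σ (swap a b)
    have h4 : ((swap a b * σ * (swap a b)⁻¹) a = a) ↔ σ b = b := by
      rw [swap_inv, Perm.mul_apply, Perm.mul_apply, swap_apply_left]
      constructor
      · intro h
        have := congrArg (swap a b) h
        rwa [swap_apply_left, ← Perm.mul_apply, swap_mul_self, Perm.one_apply] at this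
      · intro h
        rw [h, swap_apply_right]
    rw [h3]
    simp only [h4]
  have h3 : ∑ σ : Perm α, (if σ a = a then θ σ else 0) = ∑ τ : Perm {x : α // x ≠ a}, θ (Perm.ofSubtype τ) := by
    rw [← Finset.sum_filter]
    symm
    refine Finset.sum_bij (fun τ _ => Perm.ofSubtype τ) ?_ ?_ ?_ ?_
    · intro τ _
      rw [Finset.mem_filter]
      exact ⟨Finset.mem_univ _, Perm.ofSubtype_apply_of_not_mem τ (by simp)⟩
    · intro τ _ τ' _ h
      exact Perm.ofSubtype_injective h
    · intro σ hσ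
      rw [Finset.mem_filter] at hσ
      refine ⟨σ.subtypePerm (p := fun x => x ≠ a) ?_, Finset.mem_univ _, ?_⟩
      · intro x
        constructor
        · intro h1 h2
          apply h1
          rw [h2, hσ.2]
        · intro h1 h2
          apply h1
          apply σ.injective
          rw [h2, hσ.2]
      · apply Perm.ofSubtype_subtypePerm
        intro x hx h
        apply hx
        rw [h, hσ.2]
    · intro τ _; rfl
  calc ∑ σ, θ σ * fx σ = ∑ σ, ∑ b, (if σ b = b then θ σ else 0) := by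
        apply Finset.sum_congr rfl
        intro σ _
        rw [h1, Finset.mul_sum]
        apply Finset.sum_congr rfl
        intro b _
        rw [mul_ite, mul_one, mul_zero]
    _ = ∑ b : α, ∑ σ, (if σ b = b then θ σ else 0) := Finset.sum_comm
    _ = ∑ _b : α, ∑ τ : Perm {x : α // x ≠ a}, θ (Perm.ofSubtype τ) := by
        apply Finset.sum_congr rfl
        intro b _
        rw [h2 b, h3]
    _ = _ := by rw [Finset.sum_const, Finset.card_univ, nsmul_eq_mul]

theorem isCharacter_sign : IsCharacter (Perm α) (fun σ => ((Perm.sign σ : ℤ) : ℂ)) := by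
  let f : Perm α →* (Module.End ℂ ℂ) :=
    { toFun := fun σ => (((Perm.sign σ : ℤ) : ℂ)) • (1 : Module.End ℂ ℂ)
      map_one' := by simp only [_root_.Equiv.Perm.sign_one, _root_.Units.val_one, _root_.Int.cast_one, _root_.one_smul]
      map_mul' := by
        intro σ τ
        rw [Perm.sign_mul, smul_mul_smul_comm, one_mul]
        push_cast
        rfl }
  have h := isCharacter_of_rep (f : Representation ℂ (Perm α) ℂ)
  have h2 : (fun σ => ((Perm.sign σ : ℤ) : ℂ)) = Representation.character f := by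
    ext σ
    show _ = LinearMap.trace ℂ ℂ ((((Perm.sign σ : ℤ) : ℂ)) • (1 : Module.End ℂ ℂ))
    rw [map_smul, LinearMap.trace_one]
    simp
  rw [h2]
  exact h

/-- Products of an irreducible character with the sign are irreducible. -/
theorem irr_mul_sign {θ : Perm α → ℂ} (hθ : IsIrrCharacter (Perm α) θ) :
    IsIrrCharacter (Perm α) (fun σ => ((Perm.sign σ : ℤ) : ℂ) * θ σ) := by
  have h1 : IsCharacter (Perm α) ((fun σ => ((Perm.sign σ : ℤ) : ℂ)) * θ) :=
    isCharacter_mul isCharacter_sign (isIrr_isCharacter hθ)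
  refine isIrr_of_classInner_self h1 ?_
  rw [← classInner_irr_self hθ, classInner_def, classInner_def]
  congr 1
  apply Finset.sum_congr rfl
  intro σ _
  show ((Perm.sign σ : ℤ) : ℂ) * θ σ * (starRingEnd ℂ) (((Perm.sign σ : ℤ) : ℂ) * θ σ) = _
  rw [map_mul]
  have h2 : (starRingEnd ℂ) (((Perm.sign σ : ℤ) : ℂ)) = ((Perm.sign σ : ℤ) : ℂ) := map_intCast _ _
  have h3 : ((Perm.sign σ : ℤ) : ℂ) * ((Perm.sign σ : ℤ) : ℂ) = 1 := by
    rcases Int.units_eq_one_or (Perm.sign σ) with h | h <;> rw [h] <;> simp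
  rw [h2]
  linear_combination θ σ * (starRingEnd ℂ) (θ σ) * h3

/-- **The irreducible characters of degree `n - 1` of `S_n`.** -/
theorem std_of_degree {n : ℕ} (hn : 10 ≤ n) (hα : Fintype.card α = n) {θ : Perm α → ℂ}
    (hθ : IsIrrCharacter (Perm α) θ) (h1 : θ 1 = ((n - 1 : ℕ) : ℂ)) :
    (∀ σ, θ σ = fx σ - 1) ∨ (∀ σ, θ σ = ((Perm.sign σ : ℤ) : ℂ) * (fx σ - 1)) := by
  classical
  haveI : Nonempty α := Fintype.card_pos_iff.1 (by omega)
  obtain ⟨a⟩ := ‹Nonempty α›
  let β := {x : α // x ≠ a}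
  have hβ : Fintype.card β = n - 1 := by
    rw [Fintype.card_subtype_compl, Fintype.card_subtype_eq, hα]
  let i : Perm β →* Perm α := Perm.ofSubtype
  haveI : Finite (IrrCharacter (Perm β)) := finite_irr
  haveI : Fintype (IrrCharacter (Perm β)) := Fintype.ofFinite _
  have hres : IsCharacter (Perm β) (fun τ => θ (i τ)) := isCharacter_comp i (isIrr_isCharacter hθ)
  obtain ⟨m, hm⟩ := exists_nat_comb hres
  -- degrees
  choose D hD1 hD2 using fun lam : IrrCharacter (Perm β) => Cfsg.Agent.H704.isDeg_of_irr' lam.2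
  have hsum : ∑ lam : IrrCharacter (Perm β), m lam * D lam = n - 1 := by
    have h2 := congrFun hm 1
    have h3 : ∀ lam : IrrCharacter (Perm β), (m lam • (lam : Perm β → ℂ)) 1 = ((m lam * D lam : ℕ) : ℂ) := by
      intro lam
      rw [Pi.smul_apply, hD1, nsmul_eq_mul]
      push_cast
      rfl
    rw [Finset.sum_apply] at h2
    simp only [map_one, h1, h3] at h2
    exact_mod_cast h2.symm
  obtain ⟨lam, hlam, hD⟩ : ∃ lam, m lam ≠ 0 ∧ D lam = 1 := by
    by_contra hcon
    push Not at hcon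
    have hdeg : ∀ lam, m lam ≠ 0 → D lam = n - 2 := by
      intro lam hl
      have h9 : 9 ≤ Fintype.card β := by omega
      rcases Cfsg.Agent.H704.low_degree h9 (hD2 lam) with h | h | h
      · exact absurd h (hcon lam hl)
      · rw [h, hβ]; omega
      · exfalso
        rw [hβ] at h
        have h3 : m lam * D lam ≤ n - 1 := by
          rw [← hsum]
          exact Finset.single_le_sum (f := fun lam => m lam * D lam) (fun _ _ => Nat.zero_le _) (Finset.mem_univ lam)
        have h4 : D lam ≤ m lam * D lam := Nat.le_mul_of_pos_left _ (Nat.pos_of_ne_zero hl)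
        obtain ⟨k, rfl⟩ : ∃ k, n = k + 10 := ⟨n - 10, by omega⟩
        have e1 : k + 10 - 1 = k + 9 := by omega
        have e2 : k + 10 - 1 - 3 = k + 6 := by omega
        rw [e1] at h3 h
        have e3 : k + 9 - 3 = k + 6 := by (clear * -; omega)
        rw [e3] at h
        nlinarith only [h4, h, h3]
    have h3 : (n - 2) ∣ n - 1 := by
      rw [← hsum]
      apply Finset.dvd_sum
      intro lam _
      by_cases hl : m lam = 0
      · rw [hl, zero_mul]; exact dvd_zero _
      · rw [hdeg lam hl]; exact Dvd.intro_left _ rfl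
    have h4 : n - 2 ∣ 1 := by
      have h5 : n - 1 = (n - 2) + 1 := by omega
      rw [h5] at h3
      exact (Nat.dvd_add_right (dvd_refl _)).1 h3
    have h5 := Nat.le_of_dvd one_pos h4
    omega
  have hlam1 : (lam : Perm β → ℂ) 1 = 1 := by rw [hD1, hD]; simp
  have hinner : classInner (fun τ => θ (i τ)) (lam : Perm β → ℂ) ≠ 0 := by
    rw [hm, classInner_sum_nsmul_irr]
    exact_mod_cast hlam
  -- a general criterion
  have key : ∀ θ' : Perm α → ℂ, IsIrrCharacter (Perm α) θ' → θ' 1 = ((n - 1 : ℕ) : ℂ) →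
      (∑ τ : Perm β, θ' (i τ)) ≠ 0 → ∀ σ, θ' σ = fx σ - 1 := by
    intro θ' hθ' h1' hs
    have hstd : IsIrrCharacter (Perm α) (fun σ => fx σ - 1) := irr_std (by omega)
    by_contra hne
    have hne1 : θ' ≠ (fun σ => fx σ - 1) := fun h => hne (fun σ => by rw [h])
    have h2 := classInner_irr_ne hθ' hstd hne1
    have hne2 : θ' ≠ 1 := by
      intro h
      rw [h] at h1'
      have h3 : ((n - 1 : ℕ) : ℂ) = ((1 : ℕ) : ℂ) := by rw [← h1']; simp
      have h4 : n - 1 = 1 := by exact_mod_cast h3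
      omega
    have h3 := classInner_irr_ne hθ' isIrr_one hne2
    have h4 : classInner θ' fx = 0 := by
      have h5 : (fx : Perm α → ℂ) = (fun σ => fx σ - 1) + 1 := by
        ext σ; simp
      rw [h5, classInner_add_right, h2, h3, add_zero]
    rw [classInner_def] at h4
    have h5 : ∑ σ : Perm α, θ' σ * (starRingEnd ℂ) (fx σ) = ∑ σ : Perm α, θ' σ * fx σ := by
      apply Finset.sum_congr rfl
      intro σ _
      congr 1
      rw [fx]
      exact map_natCast _ _
    rw [h5, sum_mul_fx a (isIrr_isClassFunction hθ')] at h4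
    have h6 : (Nat.card (Perm α) : ℂ)⁻¹ ≠ 0 := inv_ne_zero card_ne_zero_complex
    have h7 : (Fintype.card α : ℂ) ≠ 0 := by
      rw [hα]
      have : n ≠ 0 := by omega
      exact_mod_cast this
    rcases mul_eq_zero.1 h4 with h | h
    · exact h6 h
    · rcases mul_eq_zero.1 h with h | h
      · exact h7 h
      · exact hs h
  rcases linear_perm lam.2 hlam1 with hl | hl
  · left
    apply key θ hθ h1
    intro h0
    apply hinner
    rw [classInner_def]
    have : ∑ τ : Perm β, θ (i τ) * (starRingEnd ℂ) ((lam : Perm β → ℂ) τ) = ∑ τ : Perm β, θ (i τ) := by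
      apply Finset.sum_congr rfl
      intro τ _
      rw [hl τ, map_one, mul_one]
    rw [this, h0, mul_zero]
  · right
    have hirr := irr_mul_sign hθ
    have h8 := key _ hirr (by simp only [h1, _root_.Equiv.Perm.sign_one, _root_.Units.val_one, _root_.Int.cast_one, _root_.one_mul]) ?_
    · intro σ
      have h9 := h8 σ
      rw [← h9, ← mul_assoc]
      have h3 : ((Perm.sign σ : ℤ) : ℂ) * ((Perm.sign σ : ℤ) : ℂ) = 1 := by
        rcases Int.units_eq_one_or (Perm.sign σ) with h | h <;> rw [h] <;> simp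
      rw [h3, one_mul]
    · intro h0
      apply hinner
      rw [classInner_def]
      have : ∑ τ : Perm β, θ (i τ) * (starRingEnd ℂ) ((lam : Perm β → ℂ) τ) =
          ∑ τ : Perm β, ((Perm.sign (i τ) : ℤ) : ℂ) * θ (i τ) := by
        apply Finset.sum_congr rfl
        intro τ _
        rw [hl τ, map_intCast, mul_comm]
        have : Perm.sign (i τ) = Perm.sign τ := Perm.sign_ofSubtype τ
        rw [this]
      rw [this, h0, mul_zero]

end

end Cfsg.Agent.H80.Fpf.Alt
end

-- part: H80/Fpf/AltB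
section
/-!
# No fixed point free prime `r ≥ 13` for the alternating group of degree `r + 2` itself
-/

set_option autoImplicit false
set_option linter.style.haveILetI false
set_option linter.unusedSectionVars false

namespace Cfsg.Agent.H80.Fpf.Alt

open Cfsg Equiv Cfsg.Agent.Characters.Core

section

variable {α : Type} [Fintype α] [DecidableEq α]

/-- An element of order `r` of the symmetric group of degree `n < 2 r` is an `r`-cycle. -/
theorem cycleType_of_order {r : ℕ} (hr : r.Prime) (hα : Fintype.card α < 2 * r) {x : Perm α} (hx : orderOf x = r) :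
    x.cycleType = {r} := by
  obtain ⟨n, hn⟩ := Perm.cycleType_prime_order (σ := x) (by rw [hx]; exact hr)
  rw [hx] at hn
  have h1 : x.cycleType.sum ≤ Fintype.card α := by
    rw [Perm.sum_cycleType]
    exact Finset.card_le_univ _
  rw [hn, Multiset.sum_replicate, smul_eq_mul] at h1
  have h2 : n = 0 := by
    by_contra h
    have h3 : 2 * r ≤ (n + 1) * r := Nat.mul_le_mul_right _ (by omega)
    omega
  rw [hn, h2]
  rfl

theorem card_centralizer_cycle {r : ℕ} {x : Perm α} (hx : x.cycleType = {r}) :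
    Nat.card (Subgroup.centralizer ({x} : Set (Perm α))) = (Fintype.card α - r).factorial * r := by
  rw [Perm.nat_card_centralizer, hx]
  simp only [_root_.Multiset.sum_singleton, _root_.Multiset.prod_singleton, _root_.Multiset.toFinset_singleton, _root_.Multiset.nodup_singleton, _root_.Finset.prod_singleton, _root_.Multiset.mem_singleton, _root_.Multiset.count_eq_one_of_mem, _root_.Nat.factorial_one, _root_.mul_one]

/-- **Representations of `S_r`** in which the `r`-cycles have no nonzero fixed vectors. -/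
theorem char_form {r : ℕ} (hr : r.Prime) (h13 : 13 ≤ r) (hα : Fintype.card α = r) {V : Type} [AddCommGroup V]
    [Module ℂ V] [FiniteDimensional ℂ V] (ρ : Representation ℂ (Perm α) V)
    (hfix : ∀ g : Perm α, orderOf g = r → ∀ v, ρ g v = v → v = 0) :
    ∃ a b : ℂ, ∀ σ, ρ.character σ = (a + b * ((Perm.sign σ : ℤ) : ℂ)) * (fx σ - 1) := by
  revert hfix
  refine rep_induction (G := Perm α) (P := fun V _ _ ρ => (∀ g : Perm α, orderOf g = r → ∀ v, ρ g v = v → v = 0) →
    ∃ a b : ℂ, ∀ σ, ρ.character σ = (a + b * ((Perm.sign σ : ℤ) : ℂ)) * (fx σ - 1)) ?_ ?_ V ρ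
  · intro V _ _ ρ hV _
    refine ⟨0, 0, ?_⟩
    intro σ
    have : ρ σ = 0 := by ext x; exact Subsingleton.elim _ _
    simp [Representation.character, this]
  · intro V _ _ _ ρ U U' hc hU ih hfix
    obtain ⟨a, b, hab⟩ := ih (by
      intro g hg v hv
      have h1 : ρ g (v : V) = v := congrArg (fun x : U'.toSubmodule => (x : V)) hv
      exact Subtype.ext (hfix g hg v h1))
    have hUfix : ∀ g : Perm α, orderOf g = r → ∀ v, U.toRepresentation g v = v → v = 0 := by
      intro g hg v hv
      have h1 : ρ g (v : V) = v := congrArg (fun x : U.toSubmodule => (x : V)) hv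
      exact Subtype.ext (hfix g hg v h1)
    obtain ⟨d, τ, hτ, ⟨e⟩⟩ := Cfsg.Agent.S0184.exists_fin_model U.toRepresentation hU
    have hcomm : ∀ (g : Perm α) (v : U.toSubmodule), e (U.toRepresentation g v) = τ g (e v) := fun g v =>
      Representation.IntertwiningMap.isIntertwining _ _ e.toIntertwiningMap g v
    have hτfix : ∀ g : Perm α, orderOf g = r → ∀ v, τ g v = v → v = 0 := by
      intro g hg v hv
      obtain ⟨w, rfl⟩ := e.toLinearEquiv.surjective v
      have h1 : e (U.toRepresentation g w) = e w := by rw [hcomm]; exact hv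
      have h2 : U.toRepresentation g w = w := e.toLinearEquiv.injective h1
      rw [hUfix g hg w h2]
      exact map_zero e.toLinearEquiv
    have hchar : U.toRepresentation.character = τ.character := Representation.char_iso e
    -- an element of order `r`
    haveI : Fact r.Prime := ⟨hr⟩
    have hrd : r ∣ Nat.card (Perm α) := by
      rw [Nat.card_perm, Nat.card_eq_fintype_card, hα]
      exact Nat.dvd_factorial hr.pos le_rfl
    obtain ⟨x, hx⟩ := exists_prime_orderOf_dvd_card' r hrd
    have hnb := norm_bound_self hr τ hτ hx (hτfix x hx)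
    rw [card_centralizer_cycle (cycleType_of_order hr (by omega) hx), hα, Nat.sub_self, Nat.factorial_zero,
      one_mul] at hnb
    have hirr : IsIrrCharacter (Perm α) τ.character := ⟨d, τ, hτ, rfl⟩
    obtain ⟨d', hd', hdeg⟩ := Cfsg.Agent.H704.isDeg_of_irr' hirr
    have hd1 : τ.character 1 = (d : ℂ) := by
      rw [Representation.char_one, Module.finrank_fin_fun]
    have hdd : d' = d := by
      rw [hd1] at hd'
      exact_mod_cast hd'.symm
    subst hdd
    rw [hα] at hdeg
    rw [character_eq_add_of_isCompl U U' hc, hchar]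
    rcases Cfsg.Agent.H704.low_degree (by omega) hdeg with h | h | h
    · -- a linear character
      exfalso
      have hs := sum_character hr τ x hx (hτfix x hx)
      have h1 : ∀ i ∈ Finset.Ico 1 r, τ.character (x ^ i) = 1 := by
        intro i _
        rcases linear_perm hirr (by rw [hd1, h]; simp) with hl | hl
        · exact hl _
        · rw [hl, map_pow]
          have h2 : Perm.sign x = 1 := by
            have h3 : Perm.sign x ^ r = 1 := by rw [← map_pow, ← hx, pow_orderOf_eq_one, map_one]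
            rcases Int.units_eq_one_or (Perm.sign x) with h4 | h4
            · exact h4
            · rw [h4] at h3
              have hodd : Odd r := hr.odd_of_ne_two (by omega)
              rw [hodd.neg_one_pow] at h3
              exact absurd h3 (by decide)
          rw [h2, one_pow]; simp
      rw [Finset.sum_congr rfl h1, Finset.sum_const, Nat.card_Ico, h] at hs
      have h2 : (((r - 1 + 1 : ℕ)) : ℂ) = 0 := by
        push_cast
        rw [nsmul_eq_mul, mul_one] at hs
        rw [hs]; simp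
      have h3 : r - 1 + 1 = 0 := by exact_mod_cast h2
      omega
    · rcases std_of_degree (by omega) hα hirr (by rw [hd1, h]) with hl | hl
      · refine ⟨a + 1, b, ?_⟩
        intro σ
        rw [Pi.add_apply, hab, hl]
        ring
      · refine ⟨a, b + 1, ?_⟩
        intro σ
        rw [Pi.add_apply, hab, hl]
        ring
    · exfalso
      obtain ⟨k, rfl⟩ : ∃ k, r = k + 13 := ⟨r - 13, by omega⟩
      have e1 : k + 13 - 3 = k + 10 := by omega
      have e2 : k + 13 - 1 = k + 12 := by omega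
      rw [e1] at h
      rw [e2] at hnb
      -- (k+13)^2 (k+10)^2 ≤ 4 d^2 < 4 (k+12)^2 (k+13)
      have h1 : ((k + 13) * (k + 10)) ^ 2 ≤ (2 * d') ^ 2 := Nat.pow_le_pow_left h 2
      have h2 : (2 * d') ^ 2 < 4 * ((k + 12) ^ 2 * (k + 13)) := by
        rw [mul_pow]; omega
      have h3 : ((k + 13) * (k + 10)) ^ 2 < 4 * ((k + 12) ^ 2 * (k + 13)) := lt_of_le_of_lt h1 h2
      have h4 : (k + 13) * ((k + 13) * (k + 10) ^ 2) < (k + 13) * (4 * (k + 12) ^ 2) := by
        calc (k + 13) * ((k + 13) * (k + 10) ^ 2) = ((k + 13) * (k + 10)) ^ 2 := by ring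
          _ < 4 * ((k + 12) ^ 2 * (k + 13)) := h3
          _ = _ := by ring
      have h5 := Nat.lt_of_mul_lt_mul_left h4
      nlinarith only [h5]

/-- The sign isomorphism of `S_2`. -/
noncomputable def sgE : Perm (Fin 2) ≃* ℤˣ :=
  MulEquiv.ofBijective (Perm.sign : Perm (Fin 2) →* ℤˣ) (by
    constructor
    · intro a b h
      revert a b
      decide
    · intro a
      revert a
      decide)

/-- The sign as a permutation of two points. -/
noncomputable def sgTwo : Perm α →* Perm (Fin 2) := sgE.symm.toMonoidHom.comp Perm.sign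

theorem sign_sgTwo (σ : Perm α) : Perm.sign (sgTwo σ) = Perm.sign σ := by
  have h : ∀ u : ℤˣ, Perm.sign (sgE.symm u) = u := fun u => MulEquiv.apply_symm_apply sgE u
  exact h _

/-- The embedding `S_α → A_{α + 2}`. -/
noncomputable def jj : Perm α →* alternatingGroup (α ⊕ Fin 2) where
  toFun σ := ⟨Perm.sumCongrHom α (Fin 2) (σ, sgTwo σ), by
    rw [Perm.mem_alternatingGroup]
    show Perm.sign (Perm.sumCongr σ (sgTwo σ)) = 1
    rw [Perm.sign_sumCongr, sign_sgTwo]
    rcases Int.units_eq_one_or (Perm.sign σ) with h | h <;> rw [h] <;> decide⟩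
  map_one' := by
    apply Subtype.ext
    show Perm.sumCongrHom α (Fin 2) (1, sgTwo 1) = 1
    rw [map_one]
    exact map_one (Perm.sumCongrHom α (Fin 2))
  map_mul' σ τ := by
    apply Subtype.ext
    show Perm.sumCongrHom α (Fin 2) (σ * τ, sgTwo (σ * τ)) =
      Perm.sumCongrHom α (Fin 2) (σ, sgTwo σ) * Perm.sumCongrHom α (Fin 2) (τ, sgTwo τ)
    rw [← map_mul, map_mul sgTwo]
    rfl

theorem jj_injective : Function.Injective (jj (α := α)) := by
  intro σ τ h
  have h1 : Perm.sumCongrHom α (Fin 2) (σ, sgTwo σ) = Perm.sumCongrHom α (Fin 2) (τ, sgTwo τ) :=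
    congrArg Subtype.val h
  have h2 := Perm.sumCongrHom_injective h1
  exact congrArg Prod.fst h2

theorem sgTwo_of_even {σ : Perm α} (h : Perm.sign σ = 1) : sgTwo σ = 1 := by
  have h1 := sign_sgTwo σ
  rw [h] at h1
  revert h1
  generalize sgTwo σ = u
  revert u
  decide

theorem sgTwo_of_odd {σ : Perm α} (h : Perm.sign σ = -1) : sgTwo σ = swap 0 1 := by
  have h1 := sign_sgTwo σ
  rw [h] at h1
  revert h1
  generalize sgTwo σ = u
  revert u
  decide

theorem sumCongr_mul_swap (σ : Perm α) (a b : α) :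
    Perm.sumCongr (σ * swap a b) (1 : Perm (Fin 2)) = Perm.sumCongr σ 1 * swap (Sum.inl a) (Sum.inl b) := by
  have h : Perm.sumCongr (swap a b) (1 : Perm (Fin 2)) = swap (Sum.inl a) (Sum.inl b) := by
    rw [Perm.sumCongr_swap_one]
  rw [← h, Perm.sumCongr_mul, one_mul]

/-- The fusion used: an odd `σ` fixing `a`, `b`. -/
theorem jj_fusion {σ : Perm α} (h : Perm.sign σ = -1) {a b : α} (hab : a ≠ b) (ha : σ a = a) (hb : σ b = b) :
    ∃ g : alternatingGroup (α ⊕ Fin 2), g * jj σ * g⁻¹ = jj (σ * swap a b) := by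
  have hg : swap (Sum.inr 0) (Sum.inl a) * swap (Sum.inr 1) (Sum.inl b) ∈ alternatingGroup (α ⊕ Fin 2) := by
    rw [Perm.mem_alternatingGroup, Perm.sign_mul, Perm.sign_swap (by simp), Perm.sign_swap (by simp)]
    decide
  refine ⟨⟨_, hg⟩, ?_⟩
  apply Subtype.ext
  show (swap (Sum.inr 0) (Sum.inl a) * swap (Sum.inr 1) (Sum.inl b)) * Perm.sumCongr σ (sgTwo σ) *
    (swap (Sum.inr 0) (Sum.inl a) * swap (Sum.inr 1) (Sum.inl b))⁻¹ = Perm.sumCongr (σ * swap a b) (sgTwo (σ * swap a b))
  have h2 : Perm.sign (σ * swap a b) = 1 := by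
    rw [Perm.sign_mul, h, Perm.sign_swap hab]; decide
  rw [sgTwo_of_odd h, sgTwo_of_even h2, sumCongr_mul_swap]
  have h3 : Perm.sumCongr σ (swap (0 : Fin 2) 1) = Perm.sumCongr σ 1 * swap (Sum.inr 0) (Sum.inr 1) := by
    have h4 : Perm.sumCongr (1 : Perm α) (swap (0 : Fin 2) 1) = swap (Sum.inr 0) (Sum.inr 1) := by
      rw [Perm.sumCongr_one_swap]
    rw [← h4, Perm.sumCongr_mul, mul_one, one_mul]
  rw [h3]
  set g : Perm (α ⊕ Fin 2) := swap (Sum.inr 0) (Sum.inl a) * swap (Sum.inr 1) (Sum.inl b) with hgdef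
  have h5 : g * Perm.sumCongr σ (1 : Perm (Fin 2)) * g⁻¹ = Perm.sumCongr σ 1 := by
    have h6 : Perm.sumCongr σ (1 : Perm (Fin 2)) * g * (Perm.sumCongr σ (1 : Perm (Fin 2)))⁻¹ = g := by
      rw [hgdef]
      have h7 : ∀ (i : Fin 2) (c : α), σ c = c →
          Perm.sumCongr σ (1 : Perm (Fin 2)) * swap (Sum.inr i) (Sum.inl c) * (Perm.sumCongr σ (1 : Perm (Fin 2)))⁻¹ =
            swap (Sum.inr i) (Sum.inl c) := by
        intro i c hc
        rw [← swap_apply_apply]
        congr 1
        show Sum.inl (σ c) = Sum.inl c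
        rw [hc]
      calc Perm.sumCongr σ (1 : Perm (Fin 2)) * (swap (Sum.inr 0) (Sum.inl a) * swap (Sum.inr 1) (Sum.inl b)) *
            (Perm.sumCongr σ (1 : Perm (Fin 2)))⁻¹
          = (Perm.sumCongr σ (1 : Perm (Fin 2)) * swap (Sum.inr 0) (Sum.inl a) * (Perm.sumCongr σ (1 : Perm (Fin 2)))⁻¹) *
            (Perm.sumCongr σ (1 : Perm (Fin 2)) * swap (Sum.inr 1) (Sum.inl b) * (Perm.sumCongr σ (1 : Perm (Fin 2)))⁻¹) := by
            group
        _ = _ := by rw [h7 0 a ha, h7 1 b hb]
    rw [mul_inv_eq_iff_eq_mul] at h6 ⊢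
    exact h6.symm
  calc g * (Perm.sumCongr σ (1 : Perm (Fin 2)) * swap (Sum.inr 0) (Sum.inr 1)) * g⁻¹
      = (g * Perm.sumCongr σ (1 : Perm (Fin 2)) * g⁻¹) * (g * swap (Sum.inr 0) (Sum.inr 1) * g⁻¹) := by group
    _ = Perm.sumCongr σ (1 : Perm (Fin 2)) * swap (g (Sum.inr 0)) (g (Sum.inr 1)) := by
        rw [h5, swap_apply_apply]
    _ = _ := by
        have h8 : g (Sum.inr 0) = Sum.inl a := by
          have e1 : swap (Sum.inr 1) (Sum.inl b) (Sum.inr 0 : α ⊕ Fin 2) = Sum.inr 0 :=
            swap_apply_of_ne_of_ne (by simp) (by simp)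
          rw [hgdef, Perm.mul_apply, e1, swap_apply_left]
        have h9 : g (Sum.inr 1) = Sum.inl b := by
          have e1 : swap (Sum.inr 0) (Sum.inl a) (Sum.inl b : α ⊕ Fin 2) = Sum.inl b :=
            swap_apply_of_ne_of_ne (by simp) (by simpa using hab.symm)
          rw [hgdef, Perm.mul_apply, swap_apply_left, e1]
        rw [h8, h9]

theorem fx_sub {σ : Perm α} {k : ℕ} (h : σ.support.card = k) : fx σ = (Fintype.card α : ℂ) - k := by
  rw [fx_eq, h, Nat.cast_sub]
  rw [← h]
  exact Finset.card_le_univ _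

/-- **The ordinary case**: the alternating group of degree `r + 2` itself. -/
theorem not_isFpf_alt {r : ℕ} (hr : r.Prime) (h13 : 13 ≤ r) (hα : Fintype.card α = r) :
    ¬ IsFpf r (alternatingGroup (α ⊕ Fin 2)) := by
  rintro ⟨d, ρ, hd, hfix⟩
  -- distinct points
  obtain ⟨e⟩ : Nonempty (Fin r ≃ α) := ⟨(Fintype.equivFinOfCardEq hα).symm⟩
  let p : ℕ → α := fun i => if h : i < r then e ⟨i, h⟩ else e ⟨0, hr.pos⟩
  have hp : ∀ i j : ℕ, i < 8 → j < 8 → i ≠ j → p i ≠ p j := by
    intro i j hi hj hij h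
    have h1 : i < r := by omega
    have h2 : j < r := by omega
    simp only [p, dif_pos h1, dif_pos h2] at h
    have := e.injective h
    apply hij
    exact congrArg Fin.val this
  obtain ⟨a, b, hab⟩ := char_form (α := α) hr h13 hα (ρ.comp jj) (by
    intro g hg v hv
    exact hfix (jj g) (by rw [orderOf_injective _ jj_injective, hg]) v hv)
  have hchar : ∀ σ, ρ.character (jj σ) = (a + b * ((Perm.sign σ : ℤ) : ℂ)) * (fx σ - 1) := hab
  have hfus : ∀ {σ : Perm α}, Perm.sign σ = -1 → ∀ {x y : α}, x ≠ y → σ x = x → σ y = y →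
      ρ.character (jj σ) = ρ.character (jj (σ * swap x y)) := by
    intro σ h x y hxy hx hy
    obtain ⟨g, hg⟩ := jj_fusion h hxy hx hy
    rw [← hg, Representation.char_conj]
  have hs : ∀ i j : ℕ, i < 8 → j < 8 → i ≠ j → Perm.sign (swap (p i) (p j)) = -1 := fun i j hi hj hij =>
    Perm.sign_swap (hp i j hi hj hij)
  have hfixp : ∀ i j k : ℕ, i < 8 → j < 8 → k < 8 → k ≠ i → k ≠ j → swap (p i) (p j) (p k) = p k := by
    intro i j k hi hj hk hki hkj
    exact swap_apply_of_ne_of_ne (hp k i hk hi hki) (hp k j hk hj hkj)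
  have hdisj : ∀ i j k l : ℕ, i < 8 → j < 8 → k < 8 → l < 8 → i ≠ j → k ≠ l → i ≠ k → i ≠ l → j ≠ k → j ≠ l →
      Perm.Disjoint (swap (p i) (p j)) (swap (p k) (p l)) := by
    intro i j k l hi hj hk hl hij hkl hik hil hjk hjl
    apply Perm.disjoint_swap_swap
    simp only [List.nodup_cons, List.mem_cons, List.not_mem_nil, or_false, not_or, not_false_eq_true,
      List.nodup_nil, and_true]
    exact ⟨⟨hp i j hi hj hij, hp i k hi hk hik, hp i l hi hl hil⟩, ⟨hp j k hj hk hjk, hp j l hj hl hjl⟩,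
      hp k l hk hl hkl⟩
  set s1 := swap (p 0) (p 1) with hs1
  set s2 := swap (p 2) (p 3) with hs2
  set s3 := swap (p 4) (p 5) with hs3
  set s4 := swap (p 6) (p 7) with hs4
  have c1 : s1.support.card = 2 := Perm.card_support_swap (hp 0 1 (by omega) (by omega) (by omega))
  have c2 : s2.support.card = 2 := Perm.card_support_swap (hp 2 3 (by omega) (by omega) (by omega))
  have c3 : s3.support.card = 2 := Perm.card_support_swap (hp 4 5 (by omega) (by omega) (by omega))
  have c4 : s4.support.card = 2 := Perm.card_support_swap (hp 6 7 (by omega) (by omega) (by omega))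
  have d12 : Perm.Disjoint s1 s2 := hdisj 0 1 2 3 (by omega) (by omega) (by omega) (by omega) (by omega) (by omega)
    (by omega) (by omega) (by omega) (by omega)
  have d13 : Perm.Disjoint s1 s3 := hdisj 0 1 4 5 (by omega) (by omega) (by omega) (by omega) (by omega) (by omega)
    (by omega) (by omega) (by omega) (by omega)
  have d14 : Perm.Disjoint s1 s4 := hdisj 0 1 6 7 (by omega) (by omega) (by omega) (by omega) (by omega) (by omega)
    (by omega) (by omega) (by omega) (by omega)
  have d23 : Perm.Disjoint s2 s3 := hdisj 2 3 4 5 (by omega) (by omega) (by omega) (by omega) (by omega) (by omega)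
    (by omega) (by omega) (by omega) (by omega)
  have d24 : Perm.Disjoint s2 s4 := hdisj 2 3 6 7 (by omega) (by omega) (by omega) (by omega) (by omega) (by omega)
    (by omega) (by omega) (by omega) (by omega)
  have d34 : Perm.Disjoint s3 s4 := hdisj 4 5 6 7 (by omega) (by omega) (by omega) (by omega) (by omega) (by omega)
    (by omega) (by omega) (by omega) (by omega)
  have k12 : (s1 * s2).support.card = 4 := by rw [d12.card_support_mul, c1, c2]
  have k123 : (s1 * s2 * s3).support.card = 6 := by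
    rw [(d13.mul_left d23).card_support_mul, k12, c3]
  have k1234 : (s1 * s2 * s3 * s4).support.card = 8 := by
    rw [((d14.mul_left d24).mul_left d34).card_support_mul, k123, c4]
  have g1 : Perm.sign s1 = -1 := hs 0 1 (by omega) (by omega) (by omega)
  have g2 : Perm.sign s2 = -1 := hs 2 3 (by omega) (by omega) (by omega)
  have g3 : Perm.sign s3 = -1 := hs 4 5 (by omega) (by omega) (by omega)
  have g4 : Perm.sign s4 = -1 := hs 6 7 (by omega) (by omega) (by omega)
  have g12 : Perm.sign (s1 * s2) = 1 := by rw [Perm.sign_mul, g1, g2]; decide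
  have g123 : Perm.sign (s1 * s2 * s3) = -1 := by rw [Perm.sign_mul, g12, g3]; decide
  have g1234 : Perm.sign (s1 * s2 * s3 * s4) = 1 := by rw [Perm.sign_mul, g123, g4]; decide
  -- the two fusions
  have e1 : ρ.character (jj s1) = ρ.character (jj (s1 * s2)) :=
    hfus g1 (hp 2 3 (by omega) (by omega) (by omega)) (hfixp 0 1 2 (by omega) (by omega) (by omega) (by omega) (by omega))
      (hfixp 0 1 3 (by omega) (by omega) (by omega) (by omega) (by omega))
  have e2 : ρ.character (jj (s1 * s2 * s3)) = ρ.character (jj (s1 * s2 * s3 * s4)) := by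
    refine hfus g123 (hp 6 7 (by omega) (by omega) (by omega)) ?_ ?_
    · rw [Perm.mul_apply, Perm.mul_apply, hfixp 4 5 6 (by omega) (by omega) (by omega) (by omega) (by omega),
        hfixp 2 3 6 (by omega) (by omega) (by omega) (by omega) (by omega),
        hfixp 0 1 6 (by omega) (by omega) (by omega) (by omega) (by omega)]
    · rw [Perm.mul_apply, Perm.mul_apply, hfixp 4 5 7 (by omega) (by omega) (by omega) (by omega) (by omega),
        hfixp 2 3 7 (by omega) (by omega) (by omega) (by omega) (by omega),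
        hfixp 0 1 7 (by omega) (by omega) (by omega) (by omega) (by omega)]
  rw [hchar, hchar, fx_sub c1, fx_sub k12, g1, g12, hα] at e1
  rw [hchar, hchar, fx_sub k123, fx_sub k1234, g123, g1234, hα] at e2
  push_cast at e1 e2
  have hab0 : a + b = 0 := by
    have h8 : (8 : ℂ) * (a + b) = 0 := by
      linear_combination (-((r : ℂ) - 7)) * e1 + ((r : ℂ) - 3) * e2
    exact (mul_eq_zero.1 h8).resolve_left (by norm_num)
  have h1 := hchar 1
  rw [map_one, Representation.char_one, Module.finrank_fin_fun, map_one] at h1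
  have h2 : (d : ℂ) = 0 := by
    rw [h1]
    push_cast
    rw [mul_one, hab0, zero_mul]
  have h3 : d = 0 := by exact_mod_cast h2
  omega

end

end Cfsg.Agent.H80.Fpf.Alt
end

-- part: H80/Fpf/AltC
section
/-!
# Spin representations: vanishing on 2-elements
-/

set_option autoImplicit false
set_option linter.style.haveILetI false
set_option linter.unusedSectionVars false

namespace Cfsg.Agent.H80.Fpf.Alt

open Cfsg Equiv Cfsg.Agent.Characters.Core Cfsg.Agent.SporRec.TwoAn

section

variable {α : Type} [Fintype α] [DecidableEq α] {C : Type} [Group C] (K : Cover α C)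

/-- The sign twist. -/
def tw (a b : α) (u : ℤˣ) : Perm α := if u = 1 then 1 else swap a b

/-- The sign as a central element. -/
def zs (u : ℤˣ) : C := if u = 1 then 1 else K.z

theorem zs_mul (u v : ℤˣ) : zs K (u * v) = zs K u * zs K v := by
  rcases Int.units_eq_one_or u with h | h <;> rcases Int.units_eq_one_or v with h' | h' <;> rw [h, h']
  · simp [zs]
  · simp [zs]
  · simp [zs]
  · simp [zs, K.z_mul_z]

theorem zs_comm (u : ℤˣ) (g : C) : g * zs K u = zs K u * g := by
  rcases Int.units_eq_one_or u with h | h <;> rw [h]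
  · simp [zs]
  · have : zs K (-1) = K.z := by simp [zs]
    rw [this]; exact K.z_comm g

theorem tw_mul (a b : α) (u v : ℤˣ) : tw a b (u * v) = tw a b u * tw a b v := by
  rcases Int.units_eq_one_or u with h | h <;> rcases Int.units_eq_one_or v with h' | h' <;> rw [h, h']
  · simp [tw]
  · simp [tw]
  · simp [tw]
  · simp [tw]

/-- Commutators with lifts of `c · (a b)^{sgn c}`. -/
theorem comm_ind (p : α → Prop) [DecidablePred p] {a b : α} (hab : a ≠ b) (ha : ¬ p a) (hb : ¬ p b) (v : C)
    (hv : ∀ x y : α, p x → p y → x ≠ y → ∀ u, K.π u = swap x y * swap a b → u * v = v * u * K.z)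
    (c : Perm (Subtype p)) : ∀ u, K.π u = Perm.ofSubtype c * tw a b (Perm.sign c) →
      u * v = v * u * zs K (Perm.sign c) := by
  induction c using Equiv.Perm.swap_induction_on with
  | one =>
    intro u hu
    rw [map_one, map_one, one_mul] at hu
    have h1 : tw a b 1 = 1 := by simp [tw]
    rw [h1] at hu
    have h2 : zs K (Perm.sign (1 : Perm (Subtype p))) = 1 := by simp [zs]
    rw [h2, mul_one]
    rcases (K.ker u).1 hu with h | h
    · rw [h, one_mul, mul_one]
    · rw [h, K.z_comm]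
  | swap_mul f x y hxy ih =>
    intro u hu
    have hne : (x : α) ≠ (y : α) := fun h => hxy (Subtype.ext h)
    have hxa : (x : α) ≠ a := fun h => ha (h ▸ x.2)
    have hxb : (x : α) ≠ b := fun h => hb (h ▸ x.2)
    have hya : (y : α) ≠ a := fun h => ha (h ▸ y.2)
    have hyb : (y : α) ≠ b := fun h => hb (h ▸ y.2)
    -- lifts
    have hm1 : swap (x : α) y * swap a b ∈ alternatingGroup α := by
      rw [Perm.mem_alternatingGroup, Perm.sign_mul, Perm.sign_swap hne, Perm.sign_swap hab]
      decide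
    have hm2 : Perm.ofSubtype f * tw a b (Perm.sign f) ∈ alternatingGroup α := by
      rw [Perm.mem_alternatingGroup, Perm.sign_mul, Perm.sign_ofSubtype]
      rcases Int.units_eq_one_or (Perm.sign f) with h | h <;> rw [h]
      · simp [tw]
      · have h3 : tw a b (-1) = swap a b := by simp [tw]
        rw [h3, Perm.sign_swap hab]; decide
    obtain ⟨u1, hu1⟩ := K.exists_lift hm1
    obtain ⟨u2, hu2⟩ := K.exists_lift hm2
    have h1 := hv x y x.2 y.2 hne u1 hu1
    have h2 := ih u2 hu2
    have hcomm : swap a b * Perm.ofSubtype f = Perm.ofSubtype f * swap a b := by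
      have h3 : Perm.Disjoint (swap a b) (Perm.ofSubtype f) := by
        intro w
        by_cases hw : p w
        · left
          exact swap_apply_of_ne_of_ne (fun h => ha (h ▸ hw)) (fun h => hb (h ▸ hw))
        · right
          exact Perm.ofSubtype_apply_of_not_mem f hw
      exact h3.commute.eq
    have hs : Perm.sign (swap x y * f) = -1 * Perm.sign f := by
      rw [Perm.sign_mul, Perm.sign_swap hxy]
    have hπ : K.π u = K.π (u1 * u2) := by
      rw [hu, map_mul K.π, hu1, hu2, map_mul Perm.ofSubtype, hs, tw_mul]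
      have h3 : tw a b (-1) = swap a b := by simp [tw]
      have h4 : Perm.ofSubtype (swap x y) = swap (x : α) y := Perm.ofSubtype_swap_eq x y
      rw [h3, h4]
      calc swap (x : α) y * Perm.ofSubtype f * (swap a b * tw a b (Perm.sign f))
          = swap (x : α) y * (Perm.ofSubtype f * swap a b) * tw a b (Perm.sign f) := by simp only [mul_assoc]
        _ = swap (x : α) y * (swap a b * Perm.ofSubtype f) * tw a b (Perm.sign f) := by rw [hcomm]
        _ = _ := by simp only [mul_assoc]
    have hz1 : zs K (-1) = K.z := by simp [zs]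
    have h12 : u1 * u2 * v = v * (u1 * u2) * zs K (-1 * Perm.sign f) := by
      rw [zs_mul, hz1]
      calc u1 * u2 * v = u1 * (v * u2 * zs K (Perm.sign f)) := by rw [mul_assoc, h2]
        _ = (u1 * v) * u2 * zs K (Perm.sign f) := by simp only [mul_assoc]
        _ = (v * u1 * K.z) * u2 * zs K (Perm.sign f) := by rw [h1]
        _ = v * u1 * (K.z * u2) * zs K (Perm.sign f) := by simp only [mul_assoc]
        _ = v * u1 * (u2 * K.z) * zs K (Perm.sign f) := by rw [K.z_comm u2]
        _ = _ := by simp only [mul_assoc]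
    rw [hs]
    rcases K.lift_eq hπ with h | h
    · rw [h]; exact h12
    · rw [h]
      calc u1 * u2 * K.z * v = u1 * u2 * (K.z * v) := by simp only [mul_assoc]
        _ = u1 * u2 * (v * K.z) := by rw [K.z_comm v]
        _ = (u1 * u2 * v) * K.z := by simp only [mul_assoc]
        _ = v * (u1 * u2) * (zs K (-1 * Perm.sign f) * K.z) := by rw [h12, mul_assoc]
        _ = v * (u1 * u2) * (K.z * zs K (-1 * Perm.sign f)) := by rw [← zs_comm]
        _ = _ := by simp only [mul_assoc]

/-- Three disjoint odd permutations. -/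
theorem anticomm_odd {a b : α} (hab : a ≠ b) {c d : Perm α} (hcd : Perm.Disjoint c d) (hca : c a = a) (hcb : c b = b)
    (hda : d a = a) (hdb : d b = b) (hc : Perm.sign c = -1) (hd : Perm.sign d = -1) {u v : C}
    (hu : K.π u = c * swap a b) (hv : K.π v = d * swap a b) : u * v = v * u * K.z := by
  classical
  have hcs : ∀ x, c (c x) ≠ c x ↔ c x ≠ x := fun x => (c.injective.ne_iff)
  have hds : ∀ x, d (d x) ≠ d x ↔ d x ≠ x := fun x => (d.injective.ne_iff)
  have hcsub : Perm.ofSubtype (c.subtypePerm (p := fun x => c x ≠ x) hcs) = c :=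
    Perm.ofSubtype_subtypePerm hcs (fun x hx => hx)
  have hdsub : Perm.ofSubtype (d.subtypePerm (p := fun x => d x ≠ x) hds) = d :=
    Perm.ofSubtype_subtypePerm hds (fun x hx => hx)
  have hcsg : Perm.sign (c.subtypePerm (p := fun x => c x ≠ x) hcs) = -1 := by
    rw [← Perm.sign_ofSubtype, hcsub, hc]
  have hdsg : Perm.sign (d.subtypePerm (p := fun x => d x ≠ x) hds) = -1 := by
    rw [← Perm.sign_ofSubtype, hdsub, hd]
  have htw : tw a b (-1) = swap a b := by simp [tw]
  have hzs : zs K (-1) = K.z := by simp [zs]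
  have hout := comm_ind K (fun x => c x ≠ x) hab (by simpa using hca) (by simpa using hcb) v ?_
    (c.subtypePerm (p := fun x => c x ≠ x) hcs) u (by rw [hcsub, hcsg, htw]; exact hu)
  · rw [hcsg, hzs] at hout
    exact hout
  · intro x y hx hy hxy w hw
    have hdx : d x = x := (hcd x).resolve_left hx
    have hdy : d y = y := (hcd y).resolve_left hy
    have hxa : x ≠ a := by rintro rfl; exact hx hca
    have hxb : x ≠ b := by rintro rfl; exact hx hcb
    have hya : y ≠ a := by rintro rfl; exact hy hca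
    have hyb : y ≠ b := by rintro rfl; exact hy hcb
    have hin := comm_ind K (fun x => d x ≠ x) hab (by simpa using hda) (by simpa using hdb) w ?_
      (d.subtypePerm (p := fun x => d x ≠ x) hds) v (by rw [hdsub, hdsg, htw]; exact hv)
    · rw [hdsg, hzs] at hin
      rw [hin, mul_assoc, K.z_mul_z, mul_one]
    · intro s t hs ht hst w' hw'
      have hsx : s ≠ x := by rintro rfl; exact hs hdx
      have hsy : s ≠ y := by rintro rfl; exact hs hdy
      have htx : t ≠ x := by rintro rfl; exact ht hdx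
      have hty : t ≠ y := by rintro rfl; exact ht hdy
      have hsa : s ≠ a := by rintro rfl; exact hs hda
      have hsb : s ≠ b := by rintro rfl; exact hs hdb
      have hta : t ≠ a := by rintro rfl; exact ht hda
      have htb : t ≠ b := by rintro rfl; exact ht hdb
      have h1 := K.dbl s t a b hst hsa hsb hta htb hab w' hw'
      have h2 := K.dbl x y a b hxy hxa hxb hya hyb hab w hw
      have h3 := K.dbl s t x y hst hsx hsy htx hty hxy (w' * w) (by
        rw [map_mul, hw', hw]
        have h4 : swap a b * (swap x y * swap a b) = swap x y := by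
          have h5 : Perm.Disjoint (swap a b) (swap x y) := by
            intro q
            by_cases hq : q = x ∨ q = y
            · left
              rcases hq with rfl | rfl
              · exact swap_apply_of_ne_of_ne hxa hxb
              · exact swap_apply_of_ne_of_ne hya hyb
            · right
              rw [not_or] at hq
              exact swap_apply_of_ne_of_ne hq.1 hq.2
          rw [← mul_assoc, h5.commute.eq, mul_assoc, swap_mul_self, mul_one]
        rw [mul_assoc, h4])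
      -- `w' w w' w = z`
      have h6 : w' * w = K.z * (w⁻¹ * w'⁻¹) := by
        have : w' * w * (w' * w) * (w⁻¹ * w'⁻¹) = w' * w := by group
        rw [h3] at this
        exact this.symm
      have hw'i : w'⁻¹ = w' * K.z := by
        rw [inv_eq_iff_mul_eq_one, ← mul_assoc, h1, K.z_mul_z]
      have hwi : w⁻¹ = w * K.z := by
        rw [inv_eq_iff_mul_eq_one, ← mul_assoc, h2, K.z_mul_z]
      rw [h6, hw'i, hwi]
      calc K.z * (w * K.z * (w' * K.z)) = K.z * (w * (K.z * w') * K.z) := by simp only [mul_assoc]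
        _ = K.z * (w * (w' * K.z) * K.z) := by rw [K.z_comm w']
        _ = K.z * (w * w') * (K.z * K.z) := by simp only [mul_assoc]
        _ = K.z * (w * w') := by rw [K.z_mul_z, mul_one]
        _ = w * w' * K.z := (K.z_comm _).symm

/-- **Vanishing.** An even permutation with two fixed points and a cycle of even length: its lifts
are conjugate. -/
theorem exists_conj_z {a b : α} (hab : a ≠ b) {g : C} (hga : K.π g a = a) (hgb : K.π g b = b)
    {c : Perm α} (hc : c ∈ (K.π g).cycleFactorsFinset) (hodd : Perm.sign c = -1) :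
    ∃ w, w * g * w⁻¹ = g * K.z := by
  have hdis : Perm.Disjoint (K.π g * c⁻¹) c := Perm.disjoint_mul_inv_of_mem_cycleFactorsFinset hc
  have hca : c a = a := by
    by_contra h
    have h1 : a ∈ (K.π g).support := Perm.mem_cycleFactorsFinset_support_le hc (Perm.mem_support.2 h)
    exact (Perm.mem_support.1 h1) hga
  have hcb : c b = b := by
    by_contra h
    have h1 : b ∈ (K.π g).support := Perm.mem_cycleFactorsFinset_support_le hc (Perm.mem_support.2 h)
    exact (Perm.mem_support.1 h1) hgb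
  have hcia : c⁻¹ a = a := by rw [Perm.inv_eq_iff_eq, hca]
  have hcib : c⁻¹ b = b := by rw [Perm.inv_eq_iff_eq, hcb]
  set d := K.π g * c⁻¹ with hd
  have hda : d a = a := by rw [hd, Perm.mul_apply, hcia, hga]
  have hdb : d b = b := by rw [hd, Perm.mul_apply, hcib, hgb]
  have hds : Perm.sign d = -1 := by
    rw [hd, Perm.sign_mul, Perm.sign_inv, hodd, Perm.mem_alternatingGroup.1 (K.mem_alternating g)]
    decide
  have hmem : ∀ e : Perm α, Perm.sign e = -1 → e * swap a b ∈ alternatingGroup α := by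
    intro e he
    rw [Perm.mem_alternatingGroup, Perm.sign_mul, he, Perm.sign_swap hab]
    decide
  obtain ⟨u, hu⟩ := K.exists_lift (hmem c hodd)
  obtain ⟨v, hv⟩ := K.exists_lift (hmem d hds)
  have hanti := anticomm_odd K hab hdis.symm hca hcb hda hdb hodd hds hu hv
  have hdsw : d * swap a b = swap a b * d := by
    have h3 : Perm.Disjoint d (swap a b) := by
      intro w
      by_cases hw : w = a ∨ w = b
      · left
        rcases hw with rfl | rfl
        · exact hda
        · exact hdb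
      · right
        rw [not_or] at hw
        exact swap_apply_of_ne_of_ne hw.1 hw.2
    exact h3.commute.eq
  have hπ : K.π g = K.π (u * v) := by
    rw [map_mul, hu, hv, hdsw, mul_assoc, ← mul_assoc (swap a b), swap_mul_self, one_mul, ← hdis.commute.eq, hd,
      inv_mul_cancel_right]
  refine ⟨u, ?_⟩
  have key : u * (u * v) * u⁻¹ = u * v * K.z := by
    calc u * (u * v) * u⁻¹ = u * (v * u * K.z) * u⁻¹ := by rw [hanti]
      _ = u * v * (u * K.z) * u⁻¹ := by simp only [mul_assoc]
      _ = u * v * (K.z * u) * u⁻¹ := by rw [K.z_comm u]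
      _ = u * v * K.z := by simp only [mul_assoc, mul_inv_cancel, mul_one]
  rcases K.lift_eq hπ with h | h
  · rw [h]; exact key
  · rw [h]
    calc u * (u * v * K.z) * u⁻¹ = u * (u * v) * (K.z * u⁻¹) := by simp only [mul_assoc]
      _ = u * (u * v) * (u⁻¹ * K.z) := by rw [K.z_comm u⁻¹]
      _ = (u * (u * v) * u⁻¹) * K.z := by simp only [mul_assoc]
      _ = _ := by rw [key]

end

end Cfsg.Agent.H80.Fpf.Alt
end

-- part: H80/Fpf/AltD
section
/-!
# No spin representation without fixed vectors of `r`-cycles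
-/

set_option autoImplicit false
set_option linter.style.haveILetI false
set_option linter.unusedSectionVars false

namespace Cfsg.Agent.H80.Fpf.Alt

open Cfsg Equiv Cfsg.Agent.Characters.Core Cfsg.Agent.SporRec.TwoAn

section

variable {α : Type} [Fintype α] [DecidableEq α]

/-- A nontrivial 2-element has a cycle of even length. -/
theorem exists_odd_factor {σ : Perm α} (h1 : σ ≠ 1) {k : ℕ} (hk : σ ^ 2 ^ k = 1) :
    ∃ c ∈ σ.cycleFactorsFinset, Perm.sign c = -1 := by
  have hne : σ.cycleFactorsFinset.Nonempty := by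
    rw [Finset.nonempty_iff_ne_empty]
    intro h
    exact h1 (Perm.cycleFactorsFinset_eq_empty_iff.1 h)
  obtain ⟨c, hc⟩ := hne
  refine ⟨c, hc, ?_⟩
  have hcyc : c.IsCycle := (Perm.mem_cycleFactorsFinset_iff.1 hc).1
  have h2 : 2 ≤ c.support.card := hcyc.two_le_card_support
  have h3 : c.support.card ∣ orderOf σ := by
    apply Perm.dvd_of_mem_cycleType
    rw [Perm.cycleType_def, Multiset.mem_map]
    exact ⟨c, hc, rfl⟩
  have h4 : c.support.card ∣ 2 ^ k := h3.trans (orderOf_dvd_of_pow_eq_one hk)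
  obtain ⟨j, -, hj⟩ := (Nat.dvd_prime_pow Nat.prime_two).1 h4
  have hev : Even c.support.card := by
    rw [hj]
    have hj0 : j ≠ 0 := by
      rintro rfl
      rw [pow_zero] at hj
      omega
    exact (Nat.even_pow' hj0).2 even_two
  rw [hcyc.sign, hev.neg_one_pow]

/-- **Divisibility of the degrees of spin representations.** -/
theorem card_dvd_sq {C : Type} [Group C] [Finite C] (K : Cover α C) {a b : α} (hab : a ≠ b) (P : Subgroup (Perm α))
    (hP : P ≤ alternatingGroup α) (hPa : ∀ σ ∈ P, σ a = a) (hPb : ∀ σ ∈ P, σ b = b) {k : ℕ}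
    (hPc : Nat.card P = 2 ^ k) {d : ℕ} (ρ : Representation ℂ C (Fin d → ℂ)) (hz : ρ K.z = -1) : 2 ^ k ∣ d ^ 2 := by
  classical
  let Q : Subgroup C := P.comap K.π
  let f : Q →* P := K.π.subgroupComap P
  have hf : Function.Surjective f := by
    rintro ⟨σ, hσ⟩
    obtain ⟨g, rfl⟩ := K.exists_lift (hP hσ)
    exact ⟨⟨g, hσ⟩, rfl⟩
  haveI : Fintype Q := Fintype.ofFinite Q
  haveI : Fintype P := Fintype.ofFinite P
  have hzchar : ∀ g, ρ.character (g * K.z) = -ρ.character g := by
    intro g
    show LinearMap.trace ℂ _ (ρ (g * K.z)) = -LinearMap.trace ℂ _ (ρ g)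
    have h1 : ρ (g * K.z) = -ρ g := by
      rw [map_mul, hz]
      apply LinearMap.ext
      intro v
      show ρ g (-v) = -(ρ g v)
      rw [map_neg]
    rw [h1, map_neg]
  have hd1 : ρ.character 1 = (d : ℂ) := by
    rw [Representation.char_one, Module.finrank_fin_fun]
  let F : P → ℝ := fun s => if s = 1 then (d : ℝ) ^ 2 else 0
  have hF : ∀ g : Q, Complex.normSq (ρ.character (g : C)) = F (f g) := by
    intro g
    have hg : K.π g ∈ P := g.2
    by_cases h1 : f g = 1
    · have h2 : K.π g = 1 := congrArg (fun s : P => (s : Perm α)) h1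
      simp only [F, if_pos h1]
      rcases (K.ker _).1 h2 with h3 | h3
      · rw [h3, hd1, Complex.normSq_natCast, sq]
      · have h4 := hzchar 1
        rw [one_mul] at h4
        rw [h3, h4, hd1, Complex.normSq_neg, Complex.normSq_natCast, sq]
    · have h2 : K.π g ≠ 1 := by
        intro h
        apply h1
        exact Subtype.ext h
      simp only [F, if_neg h1]
      have h3 : K.π g ^ 2 ^ k = 1 := by
        have h4 : (⟨K.π g, hg⟩ : P) ^ 2 ^ k = 1 := by rw [← hPc]; exact pow_card_eq_one'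
        exact congrArg (fun s : P => (s : Perm α)) h4
      obtain ⟨c, hc, hodd⟩ := exists_odd_factor h2 h3
      obtain ⟨w, hw⟩ := exists_conj_z K hab (hPa _ hg) (hPb _ hg) hc hodd
      have h5 : ρ.character (g : C) = -ρ.character (g : C) := by
        rw [← hzchar, ← hw, Representation.char_conj]
      have h6 : ρ.character (g : C) = 0 := by
        have : (2 : ℂ) * ρ.character (g : C) = 0 := by linear_combination h5
        exact (mul_eq_zero.1 this).resolve_left two_ne_zero
      rw [h6, map_zero]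
  have hchar : IsCharacter Q (fun g : Q => ρ.character (g : C)) := isCharacter_comp Q.subtype ⟨d, ρ, rfl⟩
  obtain ⟨n, hn⟩ := classInner_isNat hchar hchar
  rw [classInner_self_eq_ofReal] at hn
  have hsum : ∑ g : Q, Complex.normSq (ρ.character (g : C)) = (Nat.card f.ker : ℝ) * (d : ℝ) ^ 2 := by
    rw [Finset.sum_congr rfl (fun g _ => hF g), sum_fiber hf F]
    congr 1
    simp only [F, _root_.Finset.sum_ite_eq', _root_.Finset.mem_univ, ↓ _root_.reduceIte]
  have hcard : (Nat.card Q : ℝ) = (Nat.card f.ker : ℝ) * (Nat.card P : ℝ) := by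
    have h1 := sum_fiber hf (fun _ => (1 : ℝ))
    rw [Finset.sum_const, Finset.sum_const, Finset.card_univ, Finset.card_univ, nsmul_eq_mul, nsmul_eq_mul, mul_one,
      mul_one, ← Nat.card_eq_fintype_card, ← Nat.card_eq_fintype_card] at h1
    exact h1
  have hk0 : (Nat.card f.ker : ℝ) ≠ 0 := by exact_mod_cast Nat.card_pos.ne'
  have hP0 : (Nat.card P : ℝ) ≠ 0 := by exact_mod_cast Nat.card_pos.ne'
  have h1 : (Nat.card Q : ℝ)⁻¹ * ∑ g : Q, Complex.normSq (ρ.character (g : C)) = (n : ℝ) := by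
    have h2 : (((Nat.card Q : ℝ)⁻¹ * ∑ g : Q, Complex.normSq (ρ.character (g : C)) : ℝ) : ℂ) = ((n : ℝ) : ℂ) := by
      rw [hn]; simp
    exact_mod_cast h2
  rw [hsum, hcard] at h1
  have h2 : (d : ℝ) ^ 2 = (Nat.card P : ℝ) * n := by
    rw [← h1]; field_simp
  refine ⟨n, ?_⟩
  rw [hPc] at h2
  exact_mod_cast h2

/-- The embedding of `S_α`. -/
def incl2 : Perm α →* Perm (α ⊕ Fin 2) where
  toFun σ := Perm.sumCongr σ 1
  map_one' := Perm.sumCongr_one
  map_mul' σ τ := by rw [Perm.sumCongr_mul, one_mul]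

theorem incl2_injective : Function.Injective (incl2 (α := α)) := by
  intro σ τ h
  ext x
  have h1 := congrArg (fun e : Perm (α ⊕ Fin 2) => e (Sum.inl x)) h
  exact Sum.inl.inj h1

theorem sign_incl2 (σ : Perm α) : Perm.sign (incl2 σ) = Perm.sign σ := by
  show Perm.sign (Perm.sumCongr σ 1) = _
  rw [Perm.sign_sumCongr, Perm.sign_one, mul_one]

/-- 2-subgroups with two fixed points. -/
theorem exists_two_subgroup {r k : ℕ} (hr : 2 ≤ r) (hα : Fintype.card α = r) (hk : 2 ^ (k + 1) ∣ r.factorial) :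
    ∃ P : Subgroup (Perm (α ⊕ Fin 2)), P ≤ alternatingGroup (α ⊕ Fin 2) ∧ (∀ σ ∈ P, σ (Sum.inr 0) = Sum.inr 0) ∧
      (∀ σ ∈ P, σ (Sum.inr 1) = Sum.inr 1) ∧ Nat.card P = 2 ^ k := by
  haveI : Nontrivial α := Fintype.one_lt_card_iff_nontrivial.1 (by omega)
  have h1 : 2 * Nat.card (alternatingGroup α) = r.factorial := by
    rw [Nat.card_eq_fintype_card, two_mul_card_alternatingGroup, Fintype.card_perm, hα]
  have h2 : 2 ^ k ∣ Nat.card (alternatingGroup α) := by
    rw [← h1, pow_succ'] at hk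
    exact Nat.dvd_of_mul_dvd_mul_left two_pos hk
  obtain ⟨K0, hK0⟩ := Sylow.exists_subgroup_card_pow_prime 2 h2
  let i : alternatingGroup α →* Perm (α ⊕ Fin 2) := incl2.comp (alternatingGroup α).subtype
  have hi : Function.Injective i := incl2_injective.comp (alternatingGroup α).subtype_injective
  refine ⟨K0.map i, ?_, ?_, ?_, ?_⟩
  · rintro _ ⟨σ, -, rfl⟩
    rw [Perm.mem_alternatingGroup]
    exact (sign_incl2 _).trans (Perm.mem_alternatingGroup.1 σ.2)
  · rintro _ ⟨σ, -, rfl⟩
    rfl
  · rintro _ ⟨σ, -, rfl⟩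
    rfl
  · rw [Subgroup.card_map_of_injective hi, hK0]

/-- The arithmetic for `r ≥ 17`. -/
theorem exists_pow_two {r : ℕ} (hr : 17 ≤ r) (hodd : Odd r) :
    ∃ k, 2 ^ (k + 1) ∣ r.factorial ∧ (r - 1) ^ 2 * (2 * r) ≤ 2 ^ k := by
  obtain ⟨j, rfl⟩ : ∃ j, r = 17 + 2 * j := by
    obtain ⟨m, rfl⟩ := hodd
    exact ⟨m - 8, by omega⟩
  clear hr hodd
  induction j with
  | zero => exact ⟨14, by decide, by norm_num⟩
  | succ j ih =>
    obtain ⟨k, hk1, hk2⟩ := ih
    refine ⟨k + 1, ?_, ?_⟩
    · have e : 17 + 2 * (j + 1) = (17 + 2 * j) + 1 + 1 := by ring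
      rw [e, Nat.factorial_succ, Nat.factorial_succ, pow_succ]
      have h2 : 2 ∣ 17 + 2 * j + 1 := ⟨9 + j, by ring⟩
      rw [mul_comm (2 ^ (k + 1)) 2]
      exact (Nat.mul_dvd_mul h2 hk1).mul_left _
    · have e1 : 17 + 2 * j - 1 = 16 + 2 * j := by omega
      have e2 : 17 + 2 * (j + 1) - 1 = 18 + 2 * j := by omega
      rw [e1] at hk2
      rw [e2]
      calc (18 + 2 * j) ^ 2 * (2 * (17 + 2 * (j + 1)))
          ≤ (18 + 2 * j) ^ 2 * (2 * (17 + 2 * (j + 1))) + (5096 + 2368 * j + 344 * j ^ 2 + 16 * j ^ 3) :=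
            Nat.le_add_right _ _
        _ = ((16 + 2 * j) ^ 2 * (2 * (17 + 2 * j))) * 2 := by ring
        _ ≤ 2 ^ k * 2 := Nat.mul_le_mul_right _ hk2
        _ = 2 ^ (k + 1) := (pow_succ 2 k).symm

end

end Cfsg.Agent.H80.Fpf.Alt
end

-- part: H80/Fpf/AltE
section
/-!
# Alternating groups: primes `r ≥ 13` with `r + 2 ≤ n` are excluded
-/

set_option autoImplicit false
set_option linter.style.haveILetI false
set_option linter.unusedSectionVars false

namespace Cfsg.Agent.H80.Fpf.Alt

open Cfsg Equiv Cfsg.Agent.Characters.Core Cfsg.Agent.SporRec.TwoAn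

section

variable {α : Type} [Fintype α] [DecidableEq α]

theorem sign_of_odd_order {σ : Perm α} {r : ℕ} (hr : Odd r) (hσ : σ ^ r = 1) : Perm.sign σ = 1 := by
  have h3 : Perm.sign σ ^ r = 1 := by rw [← map_pow, hσ, map_one]
  rcases Int.units_eq_one_or (Perm.sign σ) with h4 | h4
  · exact h4
  · rw [h4, hr.neg_one_pow] at h3
    exact absurd h3 (by decide)

theorem exists_order {r : ℕ} (hr : r.Prime) (hα : Fintype.card α = r) : ∃ x : Perm α, orderOf x = r := by
  haveI : Fact r.Prime := ⟨hr⟩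
  have hrd : r ∣ Nat.card (Perm α) := by
    rw [Nat.card_perm, Nat.card_eq_fintype_card, hα]
    exact Nat.dvd_factorial hr.pos le_rfl
  exact exists_prime_orderOf_dvd_card' r hrd

theorem card_centralizer_alt {r : ℕ} (hr : r.Prime) (h3 : 3 ≤ r) (hα : Fintype.card α = r)
    {x : alternatingGroup (α ⊕ Fin 2)} (hx : orderOf x = r) :
    Nat.card (Subgroup.centralizer ({x} : Set (alternatingGroup (α ⊕ Fin 2)))) ≤ 2 * r := by
  have hcard : Fintype.card (α ⊕ Fin 2) = r + 2 := by rw [Fintype.card_sum, hα, Fintype.card_fin]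
  have hx' : orderOf (x : Perm (α ⊕ Fin 2)) = r := by rw [Subgroup.orderOf_coe, hx]
  have h1 := card_centralizer_cycle (cycleType_of_order hr (by rw [hcard]; omega) hx')
  have h2 : Fintype.card (α ⊕ Fin 2) - r = 2 := by omega
  rw [h2] at h1
  have h4 : Nat.factorial 2 = 2 := rfl
  rw [h4] at h1
  rw [← h1]
  refine Nat.card_le_card_of_injective
    (fun z : Subgroup.centralizer ({x} : Set (alternatingGroup (α ⊕ Fin 2))) =>
      (⟨((z : alternatingGroup (α ⊕ Fin 2)) : Perm (α ⊕ Fin 2)), ?_⟩ :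
        Subgroup.centralizer ({(x : Perm (α ⊕ Fin 2))} : Set (Perm (α ⊕ Fin 2))))) ?_
  · rw [Subgroup.mem_centralizer_iff]
    intro y hy
    rw [Set.mem_singleton_iff] at hy
    rw [hy]
    exact congrArg Subtype.val (Subgroup.mem_centralizer_iff.1 z.2 x rfl)
  · intro a b hab
    apply Subtype.ext
    apply Subtype.ext
    exact congrArg (fun z : Subgroup.centralizer ({(x : Perm (α ⊕ Fin 2))} : Set (Perm (α ⊕ Fin 2))) =>
      (z : Perm (α ⊕ Fin 2))) hab

theorem two_pow_dvd_13 : 2 ^ (9 + 1) ∣ Nat.factorial 13 := by decide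

theorem eq_32 {d : ℕ} (hd : 0 < d) (h61 : d ≤ 61) (h : 2 ^ 9 ∣ d ^ 2) : d = 32 := by
  revert h
  interval_cases d <;> norm_num

/-- **The spin case.** -/
theorem no_spin {r : ℕ} (hr : r.Prime) (h13 : 13 ≤ r) (hα : Fintype.card α = r) {C : Type} [Group C] [Finite C]
    {π : C →* alternatingGroup (α ⊕ Fin 2)} (hπ : IsCover π) (K : Cover (α ⊕ Fin 2) C)
    (hker : ¬ r ∣ Nat.card π.ker) {d : ℕ} (ρ : Representation ℂ C (Fin d → ℂ)) (hρ : ρ.IsIrreducible)
    (hz : ρ K.z = -1) (hfix : ∀ g, orderOf g = r → ∀ v, ρ g v = v → v = 0) : False := by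
  have hodd : Odd r := hr.odd_of_ne_two (by omega)
  obtain ⟨x0, hx0⟩ := exists_order hr hα
  have hx0r : x0 ^ r = 1 := by rw [← hx0, pow_orderOf_eq_one]
  have hsx : incl2 x0 ∈ alternatingGroup (α ⊕ Fin 2) := by
    rw [Perm.mem_alternatingGroup, sign_incl2]
    exact sign_of_odd_order hodd hx0r
  let x : alternatingGroup (α ⊕ Fin 2) := ⟨incl2 x0, hsx⟩
  have hx : orderOf x = r := by
    rw [← Subgroup.orderOf_coe]
    show orderOf (incl2 x0) = r
    rw [orderOf_injective _ incl2_injective, hx0]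
  have hnb := norm_bound hπ hr hker ρ hρ hfix hx
  have hN := card_normalizer_le_centralizer hr hx
  have hC := card_centralizer_alt hr (by omega) hα hx
  have hbound : d ^ 2 < (r - 1) ^ 2 * (2 * r) := by
    have h1 := Nat.mul_le_mul_left (r - 1) (hN.trans (Nat.mul_le_mul_left (r - 1) hC))
    refine lt_of_lt_of_le hnb (h1.trans (le_of_eq ?_))
    ring
  haveI := hρ
  have hd : 0 < d := Cfsg.Agent.Blocks.CliffordCentral.pos_of_irreducible ρ
  have hne : (Sum.inr 0 : α ⊕ Fin 2) ≠ Sum.inr 1 := by simp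
  have hdvd : ∀ k, 2 ^ (k + 1) ∣ r.factorial → 2 ^ k ∣ d ^ 2 := by
    intro k hk
    obtain ⟨P, hP, hPa, hPb, hPc⟩ := exists_two_subgroup (by omega) hα hk
    exact card_dvd_sq K hne P hP hPa hPb hPc ρ hz
  by_cases h : r = 13
  · subst h
    have h512 : 2 ^ 9 ∣ d ^ 2 := hdvd 9 two_pow_dvd_13
    have hd61 : d ≤ 61 := by
      by_contra hlt
      have h1 : 62 ≤ d := by omega
      have h2 : 62 ^ 2 ≤ d ^ 2 := Nat.pow_le_pow_left h1 2
      norm_num at hbound h2
      omega
    have hd32 : d = 32 := eq_32 hd hd61 h512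
    -- the character value
    obtain ⟨xh, hxh, hxh13⟩ := K.exists_odd_lift hsx (n := 13) (by decide) (by rw [← map_pow, hx0r, map_one])
    haveI : Fact (Nat.Prime 13) := ⟨hr⟩
    have hordx : orderOf xh = 13 := by
      apply orderOf_eq_prime hxh13
      intro h1
      rw [h1, map_one] at hxh
      have h2 : x0 = 1 := incl2_injective (by rw [← hxh, map_one])
      rw [h2, orderOf_one] at hx0
      exact absurd hx0 (by decide)
    have hconj : ∀ i ∈ Finset.Ico 1 13, ρ.character (xh ^ i) = ρ.character xh := by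
      intro i hi
      rw [Finset.mem_Ico] at hi
      have hcop : Nat.Coprime 13 i := by
        rw [Nat.Prime.coprime_iff_not_dvd hr]
        intro h1
        have := Nat.le_of_dvd (by omega) h1
        omega
      have hoi : orderOf (x0 ^ i) = 13 := by
        rw [orderOf_pow' x0 (by omega), hx0, hcop, Nat.div_one]
      have hc1 : x0.cycleType = (x0 ^ i).cycleType := by
        rw [cycleType_of_order hr (by omega) hx0, cycleType_of_order hr (by omega) hoi]
      obtain ⟨g, hg⟩ := isConj_iff.1 (Perm.isConj_iff_cycleType_eq.2 hc1)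
      -- an even conjugating element
      obtain ⟨w, hw, hwx⟩ : ∃ w ∈ alternatingGroup (α ⊕ Fin 2), w * incl2 x0 * w⁻¹ = incl2 x0 ^ i := by
        rcases Int.units_eq_one_or (Perm.sign g) with hs | hs
        · refine ⟨incl2 g, by rw [Perm.mem_alternatingGroup, sign_incl2, hs], ?_⟩
          rw [← map_mul, ← map_inv, ← map_mul, hg, map_pow]
        · refine ⟨Perm.sumCongr g (swap 0 1), ?_, ?_⟩
          · rw [Perm.mem_alternatingGroup, Perm.sign_sumCongr, hs]
            decide
          · have h1 : Perm.sumCongr g (swap (0 : Fin 2) 1) = incl2 g * Perm.sumCongr (1 : Perm α) (swap (0 : Fin 2) 1) := by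
              show _ = Perm.sumCongr g 1 * Perm.sumCongr 1 (swap 0 1)
              rw [Perm.sumCongr_mul, mul_one, one_mul]
            have h2 : Perm.sumCongr (1 : Perm α) (swap (0 : Fin 2) 1) * incl2 x0 * (Perm.sumCongr (1 : Perm α) (swap (0 : Fin 2) 1))⁻¹ =
                incl2 x0 := by
              rw [mul_inv_eq_iff_eq_mul]
              show Perm.sumCongr 1 (swap 0 1) * Perm.sumCongr x0 1 = Perm.sumCongr x0 1 * Perm.sumCongr 1 (swap 0 1)
              rw [Perm.sumCongr_mul, Perm.sumCongr_mul, mul_one, one_mul, mul_one, one_mul]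
            rw [h1, mul_inv_rev]
            calc incl2 g * Perm.sumCongr (1 : Perm α) (swap (0 : Fin 2) 1) * incl2 x0 *
                  ((Perm.sumCongr (1 : Perm α) (swap (0 : Fin 2) 1))⁻¹ * (incl2 g)⁻¹)
                = incl2 g * (Perm.sumCongr (1 : Perm α) (swap (0 : Fin 2) 1) * incl2 x0 *
                  (Perm.sumCongr (1 : Perm α) (swap (0 : Fin 2) 1))⁻¹) * (incl2 g)⁻¹ := by simp only [mul_assoc]
              _ = _ := by rw [h2, ← map_mul, ← map_inv, ← map_mul, hg, map_pow]
      obtain ⟨wh, hwh⟩ := K.exists_lift hw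
      have heq : wh * xh * wh⁻¹ = xh ^ i := by
        apply K.odd_lift_unique (n := 13) (by decide)
        · rw [conj_pow, hxh13, mul_one, mul_inv_cancel]
        · rw [← pow_mul, mul_comm, pow_mul, hxh13, one_pow]
        · rw [map_mul, map_mul, map_inv, hwh, hxh, hwx, map_pow, hxh]
      rw [← heq, Representation.char_conj]
    have hs := sum_character hr ρ xh hordx (hfix xh hordx)
    have hdc : (d : ℂ) = 32 := by
      have : (d : ℂ) = ((32 : ℕ) : ℂ) := congrArg _ hd32
      rw [this]; norm_num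
    rw [Finset.sum_congr rfl hconj, Finset.sum_const, Nat.card_Ico, nsmul_eq_mul, hdc] at hs
    have hint : IsIntegral ℤ (ρ.character xh) := by
      apply Cfsg.Agent.Blocks.AvgTrace.isIntegral_trace_of_pow_succ (n := 13) (by norm_num)
      rw [pow_succ, ← map_pow, hxh13, map_one, one_mul]
    have hval : ρ.character xh = algebraMap ℚ ℂ (-8 / 3) := by
      have h1 : (3 : ℂ) * ρ.character xh = -8 := by
        push_cast at hs
        linear_combination hs / 4
      rw [eq_ratCast]
      push_cast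
      field_simp
      linear_combination h1
    rw [hval, isIntegral_algebraMap_iff (algebraMap ℚ ℂ).injective, IsIntegrallyClosed.isIntegral_iff] at hint
    obtain ⟨y, hy⟩ := hint
    have h3 : (3 : ℚ) * (y : ℚ) = -8 := by
      have : (algebraMap ℤ ℚ) y = (y : ℚ) := rfl
      rw [← this, hy]; norm_num
    have h4 : (3 : ℤ) * y = -8 := by exact_mod_cast h3
    omega
  · have h17 : 17 ≤ r := by
      have h14 : r ≠ 14 := by rintro rfl; exact absurd hr (by decide)
      have h15 : r ≠ 15 := by rintro rfl; exact absurd hr (by decide)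
      have h16 : r ≠ 16 := by rintro rfl; exact absurd hr (by decide)
      (clear * - h13 h h14 h15 h16; omega)
    obtain ⟨k, hk1, hk2⟩ := exists_pow_two h17 hodd
    have h1 := Nat.le_of_dvd (by positivity) (hdvd k hk1)
    omega

end

end Cfsg.Agent.H80.Fpf.Alt
end

-- part: H80/Fpf/RowAlt
section
/-!
# The row of the alternating groups
-/

set_option autoImplicit false
set_option linter.style.haveILetI false
set_option linter.unusedSectionVars false

namespace Cfsg.Agent.H80.Fpf.Alt

open Cfsg Equiv Cfsg.Agent.Characters.Core Cfsg.Agent.SporRec.TwoAn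
open scoped commutatorElement

/-- The embedding of alternating groups. -/
noncomputable def altEmb {α β : Type} [Fintype α] [DecidableEq α] [Fintype β] [DecidableEq β] (i : α ↪ β) :
    alternatingGroup α →* alternatingGroup β where
  toFun σ := ⟨Perm.viaEmbeddingHom i σ, by
    rw [Perm.mem_alternatingGroup, Perm.viaEmbeddingHom_apply, Perm.viaEmbedding, Perm.sign_extendDomain]
    exact Perm.mem_alternatingGroup.1 σ.2⟩
  map_one' := by
    apply Subtype.ext
    exact map_one (Perm.viaEmbeddingHom i)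
  map_mul' σ τ := by
    apply Subtype.ext
    exact map_mul (Perm.viaEmbeddingHom i) _ _

theorem altEmb_injective {α β : Type} [Fintype α] [DecidableEq α] [Fintype β] [DecidableEq β] (i : α ↪ β) :
    Function.Injective (altEmb i) := by
  intro σ τ h
  apply Subtype.ext
  exact Perm.viaEmbeddingHom_injective i (congrArg Subtype.val h)

theorem may_of_emb {α β : Type} [Fintype α] [DecidableEq α] [Fintype β] [DecidableEq β] (i : α ↪ β)
    (h5 : 5 ≤ Fintype.card α) {r : ℕ} (h : May r (alternatingGroup β)) : May r (alternatingGroup α) := by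
  refine h.of_hom (altEmb i) (MonoidHom.id (alternatingGroup α)) Function.surjective_id ?_ ?_ ?_
  · rw [MonoidHom.ker_id]; exact bot_le
  · rw [(MonoidHom.ker_eq_bot_iff _).2 (altEmb_injective i)]; exact bot_le
  · exact commutator_alternatingGroup_eq_top (by rw [Nat.card_eq_fintype_card]; exact h5)

/-- The alternating group of degree `r + 2`. -/
theorem not_may_two {r : ℕ} (hr : r.Prime) (h13 : 13 ≤ r) : ¬ May r (alternatingGroup (Fin r ⊕ Fin 2)) := by
  intro h
  have hr2 : r ≠ 2 := by omega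
  obtain ⟨G, _, _, π, hπ, hF⟩ := h
  have hker := hF.not_dvd_ker hπ hr hr2
  obtain ⟨d, ρ, hρ, hd, hfix⟩ := hF.exists_irr
  haveI := hρ
  haveI : Nonempty (Fin d) := ⟨⟨0, hd⟩⟩
  haveI : Nontrivial (Fin d → ℂ) := inferInstance
  -- the kernel has order at most two
  have hcard : Nat.card π.ker ≤ 2 := by
    let e : G ⧸ π.ker ≃* alternatingGroup (Fin (r + 2)) :=
      (QuotientGroup.quotientKerEquivOfSurjective π hπ.surj).trans (Equiv.altCongrHom finSumFinEquiv)
    exact Cfsg.Agent.S0892.result (r + 2) (by omega) (by omega) (by omega) π.ker hπ.central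
      (by rw [hπ.perf]; exact le_top) e
  by_cases hk : π.ker ≤ MonoidHom.ker ρ
  · -- the ordinary case
    obtain ⟨τ, hτ⟩ := exists_factor hπ.surj (W := Fin d → ℂ) ρ hk
    apply not_isFpf_alt (α := Fin r) hr h13 (Fintype.card_fin r)
    refine ⟨d, τ, hd, ?_⟩
    intro g hg v hv
    obtain ⟨x, rfl, hx⟩ := exists_lift hπ hr hker hg
    rw [hτ] at hv
    exact hfix x hx v hv
  · -- the spin case
    obtain ⟨z, hz, hz1⟩ := SetLike.not_le_iff_exists.1 hk
    have hzne : z ≠ 1 := by
      rintro rfl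
      exact hz1 (Subgroup.one_mem _)
    have hall : ∀ x ∈ π.ker, x = 1 ∨ x = z := by
      intro x hx
      by_contra hcon
      rw [not_or] at hcon
      have h3 : 2 < Nat.card π.ker := by
        haveI : Fintype π.ker := Fintype.ofFinite _
        rw [Nat.card_eq_fintype_card, ← Finset.card_univ, Finset.two_lt_card]
        refine ⟨1, Finset.mem_univ _, ⟨z, hz⟩, Finset.mem_univ _, ⟨x, hx⟩, Finset.mem_univ _, ?_, ?_, ?_⟩
        · intro h; exact hzne (congrArg Subtype.val h).symm
        · intro h; exact hcon.1 (congrArg Subtype.val h).symm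
        · intro h; exact hcon.2 (congrArg Subtype.val h).symm
      omega
    have hzz : z * z = 1 := by
      rcases hall (z * z) (π.ker.mul_mem hz hz) with h | h
      · exact h
      · exact absurd (mul_eq_left.1 h) hzne
    have hzc : ∀ x, x * z = z * x := fun x => Subgroup.mem_center_iff.1 (hπ.central hz) x
    -- `ρ z = -1`
    obtain ⟨c, hc⟩ := Cfsg.Agent.Characters.CentralCharacter.exists_scalar_of_commute ρ (ρ z) (by
      intro g v
      rw [← Module.End.mul_apply, ← map_mul, ← hzc g, map_mul, Module.End.mul_apply])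
    have hcc : c * c = 1 := by
      have h1 : ρ (z * z) = ρ z * ρ z := map_mul ρ z z
      rw [hzz, map_one, hc] at h1
      have h2 := congrArg (fun f : Module.End ℂ (Fin d → ℂ) => f (fun _ => 1) ⟨0, hd⟩) h1
      simpa only [_root_.Algebra.mul_smul_comm, _root_.Algebra.smul_mul_assoc, _root_.LinearMap.smul_apply, _root_.Module.End.mul_apply, _root_.LinearMap.id_coe, _root_.id_eq, _root_.Pi.smul_apply, _root_.smul_eq_mul, _root_.mul_one, _root_.Module.End.one_apply] using h2.symm
    have hρz : ρ z = -1 := by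
      rcases mul_self_eq_one_iff.1 hcc with h | h
      · exfalso
        apply hz1
        apply (MonoidHom.mem_ker).2
        rw [hc, h, one_smul]
        rfl
      · rw [hc, h]
        apply LinearMap.ext
        intro v
        show (-1 : ℂ) • v = -v
        rw [neg_one_smul]
    -- the cover
    let π' : G →* alternatingGroup (Fin (r + 2)) := (Equiv.altCongrHom finSumFinEquiv).toMonoidHom.comp π
    have hπ' : Cfsg.Agent.SporadicRecognition.AltCover.IsCover π' z :=
      { z_ne := hzne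
        z_mul := hzz
        z_comm := hzc
        surj := (Equiv.altCongrHom finSumFinEquiv).surjective.comp hπ.surj
        ker := by
          intro x
          have h1 : π' x = 1 ↔ π x = 1 := MulEquiv.map_eq_one_iff (Equiv.altCongrHom finSumFinEquiv)
          rw [h1]
          constructor
          · intro h; exact hall x (MonoidHom.mem_ker.2 h)
          · rintro (h | h)
            · rw [h, map_one]
            · rw [h]; exact MonoidHom.mem_ker.1 hz
        nonsplit := by
          intro s hs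
          -- the image of the section would have index two
          have hn : (s.range).Normal := by
            constructor
            rintro _ ⟨a, rfl⟩ g
            have h1 : π' (g * s a * g⁻¹) = π' (s (π' g * a * (π' g)⁻¹)) := by
              rw [hs, map_mul, map_mul, map_inv, hs]
            have h2 : g = s (π' g) ∨ g = s (π' g) * z := by
              have h3 : π' ((s (π' g))⁻¹ * g) = 1 := by rw [map_mul, map_inv, hs, inv_mul_cancel]
              have h4 : π ((s (π' g))⁻¹ * g) = 1 := (MulEquiv.map_eq_one_iff (Equiv.altCongrHom finSumFinEquiv)).1 h3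
              rcases hall _ (MonoidHom.mem_ker.2 h4) with h5 | h5
              · left; rw [inv_mul_eq_one] at h5; exact h5.symm
              · right; rw [← h5, mul_inv_cancel_left]
            rcases h2 with h3 | h3
            · rw [h3]; exact ⟨π' g * a * (π' g)⁻¹, by rw [map_mul, map_mul, map_inv]⟩
            · rw [h3]
              refine ⟨π' g * a * (π' g)⁻¹, ?_⟩
              rw [map_mul, map_mul, map_inv, mul_inv_rev]
              calc s (π' g) * s a * (s (π' g))⁻¹ = s (π' g) * s a * (z * z⁻¹) * (s (π' g))⁻¹ := by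
                    rw [mul_inv_cancel, mul_one]
                _ = s (π' g) * (s a * z) * z⁻¹ * (s (π' g))⁻¹ := by simp only [mul_assoc]
                _ = s (π' g) * (z * s a) * z⁻¹ * (s (π' g))⁻¹ := by rw [hzc]
                _ = _ := by simp only [mul_assoc]
          have hcm : commutator G ≤ s.range := by
            rw [commutator_def, Subgroup.commutator_le]
            intro x _ y _
            have h2 : ∀ g : G, ∃ e, (e = 1 ∨ e = z) ∧ g = s (π' g) * e := by
              intro g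
              have h3 : π' ((s (π' g))⁻¹ * g) = 1 := by rw [map_mul, map_inv, hs, inv_mul_cancel]
              have h4 : π ((s (π' g))⁻¹ * g) = 1 := (MulEquiv.map_eq_one_iff (Equiv.altCongrHom finSumFinEquiv)).1 h3
              exact ⟨_, hall _ (MonoidHom.mem_ker.2 h4), by rw [mul_inv_cancel_left]⟩
            obtain ⟨e, he, hx⟩ := h2 x
            obtain ⟨f, hf, hy⟩ := h2 y
            have hec : ∀ w, w * e = e * w := by
              intro w
              rcases he with rfl | rfl
              · rw [mul_one, one_mul]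
              · exact hzc w
            have hfc : ∀ w, w * f = f * w := by
              intro w
              rcases hf with rfl | rfl
              · rw [mul_one, one_mul]
              · exact hzc w
            refine ⟨⁅π' x, π' y⁆, ?_⟩
            rw [map_commutatorElement]
            generalize hX : s (π' x) = X at *
            generalize hY : s (π' y) = Y at *
            rw [hx, hy, commutatorElement_def, commutatorElement_def]
            calc X * Y * X⁻¹ * Y⁻¹ = X * (e * e⁻¹) * Y * (f * f⁻¹) * X⁻¹ * Y⁻¹ := by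
                  rw [mul_inv_cancel, mul_inv_cancel, mul_one, mul_one]
              _ = X * e * (Y * f) * (X * e)⁻¹ * (Y * f)⁻¹ := by
                  have e1 : Commute e⁻¹ (Y * f) := (Commute.inv_left (hec _).symm)
                  have e2 : Commute f⁻¹ X⁻¹ := (Commute.inv_left (hfc _).symm)
                  rw [mul_inv_rev, mul_inv_rev]
                  calc X * (e * e⁻¹) * Y * (f * f⁻¹) * X⁻¹ * Y⁻¹
                      = X * e * (e⁻¹ * (Y * f)) * (f⁻¹ * X⁻¹) * Y⁻¹ := by simp only [mul_assoc]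
                    _ = X * e * ((Y * f) * e⁻¹) * (X⁻¹ * f⁻¹) * Y⁻¹ := by rw [e1.eq, e2.eq]
                    _ = X * e * (Y * f) * (e⁻¹ * X⁻¹) * (f⁻¹ * Y⁻¹) := by simp only [mul_assoc]
          have htop : s.range = ⊤ := by
            rw [eq_top_iff, ← hπ.perf]; exact hcm
          obtain ⟨a, ha⟩ := (MonoidHom.range_eq_top.1 htop) z
          have h1 : π' z = 1 := (MulEquiv.map_eq_one_iff (Equiv.altCongrHom finSumFinEquiv)).2 (MonoidHom.mem_ker.1 hz)
          rw [← ha, hs] at h1
          rw [h1, map_one] at ha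
          exact hzne ha.symm }
    let K : Cover (Fin r ⊕ Fin 2) G := (ofIsCover (by omega) hπ').congr finSumFinEquiv.symm
    exact no_spin (α := Fin r) hr h13 (Fintype.card_fin r) hπ K hker ρ hρ hρz hfix

theorem not_may_big {r : ℕ} (hr : r.Prime) (h13 : 13 ≤ r) {n : ℕ} (hn : r + 2 ≤ n) :
    ¬ May r (alternatingGroup (Fin n)) := by
  intro h
  have hcard : Fintype.card (Fin r ⊕ Fin 2) ≤ Fintype.card (Fin n) := by
    rw [Fintype.card_sum, Fintype.card_fin, Fintype.card_fin, Fintype.card_fin]; exact hn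
  obtain ⟨i⟩ := Function.Embedding.nonempty_of_card_le hcard
  apply not_may_two hr h13
  refine may_of_emb i ?_ h
  rw [Fintype.card_sum, Fintype.card_fin, Fintype.card_fin]; omega

/-- Two disjoint `r`-cycles. -/
theorem not_may_small {r : ℕ} (hr : r.Prime) (hr2 : r ≠ 2) {n : ℕ} (hn : 2 * r ≤ n) :
    ¬ May r (alternatingGroup (Fin n)) := by
  intro h
  have hr3 : 3 ≤ r := by have := hr.two_le; omega
  have hcard : Fintype.card (Fin r ⊕ Fin r) ≤ Fintype.card (Fin n) := by
    rw [Fintype.card_sum, Fintype.card_fin, Fintype.card_fin]; omega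
  obtain ⟨i⟩ := Function.Embedding.nonempty_of_card_le hcard
  have h' : May r (alternatingGroup (Fin r ⊕ Fin r)) := by
    refine may_of_emb i ?_ h
    rw [Fintype.card_sum, Fintype.card_fin]; omega
  revert h'
  have hodd : Odd r := hr.odd_of_ne_two hr2
  obtain ⟨x, hx⟩ := exists_order (α := Fin r) hr (Fintype.card_fin r)
  have hxr : x ^ r = 1 := by
    have := pow_orderOf_eq_one x
    rwa [hx] at this
  have hs : Perm.sign x = 1 := sign_of_odd_order hodd hxr
  have hx1 : x ≠ 1 := by
    rintro rfl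
    rw [orderOf_one] at hx
    omega
  have hinj : Function.Injective (Perm.sumCongrHom (Fin r) (Fin r)) := Perm.sumCongrHom_injective
  have hm1 : Perm.sumCongrHom (Fin r) (Fin r) (x, 1) ∈ alternatingGroup (Fin r ⊕ Fin r) := by
    rw [Perm.mem_alternatingGroup]
    show Perm.sign (Perm.sumCongr x 1) = 1
    rw [Perm.sign_sumCongr, hs, Perm.sign_one, one_mul]
  have hm2 : Perm.sumCongrHom (Fin r) (Fin r) (1, x) ∈ alternatingGroup (Fin r ⊕ Fin r) := by
    rw [Perm.mem_alternatingGroup]
    show Perm.sign (Perm.sumCongr 1 x) = 1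
    rw [Perm.sign_sumCongr, hs, Perm.sign_one, one_mul]
  refine not_may_of_comm (a := ⟨_, hm1⟩) (b := ⟨_, hm2⟩) hr hr2 ?_ ?_ ?_ ?_
  · apply Subtype.ext
    show Perm.sumCongrHom (Fin r) (Fin r) (x, 1) * Perm.sumCongrHom (Fin r) (Fin r) (1, x) =
      Perm.sumCongrHom (Fin r) (Fin r) (1, x) * Perm.sumCongrHom (Fin r) (Fin r) (x, 1)
    rw [← map_mul, ← map_mul, Prod.mk_mul_mk, Prod.mk_mul_mk, one_mul, mul_one]
  · rw [← Subgroup.orderOf_coe]
    show orderOf (Perm.sumCongrHom (Fin r) (Fin r) (x, 1)) = r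
    rw [orderOf_injective _ hinj, Prod.orderOf_mk, hx, orderOf_one]
    exact Nat.lcm_one_right _
  · rw [← Subgroup.orderOf_coe]
    show orderOf (Perm.sumCongrHom (Fin r) (Fin r) (1, x)) = r
    rw [orderOf_injective _ hinj, Prod.orderOf_mk, hx, orderOf_one]
    exact Nat.lcm_one_left _
  · rintro ⟨k, hk⟩
    have h1 : (Perm.sumCongrHom (Fin r) (Fin r) (x, 1)) ^ k = Perm.sumCongrHom (Fin r) (Fin r) (1, x) :=
      congrArg Subtype.val hk
    rw [← map_zpow] at h1
    have h2 := congrArg Prod.snd (hinj h1)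
    rw [Prod.pow_snd] at h2
    simp only [one_zpow] at h2
    exact hx1 h2.symm

/-- The space with eight points. -/
abbrev V8 : Type := ZMod 2 × ZMod 2 × ZMod 2

/-- The element of order seven. -/
def x7 : Perm V8 where
  toFun v := (v.2.1, v.2.2, v.1 + v.2.1)
  invFun v := (v.2.2 + v.1, v.1, v.2.1)
  left_inv := by decide
  right_inv := by decide

theorem x7_add : ∀ v w : V8, x7 (v + w) = x7 v + x7 w := by decide +kernel

theorem x7_pow : x7 ^ 7 = 1 := by
  apply Equiv.ext
  decide

/-- The translations. -/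
def trans8 : Subgroup (alternatingGroup V8) where
  carrier := {g | ∀ v, (g : Perm V8) v = v + (g : Perm V8) 0}
  one_mem' := by intro v; simp
  mul_mem' := by
    intro g h hg hh v
    show (g : Perm V8) ((h : Perm V8) v) = v + (g : Perm V8) ((h : Perm V8) 0)
    rw [hh v, hg, hg ((h : Perm V8) 0), add_assoc]
  inv_mem' := by
    intro g hg v
    show (g : Perm V8)⁻¹ v = v + (g : Perm V8)⁻¹ 0
    rw [Perm.inv_eq_iff_eq, hg, add_assoc]
    have h1 : (g : Perm V8)⁻¹ 0 + (g : Perm V8) 0 = 0 := by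
      rw [← hg]
      exact Equiv.apply_symm_apply (g : Perm V8) 0
    rw [h1, add_zero]

theorem isPGroup_trans8 : IsPGroup 2 trans8 := by
  rintro ⟨g, hg⟩
  refine ⟨1, ?_⟩
  apply Subtype.ext
  apply Subtype.ext
  apply Equiv.ext
  intro v
  show ((g : Perm V8) ^ (2 ^ 1)) v = v
  rw [pow_one, sq, Perm.mul_apply, hg v, hg, add_assoc]
  have h : ∀ w : V8, w + w = 0 := by decide
  rw [h, add_zero]

theorem not_may_seven_eight : ¬ May 7 (alternatingGroup V8) := by
  haveI : IsSimpleGroup (alternatingGroup V8) := alternatingGroup.isSimpleGroup (by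
    rw [Nat.card_eq_fintype_card]; decide)
  have h7 : Nat.Prime 7 := by norm_num
  haveI : Fact (Nat.Prime 7) := ⟨h7⟩
  have hx : x7 ∈ alternatingGroup V8 := by
    rw [Perm.mem_alternatingGroup]
    exact sign_of_odd_order (by decide) x7_pow
  let u : V8 := (1, 0, 0)
  let t : Perm V8 := Equiv.addRight u
  have hk : x7 * t * x7⁻¹ * t⁻¹ ∈ alternatingGroup V8 := by
    rw [Perm.mem_alternatingGroup]
    simp only [map_mul, map_inv]
    rw [mul_comm (Perm.sign x7), mul_assoc (Perm.sign t), mul_inv_cancel, mul_one, mul_inv_cancel]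
  have hkv : ∀ v, (x7 * t * x7⁻¹ * t⁻¹) v = v + (1, 0, 1) := by decide
  refine not_may_of_act (l := 2) (K := trans8) (x := ⟨x7, hx⟩) h7 (by norm_num) Nat.prime_two (by norm_num)
    (good_two_of_dvd (q := 3) Nat.prime_three (by norm_num) (by norm_num)) isPGroup_trans8 ?_ ?_
    (k := ⟨_, hk⟩) ?_ ?_
  · rw [← Subgroup.orderOf_coe]
    apply orderOf_eq_prime x7_pow
    intro h
    have := congrArg (fun e : Perm V8 => e (1, 0, 0)) h
    revert this
    decide
  · intro g hg v
    show x7 ((g : Perm V8) (x7⁻¹ v)) = v + x7 ((g : Perm V8) (x7⁻¹ 0))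
    have h0 : x7⁻¹ (0 : V8) = 0 := by decide
    have h1 : x7 (x7⁻¹ v) = v := Equiv.apply_symm_apply x7 v
    rw [hg, x7_add, h1, h0]
  · intro v
    show (x7 * t * x7⁻¹ * t⁻¹) v = v + (x7 * t * x7⁻¹ * t⁻¹) 0
    rw [hkv, hkv, zero_add]
  · intro h
    have h1 := congrArg (fun e : alternatingGroup V8 => (e : Perm V8) 0) h
    have h2 : x7 ((x7 * t * x7⁻¹ * t⁻¹) 0) = (x7 * t * x7⁻¹ * t⁻¹) (x7 0) := h1
    rw [hkv, hkv] at h2
    revert h2
    decide

theorem not_may_seven {n : ℕ} (hn : 8 ≤ n) : ¬ May 7 (alternatingGroup (Fin n)) := by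
  intro h
  have hc8 : Fintype.card V8 = 8 := by decide
  have hcard : Fintype.card V8 ≤ Fintype.card (Fin n) := by
    rw [hc8, Fintype.card_fin]; exact hn
  obtain ⟨i⟩ := Function.Embedding.nonempty_of_card_le hcard
  exact not_may_seven_eight (may_of_emb i (by rw [hc8]; norm_num) h)

/-- **The row of the alternating groups.** -/
theorem row_alt {S : Type} [Group S] (h : Cfsg.IsAlternating S) : Row S := by
  obtain ⟨n, hn, ⟨e⟩⟩ := h
  refine Row.of_equiv e.symm ?_
  haveI : Nontrivial (Fin n) := Fin.nontrivial_iff_two_le.2 (by omega)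
  -- prime divisors are at most `n`
  have hle : ∀ r : ℕ, r.Prime → r ∣ Nat.card (alternatingGroup (Fin n)) → r ≤ n := by
    intro r hr hd
    have h1 : 2 * Nat.card (alternatingGroup (Fin n)) = n.factorial := by
      rw [Nat.card_eq_fintype_card, two_mul_card_alternatingGroup, Fintype.card_perm, Fintype.card_fin]
    have h2 : r ∣ n.factorial := by rw [← h1]; exact hd.mul_left _
    exact (hr.dvd_factorial).1 h2
  have key : ∀ r : ℕ, r.Prime → r ≠ 2 → r ∣ Nat.card (alternatingGroup (Fin n)) →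
      May r (alternatingGroup (Fin n)) → n < 2 * r ∧ (r = 7 → n ≤ 7) ∧ (13 ≤ r → n ≤ r + 1) ∧ r ≤ n := by
    intro r hr hr2 hd hM
    refine ⟨?_, ?_, ?_, hle r hr hd⟩
    · by_contra hlt
      exact not_may_small hr hr2 (by omega) hM
    · rintro rfl
      by_contra hlt
      exact not_may_seven (by omega) hM
    · intro h13
      by_contra hlt
      exact not_may_big hr h13 (by omega) hM
  by_cases h5 : n = 5
  · subst h5
    refine ⟨3, 5, ?_⟩
    intro r hr hr2 hd hM
    have h1 := hle r hr hd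
    have h2 := hr.two_le
    interval_cases r
    · exact absurd rfl hr2
    · left; rfl
    · exact absurd hr (by decide)
    · right; rfl
  by_cases h9 : n ≤ 9
  · refine ⟨5, 7, ?_⟩
    intro r hr hr2 hd hM
    obtain ⟨h1, h2, h3, h4⟩ := key r hr hr2 hd hM
    have h5 := hr.two_le
    have h6 : r ≤ 9 := by omega
    interval_cases r
    · exact absurd rfl hr2
    · omega
    · exact absurd hr (by decide)
    · left; rfl
    · exact absurd hr (by decide)
    · right; rfl
    · exact absurd hr (by decide)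
    · exact absurd hr (by decide)
  · refine ⟨11, if Even n then n - 1 else n, ?_⟩
    intro r hr hr2 hd hM
    obtain ⟨h1, h2, h3, h4⟩ := key r hr hr2 hd hM
    by_cases h13 : 13 ≤ r
    · right
      have h5 := h3 h13
      have hodd : r % 2 = 1 := Nat.odd_iff.1 (hr.odd_of_ne_two hr2)
      split_ifs with hev
      · have := Nat.even_iff.1 hev
        omega
      · have := Nat.odd_iff.1 (Nat.not_even_iff_odd.1 hev)
        omega
    · left
      have h5 : 6 ≤ r := by omega
      have h6 : r ≤ 12 := by omega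
      interval_cases r
      · exact absurd hr (by decide)
      · omega
      · exact absurd hr (by decide)
      · exact absurd hr (by decide)
      · exact absurd hr (by decide)
      · rfl
      · exact absurd hr (by decide)

end Cfsg.Agent.H80.Fpf.Alt
end

-- part: H682/Fpf/AutThirtyOne
section
/-!
# An automorphism of order 31 of the elementary abelian group of order 32 (helper682)
-/
set_option autoImplicit false
set_option linter.style.haveILetI false
namespace Cfsg.Agent.H682.Fpf

theorem exists_aut {E : Type*} [Group E] [Finite E] (hcomm : ∀ x y : E, x * y = y * x) (h2 : ∀ x : E, x * x = 1)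
    (hc : Nat.card E = 32) : ∃ α : E ≃* E, (α : MulAut E) ^ 31 = 1 ∧ (α : MulAut E) ≠ 1 := by
  letI : CommGroup E := { (inferInstance : Group E) with mul_comm := hcomm }
  letI : Module (ZMod 2) (Additive E) := AddCommGroup.zmodModule (fun x => by
    rw [two_nsmul]; exact h2 x.toMul)
  have hf : Module.finrank (ZMod 2) (Additive E) = 5 := by
    have h1 := Module.natCard_eq_pow_finrank (K := ZMod 2) (V := Additive E)
    rw [show Nat.card (Additive E) = 32 from hc, Nat.card_zmod] at h1
    exact (Nat.pow_right_injective le_rfl (h1.symm.trans (show 32 = 2 ^ 5 by norm_num)))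
  have hF : Module.finrank (ZMod 2) (GaloisField 2 5) = 5 := GaloisField.finrank 2 (by norm_num)
  obtain ⟨e⟩ : Nonempty (Additive E ≃ₗ[ZMod 2] GaloisField 2 5) :=
    ⟨LinearEquiv.ofFinrankEq _ _ (hf.trans hF.symm)⟩
  haveI : Finite (GaloisField 2 5) := inferInstance
  haveI : Fact (Nat.Prime 31) := ⟨by norm_num⟩
  have hu : Nat.card (GaloisField 2 5)ˣ = 31 := by
    rw [Nat.card_units, GaloisField.card 2 5 (by norm_num)]; norm_num
  obtain ⟨ζ, hζ⟩ := exists_prime_orderOf_dvd_card' (G := (GaloisField 2 5)ˣ) 31 (by rw [hu])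
  let g : (GaloisField 2 5)ˣ → E → E := fun u x => (e.symm ((u : GaloisField 2 5) * e (Additive.ofMul x))).toMul
  have hg : ∀ u v x, g (u * v) x = g u (g v x) := by
    intro u v x
    change (e.symm _).toMul = (e.symm ((u : GaloisField 2 5) * e (e.symm ((v : GaloisField 2 5) * e (Additive.ofMul x))))).toMul
    rw [LinearEquiv.apply_symm_apply, ← mul_assoc, Units.val_mul]
  have hg1 : ∀ x, g 1 x = x := by
    intro x
    change (e.symm _).toMul = x
    rw [Units.val_one, one_mul, LinearEquiv.symm_apply_apply]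
    rfl
  have hgm : ∀ u x y, g u (x * y) = g u x * g u y := by
    intro u x y
    change (e.symm ((u : GaloisField 2 5) * e (Additive.ofMul x + Additive.ofMul y))).toMul = _
    rw [map_add, mul_add, map_add]
    rfl
  let f : (GaloisField 2 5)ˣ →* MulAut E :=
    { toFun := fun u => ⟨⟨g u, g u⁻¹, fun x => by rw [← hg, inv_mul_cancel, hg1], fun x => by
        rw [← hg, mul_inv_cancel, hg1]⟩, hgm u⟩
      map_one' := MulEquiv.ext hg1
      map_mul' := fun u v => MulEquiv.ext (hg u v) }
  refine ⟨f ζ, ?_, ?_⟩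
  · have h1 : ζ ^ 31 = 1 := by rw [← hζ, pow_orderOf_eq_one]
    rw [← map_pow, h1, map_one]
  · intro h
    have h3 : f ζ (e.symm 1).toMul = (e.symm 1).toMul := by rw [h]; rfl
    have h4 : e.symm ((ζ : GaloisField 2 5) * e (e.symm 1)) = e.symm 1 := h3
    have h5 := e.symm.injective h4
    rw [LinearEquiv.apply_symm_apply, mul_one] at h5
    have h6 : ζ = 1 := Units.ext h5
    rw [h6, orderOf_one] at hζ
    exact absurd hζ (by norm_num)

end Cfsg.Agent.H682.Fpf
end

-- part: H682/Fpf/ThRow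
section
/-!
# S4228: the row of the Thompson group (helper682)
-/

set_option autoImplicit false
set_option linter.style.haveILetI false

namespace Cfsg.Agent.H682.Fpf

open Cfsg Cfsg.Agent.H80.Fpf
open Cfsg.Agent.Th.Base Cfsg.Agent.Th.Word Cfsg.Agent.Th.KOracle Cfsg.Agent.Th.IndexUpper
open Cfsg.Agent.ThType.SpinData Cfsg.Agent.ThType.NatData Cfsg.Agent.ThType.ElemE Cfsg.Agent.ThType.NormE

/-- the 2-local data of an involution with centraliser `2^(1+8).A₉` -/
theorem spin_or_nat {G : Type*} [Group G] [Finite G] (t : G) (ht : orderOf t = 2) (C : Subgroup G)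
    (hC : Subgroup.centralizer ({t} : Set G) = C) (Q0 : Subgroup G) (f : C →* alternatingGroup (Fin 9))
    (hf : Function.Surjective f) (hker : f.ker = Q0.subgroupOf C) (hle : Q0 ≤ C)
    (hE : Cfsg.IsExtraspecial 2 Q0) (hcard : Nat.card Q0 = 2 ^ 9)
    (hcc : ∀ x : G, (∀ q ∈ Q0, x * q = q * x) → x ∈ Q0) :
    Nonempty (SpinAt G t) ∨ Nonempty (NatAt G t) := by
  subst hC
  haveI hn : (Q0.subgroupOf (Subgroup.centralizer ({t} : Set G))).Normal := by
    rw [← hker]; infer_instance
  have hE' : Cfsg.IsExtraspecial 2 (Q0.subgroupOf (Subgroup.centralizer ({t} : Set G))) :=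
    Cfsg.Agent.J2.ExtQuot.isExtraspecial_of_equiv (Subgroup.subgroupOfEquivOfLe hle).symm hE
  have hcard' : Nat.card (Q0.subgroupOf (Subgroup.centralizer ({t} : Set G))) = 2 ^ 9 := by
    rw [← hcard]
    exact Nat.card_congr (Subgroup.subgroupOfEquivOfLe hle).toEquiv
  have hcc' : Subgroup.centralizer ((Q0.subgroupOf (Subgroup.centralizer ({t} : Set G)) :
      Subgroup _) : Set (Subgroup.centralizer ({t} : Set G))) ≤ Q0.subgroupOf (Subgroup.centralizer ({t} : Set G)) := by
    rintro ⟨x, hx⟩ hxc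
    rw [Subgroup.mem_subgroupOf]
    refine hcc x fun q hq => ?_
    have h1 := Subgroup.mem_centralizer_iff.1 hxc ⟨q, hle hq⟩ hq
    exact (congrArg Subtype.val h1).symm
  have e : (Subgroup.centralizer ({t} : Set G)) ⧸ Q0.subgroupOf (Subgroup.centralizer ({t} : Set G)) ≃*
      alternatingGroup (Fin 9) :=
    (QuotientGroup.quotientMulEquivOfEq hker.symm).trans (QuotientGroup.quotientKerEquivOfSurjective f hf)
  rcases Cfsg.Agent.ThType.ModMain.main t ht _ hE' hcard' hcc' e with ⟨S, -⟩ | ⟨S, -⟩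
  · exact Or.inl ⟨S⟩
  · exact Or.inr ⟨S⟩

theorem spin_Th : Nonempty (SpinAt Cfsg.Spor.Th (gTh 1)) := by
  have ctx := Cfsg.Agent.KFacts.Th.Main.ctx
  haveI : Finite Cfsg.Spor.Th := ctx.fin
  haveI : IsSimpleGroup Cfsg.Spor.Th := S1700.result.1
  obtain ⟨f, hf, hker, -⟩ := ctx.exists_epi
  have ht : orderOf (gTh 1) = 2 := orderOf_eq_prime (p := 2) gTh_relK.a2 ctx.a1
  rcases spin_or_nat (gTh 1) ht _ ctx.cent _ f hf hker ctx.Q_le ctx.extraspecial (by rw [ctx.cardQ]; norm_num)
    (fun x hx => by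
      rcases ctx.eq_of_cent hx with h | h
      · rw [h]; exact Subgroup.one_mem _
      · rw [h]; exact ctx.a_mem) with h | ⟨⟨N⟩⟩
  · exact h
  · exact (Cfsg.Agent.ThType.FusN.false_of_nat N).elim

theorem s_ne : gTh 6 ≠ 1 := by
  intro hs
  have K := gTh_relK
  have he := K.es
  rw [hs] at he
  have he1 : gTh 5 = 1 := by
    simpa using he
  have hd := K.de3
  rw [he1, mul_one] at hd
  have hd1 : gTh 4 = 1 := by
    have h2 := K.d2
    calc gTh 4 = gTh 4 ^ 3 * (gTh 4 ^ 2)⁻¹ := by group
      _ = 1 := by rw [hd, h2, inv_one, mul_one]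
  have ha := K.acd
  rw [hd1, mul_one] at ha
  have hc4 : gTh 3 ^ 4 = 1 := by
    rw [show (4 : ℕ) = 2 * 2 by norm_num, pow_mul, K.c2, one_pow]
  rw [hc4, inv_one, mul_one] at ha
  exact Cfsg.Agent.KFacts.Th.Main.ctx.a1 ha

theorem order_s : orderOf (gTh 6) = 7 := by
  haveI : Fact (Nat.Prime 7) := ⟨by norm_num⟩
  exact orderOf_eq_prime gTh_relK.s7 s_ne

theorem ts : (gTh 8)⁻¹ * gTh 6 * gTh 8 = gTh 6 ^ 2 := by
  have h := gTh_relK.st
  exact mul_inv_eq_one.1 h

theorem ts_ne : (gTh 8)⁻¹ * gTh 6 ≠ gTh 6 * (gTh 8)⁻¹ := by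
  intro h
  have h1 := ts
  rw [h, inv_mul_cancel_right] at h1
  apply s_ne
  calc gTh 6 = gTh 6 ^ 2 * (gTh 6)⁻¹ := by group
    _ = 1 := by rw [← h1, mul_inv_cancel]

theorem order_t : orderOf (gTh 8)⁻¹ = 3 := by
  haveI : Fact (Nat.Prime 3) := ⟨Nat.prime_three⟩
  rw [orderOf_inv]
  apply orderOf_eq_prime gTh_relK.t3
  intro h
  apply ts_ne
  rw [h, inv_one, one_mul, mul_one]

theorem not_three : ¬ May 3 Cfsg.Spor.Th := by
  haveI : Finite Cfsg.Spor.Th := Cfsg.Agent.KFacts.Th.Main.finite
  haveI : IsSimpleGroup Cfsg.Spor.Th := S1700.result.1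
  refine not_may_of_frob (l := 7) Nat.prime_three (by norm_num) (by norm_num) (by norm_num) (by norm_num)
    order_t order_s (a := 2) ?_ ts_ne
  rw [inv_inv]
  exact ts

section

open Cfsg.Agent.Th Cfsg.Agent.Th.Gen248 Cfsg.Agent.Th.Hom248 Cfsg.Agent.H502.ThFiveP
  Cfsg.Agent.H502.ThFivePCheck

theorem k_z1 : Nat.beq (Words248.expd Cfsg.Agent.H502.ThFivePData.mz) Words248.idm = false := by decide +kernel

theorem notAb_five : Cfsg.Agent.H800.Sp.NotAb 5 Cfsg.Spor.Th := by
  haveI : Finite Cfsg.Spor.Th := Cfsg.Agent.KFacts.Th.Main.finite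
  haveI : Fact (Nat.Prime 5) := ⟨Nat.prime_five⟩
  exact Cfsg.Agent.H800.Sp.notAb_of_heis x5 y5 z5 xz yz xy (rz.ne_of Rep.one k_z1)

end

theorem not_five : ¬ May 5 Cfsg.Spor.Th := by
  haveI : Finite Cfsg.Spor.Th := Cfsg.Agent.KFacts.Th.Main.finite
  exact Cfsg.Agent.H844.Fpf.not_may_of_notAb (by norm_num) (by norm_num) notAb_five

theorem not_seven : ¬ May 7 Cfsg.Spor.Th := by
  have ctx := Cfsg.Agent.KFacts.Th.Main.ctx
  haveI : Finite Cfsg.Spor.Th := ctx.fin
  haveI : IsSimpleGroup Cfsg.Spor.Th := S1700.result.1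
  have hex : ∃ q ∈ Cfsg.Agent.Th.CStruct.Q0 gTh, gTh 6 * q ≠ q * gTh 6 := by
    by_contra hcon
    push Not at hcon
    rcases ctx.eq_of_cent hcon with h | h
    · exact s_ne h
    · have h1 := order_s
      rw [h, orderOf_eq_prime (p := 2) gTh_relK.a2 ctx.a1] at h1
      exact absurd h1 (by norm_num)
  obtain ⟨q, hq, hne⟩ := hex
  refine not_may_of_act (l := 2) (K := Cfsg.Agent.Th.CStruct.Q0 gTh) (by norm_num) (by norm_num) Nat.prime_two
    (by norm_num) (good_two_of_dvd Nat.prime_three (by norm_num) (by norm_num)) ?_ order_s ?_ hq hne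
  · haveI : Fact (Nat.Prime 2) := ⟨Nat.prime_two⟩
    exact IsPGroup.of_card (n := 9) (by rw [ctx.cardQ]; norm_num)
  · intro k hk
    have h6 : (gTh 6)⁻¹ ∈ sub gTh isC := Subgroup.inv_mem _ (ctx.letter_mem (x := 6) (by simp))
    have h7 := ctx.Q_conj h6 hk
    rwa [inv_inv] at h7

theorem not_thirtyone : ¬ May 31 Cfsg.Spor.Th := by
  have ctx := Cfsg.Agent.KFacts.Th.Main.ctx
  haveI : Finite Cfsg.Spor.Th := ctx.fin
  haveI : IsSimpleGroup Cfsg.Spor.Th := S1700.result.1
  haveI : Fact (Nat.Prime 31) := ⟨by norm_num⟩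
  obtain ⟨S⟩ := spin_Th
  have hF := Cfsg.Agent.ThType.FusS.exists_conj_mem S
  obtain ⟨α, hα, hα1⟩ := exists_aut (E := El S 8) (fun x y => Subtype.ext (El_comm S x.2 y.2))
    (fun x => Subtype.ext (El_sq S x.2)) (card_El S 8)
  obtain ⟨g, hg⟩ := exists_autE S hF 8 α
  have hpow : ∀ (n : ℕ) (e : El S 8), g ^ n * e.1 * (g ^ n)⁻¹ = (((α : MulAut (El S 8)) ^ n) e).1 := by
    intro n
    induction n with
    | zero => intro e; simp
    | succ n ih =>
      intro e
      calc g ^ (n + 1) * e.1 * (g ^ (n + 1))⁻¹ = g ^ n * (g * e.1 * g⁻¹) * (g ^ n)⁻¹ := by rw [pow_succ]; group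
        _ = _ := by rw [hg, ih, pow_succ]; rfl
  have hord : orderOf (α : MulAut (El S 8)) = 31 := orderOf_eq_prime hα hα1
  have hd : 31 ∣ orderOf g := by
    rw [← hord]
    apply orderOf_dvd_of_pow_eq_one
    ext e
    rw [← hpow, pow_orderOf_eq_one]
    simp
  obtain ⟨m, hm⟩ := hd
  have hm31 : ¬ 31 ∣ m := by
    rintro ⟨k, rfl⟩
    have h1 : orderOf g ∣ Nat.card Cfsg.Spor.Th := orderOf_dvd_natCard g
    rw [ctx.card, hm] at h1
    have h2 : 31 * 31 ∣ 90745943887872000 := (Dvd.intro k (by ring)).trans h1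
    exact absurd h2 (by norm_num)
  have hm0 : m ≠ 0 := by
    rintro rfl
    exact hm31 (dvd_zero _)
  have hx : orderOf (g ^ m) = 31 := by
    rw [orderOf_pow_of_dvd hm0 (by rw [hm]; exact Dvd.intro_left _ rfl), hm]
    exact Nat.mul_div_cancel _ (Nat.pos_of_ne_zero hm0)
  have hαm : (α : MulAut (El S 8)) ^ m ≠ 1 := by
    intro h
    exact hm31 (by rw [← hord]; exact orderOf_dvd_of_pow_eq_one h)
  have hex : ∃ e : El S 8, ((α : MulAut (El S 8)) ^ m) e ≠ e := by
    by_contra hcon
    push Not at hcon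
    exact hαm (MulEquiv.ext hcon)
  obtain ⟨e, he⟩ := hex
  refine not_may_of_act (l := 2) (K := El S 8) (x := g ^ m) (k := e.1) (by norm_num) (by norm_num) Nat.prime_two
    (by norm_num) (good_two_of_dvd Nat.prime_three (by norm_num) (by norm_num)) ?_ hx ?_ e.2 ?_
  · haveI : Fact (Nat.Prime 2) := ⟨Nat.prime_two⟩
    exact IsPGroup.of_card (n := 5) (by rw [card_El]; norm_num)
  · intro k hk
    rw [hpow m ⟨k, hk⟩]
    exact Subtype.coe_prop _
  · intro h
    apply he
    apply Subtype.ext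
    rw [← hpow, h, mul_inv_cancel_right]

/-- **The row of `Th`.** -/
theorem row_th : Row Cfsg.Spor.Th := by
  have ctx := Cfsg.Agent.KFacts.Th.Main.ctx
  refine row_of 13 19 fun r hr hr2 hd h13 h19 => ?_
  have hd' : r = 3 ∨ r = 5 ∨ r = 7 ∨ r = 31 := by
    have h1 : r ∣ 2 ^ 15 * 3 ^ 10 * 5 ^ 3 * 7 ^ 2 * 13 * 19 * 31 := by
      rw [ctx.card] at hd
      exact hd.trans (Dvd.intro 1 (by norm_num))
    have hp := hr.prime
    have key : ∀ q : ℕ, q.Prime → r ∣ q → r = q := fun q hq h => (Nat.prime_dvd_prime_iff_eq hr hq).1 h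
    rcases hp.dvd_or_dvd h1 with h1 | h1
    · rcases hp.dvd_or_dvd h1 with h1 | h1
      · rcases hp.dvd_or_dvd h1 with h1 | h1
        · rcases hp.dvd_or_dvd h1 with h1 | h1
          · rcases hp.dvd_or_dvd h1 with h1 | h1
            · rcases hp.dvd_or_dvd h1 with h1 | h1
              · exact absurd (key 2 Nat.prime_two (hr.dvd_of_dvd_pow h1)) hr2
              · exact Or.inl (key 3 Nat.prime_three (hr.dvd_of_dvd_pow h1))
            · exact Or.inr (Or.inl (key 5 Nat.prime_five (hr.dvd_of_dvd_pow h1)))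
          · exact Or.inr (Or.inr (Or.inl (key 7 (by norm_num) (hr.dvd_of_dvd_pow h1))))
        · exact absurd (key 13 (by norm_num) h1) h13
      · exact absurd (key 19 (by norm_num) h1) h19
    · exact Or.inr (Or.inr (Or.inr (key 31 (by norm_num) h1)))
  rcases hd' with rfl | rfl | rfl | rfl
  · exact not_three
  · exact not_five
  · exact not_seven
  · exact not_thirtyone

end Cfsg.Agent.H682.Fpf
end

-- part: H51/Fpf/Cube
section
/-!
# Extraspecial subgroups of order `p ^ 3` (helper51, for S4228)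
-/

set_option autoImplicit false

namespace Cfsg.Agent.H51.Fpf

open Cfsg.Agent.H80.Fpf Subgroup

/-- `a, b, c` generate an extraspecial group of order `p ^ 3` with centre `⟨c⟩` -/
theorem not_may_of_cube {S : Type*} [Group S] [Finite S] {p : ℕ} (hp : p.Prime) (hp2 : p ≠ 2) {a b c : S}
    (hac : a * c = c * a) (hbc : b * c = c * b) (hab : a * b = c * (b * a)) (hb : b ^ p = 1) (hc : c ^ p = 1)
    (hc1 : c ≠ 1) : ¬ May p S := by
  intro h
  have : Fact p.Prime := ⟨hp⟩
  have h1 := h.mem_zpowers hp hp2 hbc.symm (orderOf_eq_prime hc hc1) hb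
  obtain ⟨k, hk⟩ := h1
  have hk' : c ^ k = b := hk
  have h2 : a * b = b * a := by
    rw [← hk']
    exact ((show Commute a c from hac).zpow_right k).eq
  rw [h2] at hab
  exact hc1 (mul_eq_right.1 hab.symm)

end Cfsg.Agent.H51.Fpf
end

-- part: H51/Fpf/Ru
section
/-!
# The Rudvalis group: at most two fixed-point-free primes (helper51, for S4228)

`r = 3, 5` : extraspecial Sylow subgroups; `r = 7` : the Borel subgroup of `Sz(8)`.
-/

set_option autoImplicit false

namespace Cfsg.Agent.H51.Fpf.Ru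

open Subgroup Cfsg Cfsg.Agent.H80.Fpf Cfsg.Agent.SporadicB Cfsg.Agent.SporadicB.RuOrder
  Cfsg.Agent.SporRec.TCUpperCert Cfsg.Agent.SporRec.R3.Kernel Cfsg.Agent.RuD.Letters
open Cfsg.Agent.H978.RadRu (rep wprod_rep chkEqW eq_of_chkEqW ne_one_of)
open Cfsg.Agent.RuB (K8)

private noncomputable def _root_.Cfsg.Agent.KObf83678.k0 : (by first | exact type_of% @Cfsg.Agent.RuD.Letters.forceN | exact Unit : Sort _) := by first | (refine @Subtype.val _ (fun g => @Cfsg.Agent.RuD.Letters.forceN = @g) (@Subtype.mk _ _ (@(fun x0 x1 => @Nat.rec.{1} @(fun x2 => ℕ) (@x1 (nat_lit 0)) @(fun x2 x3 => @x1 (@Nat.succ @x2)) @x0)) ?_); rfl') | exact @Cfsg.Agent.RuD.Letters.forceN | exact ()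
private theorem _root_.Cfsg.Agent.KObf83678.e0 : (by first | exact @Cfsg.Agent.RuD.Letters.forceN = @_root_.Cfsg.Agent.KObf83678.k0 | exact True : Prop) := by first | (delta _root_.Cfsg.Agent.KObf83678.k0; exact @Subtype.property _ (fun g => @Cfsg.Agent.RuD.Letters.forceN = @g) _) | rfl | trivial
private noncomputable def _root_.Cfsg.Agent.KObf83678.oEq.{ku} (α : Sort ku) (a b : Nat) (f t : α) : α := @Decidable.rec (a = b) (fun _ => α) (fun _ => f) (fun _ => t) (Nat.decEq a b)
private noncomputable def _root_.Cfsg.Agent.KObf83678.k1.{ku} (α : Sort ku) (a b : Nat) (f t : α) : α := @Bool.rec (fun _ => α) f t (Nat.beq a b)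
private theorem _root_.Cfsg.Agent.KObf83678.e1.{ku} : @_root_.Cfsg.Agent.KObf83678.oEq.{ku} = @_root_.Cfsg.Agent.KObf83678.k1.{ku} := funext fun α => funext fun a => funext fun b => funext fun f => funext fun t => by delta _root_.Cfsg.Agent.KObf83678.oEq _root_.Cfsg.Agent.KObf83678.k1; cases h : Nat.beq a b <;> cases Nat.decEq a b <;> rename_i g <;> first | rfl | exact absurd g (Nat.ne_of_beq_eq_false h) | exact absurd (Nat.eq_of_beq_eq_true h) g
private noncomputable def _root_.Cfsg.Agent.KObf83678.k2 : (by first | exact type_of% @Cfsg.Agent.Lib.BitNet.sw | exact Unit : Sort _) := by first | (refine @Subtype.val _ (fun g => @Cfsg.Agent.Lib.BitNet.sw = @g) (@Subtype.mk _ _ (@(fun x0 x1 x2 => @Bool.rec.{1} @(fun x3 => ℕ) (@Bool.rec.{1} @(fun x3 => ℕ) @x2 (@Nat.sub @x2 @x0) (@Bool.rec.{1} @(fun x3 => @Bool) @Bool.false (@Bool.rec.{1} @(fun x3 => @Bool) @Bool.true @Bool.false (@Cfsg.Agent.KObf83678.k1.{1} @Bool (@Nat.land (nat_lit 1) (@Nat.shiftRight @x1 (@Nat.sub @x2 @x0))) (nat_lit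 0) @Bool.false @Bool.true)) (@Nat.ble @x0 @x2))) (@Nat.add @x2 @x0) (@Bool.rec.{1} @(fun x3 => @Bool) @Bool.true @Bool.false (@Cfsg.Agent.KObf83678.k1.{1} @Bool (@Nat.land (nat_lit 1) (@Nat.shiftRight @x1 @x2)) (nat_lit 0) @Bool.false @Bool.true)))) ?_); rewrite [← Cfsg.Agent.KObf83678.e1.{1}]; rfl') | exact @Cfsg.Agent.Lib.BitNet.sw | exact ()
private theorem _root_.Cfsg.Agent.KObf83678.e2 : (by first | exact @Cfsg.Agent.Lib.BitNet.sw = @_root_.Cfsg.Agent.KObf83678.k2 | exact True : Prop) := by first | (delta _root_.Cfsg.Agent.KObf83678.k2; exact @Subtype.property _ (fun g => @Cfsg.Agent.Lib.BitNet.sw = @g) _) | rfl | trivial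
private noncomputable def _root_.Cfsg.Agent.KObf83678.k3 : (by first | exact type_of% @Cfsg.Agent.RuD.Letters.appK | exact Unit : Sort _) := by first | (refine @Subtype.val _ (fun g => @Cfsg.Agent.RuD.Letters.appK = @g) (@Subtype.mk _ _ (@(fun x0 => @List.rec.{1, 0} (ℕ × ℕ) @(fun x1 => ℕ → ℕ) @(fun x1 => @x1) @(fun x1 x2 x3 x4 => @Cfsg.Agent.KObf83678.k0 (@Cfsg.Agent.KObf83678.k2 (@Prod.fst.{0, 0} _ _ @x1) (@Prod.snd.{0, 0} _ _ @x1) @x4) @x3) @x0)) ?_); rewrite [← Cfsg.Agent.KObf83678.e2, ← Cfsg.Agent.KObf83678.e0]; (try delta Cfsg.Agent.RuD.Letters.appK); (try generalize @Cfsg.Agent.RuD.Letters.forceN = g0); (try generalize @Cfsg.Agent.Lib.BitNet.sw = g1); rfl') | exact @Cfsg.Agent.RuD.Letters.appK | exact ()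
private theorem _root_.Cfsg.Agent.KObf83678.e3 : (by first | exact @Cfsg.Agent.RuD.Letters.appK = @_root_.Cfsg.Agent.KObf83678.k3 | exact True : Prop) := by first | (delta _root_.Cfsg.Agent.KObf83678.k3; exact @Subtype.property _ (fun g => @Cfsg.Agent.RuD.Letters.appK = @g) _) | rfl | trivial
private noncomputable def _root_.Cfsg.Agent.KObf83678.k4 : (by first | exact type_of% @Cfsg.Agent.RuD.Letters.evalK | exact Unit : Sort _) := by first | (refine @Subtype.val _ (fun g => @Cfsg.Agent.RuD.Letters.evalK = @g) (@Subtype.mk _ _ (@(fun x0 x1 => @List.rec.{1, 0} ℕ @(fun x2 => ℕ) @x1 @(fun x2 x3 x4 => @Cfsg.Agent.KObf83678.k0 @x4 (@Cfsg.Agent.KObf83678.k3 (@Cfsg.Agent.RuD.Letters.nthL @Cfsg.Agent.RuD.Letters.NL @x2))) @x0)) ?_); rewrite [← Cfsg.Agent.KObf83678.e3, ← Cfsg.Agent.KObf83678.e0]; (try delta Cfsg.Agent.RuD.Letters.evalK); (try generalize @Cfsg.Agent.RuD.Letters.forceN = g0); (try generalize @Cfsg.Agent.RuD.Letters.appK = g1); (try generalize @Cfsg.Agent.RuD.Letters.nthL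 = g2); (try generalize @Cfsg.Agent.RuD.Letters.NL = g3); rfl') | exact @Cfsg.Agent.RuD.Letters.evalK | exact ()
private theorem _root_.Cfsg.Agent.KObf83678.e4 : (by first | exact @Cfsg.Agent.RuD.Letters.evalK = @_root_.Cfsg.Agent.KObf83678.k4 | exact True : Prop) := by first | (delta _root_.Cfsg.Agent.KObf83678.k4; exact @Subtype.property _ (fun g => @Cfsg.Agent.RuD.Letters.evalK = @g) _) | rfl | trivial
private noncomputable def _root_.Cfsg.Agent.KObf83678.k5 : (by first | exact type_of% @Cfsg.Agent.H978.RadRu.chkEqW | exact Unit : Sort _) := by first | (refine @Subtype.val _ (fun g => @Cfsg.Agent.H978.RadRu.chkEqW = @g) (@Subtype.mk _ _ (@(fun x0 x1 => @Cfsg.Agent.SporRec.R3.Kernel.allL _ @(fun x2 => @Nat.beq (@Cfsg.Agent.KObf83678.k4 @x0 @x2) (@Cfsg.Agent.KObf83678.k4 @x1 @x2)) ((nat_lit 0) :: ((nat_lit 29) :: ((nat_lit 580) :: ((nat_lit 577) :: [])))))) ?_); rewrite [← Cfsg.Agent.KObf83678.e4]; (try delta Cfsg.Agent.H978.RadRu.chkEqW); (try generalize @Cfsg.Agent.SporRec.R3.Kernel.allL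 = g0); (try generalize @Cfsg.Agent.RuD.Letters.evalK = g1); rfl') | exact @Cfsg.Agent.H978.RadRu.chkEqW | exact ()
private theorem _root_.Cfsg.Agent.KObf83678.e5 : (by first | exact @Cfsg.Agent.H978.RadRu.chkEqW = @_root_.Cfsg.Agent.KObf83678.k5 | exact True : Prop) := by first | (delta _root_.Cfsg.Agent.KObf83678.k5; exact @Subtype.property _ (fun g => @Cfsg.Agent.H978.RadRu.chkEqW = @g) _) | rfl | trivial

theorem not_may_three : ¬ May 3 RuOrder.H := by
  have hr := rel_of_chk Cfsg.Agent.H51.Rad3.Ru.chk_rels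
  have r2 := hr (rep 3 Cfsg.Agent.H51.Rad3.Ru.wb) (by simp)
  have r3 := hr (rep 3 Cfsg.Agent.H51.Rad3.Ru.wc) (by simp)
  have e1 : wprod ml (Cfsg.Agent.H51.Rad3.Ru.wa ++ Cfsg.Agent.H51.Rad3.Ru.wc) =
    wprod ml (Cfsg.Agent.H51.Rad3.Ru.wc ++ Cfsg.Agent.H51.Rad3.Ru.wa) := eq_of_chkEqW (by (first | (rewrite [Cfsg.Agent.KObf83678.e5]; decide +kernel) | decide +kernel))
  have e2 : wprod ml (Cfsg.Agent.H51.Rad3.Ru.wb ++ Cfsg.Agent.H51.Rad3.Ru.wc) =
    wprod ml (Cfsg.Agent.H51.Rad3.Ru.wc ++ Cfsg.Agent.H51.Rad3.Ru.wb) := eq_of_chkEqW (by (first | (rewrite [Cfsg.Agent.KObf83678.e5]; decide +kernel) | decide +kernel))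
  have e3 : wprod ml (Cfsg.Agent.H51.Rad3.Ru.wa ++ Cfsg.Agent.H51.Rad3.Ru.wb) =
    wprod ml (Cfsg.Agent.H51.Rad3.Ru.wc ++ (Cfsg.Agent.H51.Rad3.Ru.wb ++ Cfsg.Agent.H51.Rad3.Ru.wa)) :=
    eq_of_chkEqW (by (first | (rewrite [Cfsg.Agent.KObf83678.e5]; decide +kernel) | decide +kernel))
  simp only [wprod_rep, wprod_append] at r2 r3 e1 e2 e3
  exact not_may_of_cube Nat.prime_three (by norm_num) e1 e2 e3 r2 r3
    (ne_one_of (b := 29) (by norm_num) (by decide +kernel))

theorem not_may_five : ¬ May 5 RuOrder.H := by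
  have hr := rel_of_chk Cfsg.Agent.H978.RadRu.chk_rels
  have r2 := hr (rep 5 Cfsg.Agent.H978.RadRu.wb) (by simp)
  have r3 := hr (rep 5 Cfsg.Agent.H978.RadRu.wc) (by simp)
  have e1 : wprod ml (Cfsg.Agent.H978.RadRu.wa ++ Cfsg.Agent.H978.RadRu.wc) =
    wprod ml (Cfsg.Agent.H978.RadRu.wc ++ Cfsg.Agent.H978.RadRu.wa) := eq_of_chkEqW (by (first | (rewrite [Cfsg.Agent.KObf83678.e5]; decide +kernel) | decide +kernel))
  have e2 : wprod ml (Cfsg.Agent.H978.RadRu.wb ++ Cfsg.Agent.H978.RadRu.wc) =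
    wprod ml (Cfsg.Agent.H978.RadRu.wc ++ Cfsg.Agent.H978.RadRu.wb) := eq_of_chkEqW (by (first | (rewrite [Cfsg.Agent.KObf83678.e5]; decide +kernel) | decide +kernel))
  have e3 : wprod ml (Cfsg.Agent.H978.RadRu.wa ++ Cfsg.Agent.H978.RadRu.wb) =
    wprod ml (Cfsg.Agent.H978.RadRu.wc ++ (Cfsg.Agent.H978.RadRu.wb ++ Cfsg.Agent.H978.RadRu.wa)) :=
    eq_of_chkEqW (by (first | (rewrite [Cfsg.Agent.KObf83678.e5]; decide +kernel) | decide +kernel))
  simp only [wprod_rep, wprod_append] at r2 r3 e1 e2 e3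
  exact not_may_of_cube (by norm_num) (by norm_num) e1 e2 e3 r2 r3
    (ne_one_of (b := 29) (by norm_num) (by decide +kernel))

theorem card_ru : Nat.card Cfsg.Spor.Ru = 145926144000 := Cfsg.Agent.RuLat.Main.main.2.1

theorem not_may_seven : ¬ May 7 Cfsg.Spor.Ru := by
  have hfin : Finite Cfsg.Spor.Ru := Nat.finite_of_card_ne_zero (by rw [card_ru]; norm_num)
  have hs : IsSimpleGroup Cfsg.Spor.Ru := Cfsg.Agent.RuLat.Main.main.2.2
  have : Fact (Nat.Prime 7) := ⟨by norm_num⟩
  obtain ⟨C, -, -⟩ := Cfsg.Agent.CTwoTab.Ru.exists_core_sz (K := Cfsg.Spor.Ru) ⟨MulEquiv.refl _⟩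
  let k : K8ˣ := Units.mk0 K8.al (by decide +kernel)
  have hk : (k : K8) = K8.al := rfl
  have hpow : ∀ n : ℕ, C.dk k ^ n = C.dk (k ^ n) := by
    intro n
    induction n with
    | zero => rw [pow_zero, pow_zero, C.dk_one]
    | succ n ih => rw [pow_succ, ih, C.dk_mul, pow_succ]
  have hk7 : k ^ 7 = 1 := by
    apply Units.ext
    rw [Units.val_pow_eq_pow_val, hk]
    decide +kernel
  have h7 : C.dk k ^ 7 = 1 := by rw [hpow, hk7, C.dk_one]
  have hne : C.dk k * C.z 1 ≠ C.z 1 * C.dk k := by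
    intro h
    have h1 := C.dk_z k 1
    rw [h, mul_inv_cancel_right] at h1
    have h2 := C.z_inj h1
    rw [hk] at h2
    revert h2
    decide +kernel
  let K : Subgroup Cfsg.Spor.Ru :=
    { carrier := {x | ∃ b, x = C.z b}
      one_mem' := ⟨0, C.z_zero.symm⟩
      mul_mem' := by
        rintro _ _ ⟨a, rfl⟩ ⟨b, rfl⟩
        exact ⟨a + b, (C.z_add a b).symm⟩
      inv_mem' := by
        rintro _ ⟨a, rfl⟩
        exact ⟨a, C.z_inv a⟩ }
  have hK : IsPGroup 2 K := by
    rintro ⟨_, b, rfl⟩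
    refine ⟨1, Subtype.ext ?_⟩
    show C.z b ^ 2 ^ 1 = 1
    rw [pow_one, pow_two, C.z_sq]
  refine not_may_of_act (l := 2) (r := 7) (K := K) (x := C.dk k) (by norm_num) (by norm_num) Nat.prime_two
    (by norm_num) (good_two_of_dvd Nat.prime_three (by norm_num) (by norm_num)) hK (orderOf_eq_prime h7 ?_) ?_
    (k := C.z 1) ⟨1, rfl⟩ hne
  · intro h
    apply hne
    rw [h, one_mul, mul_one]
  · rintro _ ⟨b, rfl⟩
    exact ⟨_, C.dk_z k b⟩

/-- **`Ru`** -/
theorem row_ru : Row Cfsg.Spor.Ru := by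
  refine row_of 13 29 fun r hr hr2 hd h13 h29 => ?_
  rw [card_ru] at hd
  have h1 : r ∣ 2 ^ 14 * 3 ^ 3 * 5 ^ 3 * 7 * 13 * 29 := by norm_num; exact hd
  have key : ∀ {q : ℕ}, q.Prime → r ∣ q → r = q := fun hq h => (Nat.prime_dvd_prime_iff_eq hr hq).1 h
  rw [hr.dvd_mul, hr.dvd_mul, hr.dvd_mul, hr.dvd_mul, hr.dvd_mul] at h1
  rcases h1 with ((((h1 | h1) | h1) | h1) | h1) | h1
  · exact absurd (key Nat.prime_two (hr.dvd_of_dvd_pow h1)) hr2
  · rw [key Nat.prime_three (hr.dvd_of_dvd_pow h1)]
    exact fun h => not_may_three (h.of_equiv Cfsg.Agent.RuLat.Main.equiv)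
  · rw [key Nat.prime_five (hr.dvd_of_dvd_pow h1)]
    exact fun h => not_may_five (h.of_equiv Cfsg.Agent.RuLat.Main.equiv)
  · rw [key (by norm_num) h1]
    exact not_may_seven
  · exact absurd (key (by norm_num) h1) h13
  · exact absurd (key (by norm_num) h1) h29

end Cfsg.Agent.H51.Fpf.Ru
end

-- part: H51/Fpf/ONData
section
/-!
Packed matrices of elements of a subgroup `L₂(31)` of the O'Nan group (helper51, for S4228).
-/

set_option autoImplicit false

namespace Cfsg.Agent.H51.Fpf.ONData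

def mT : ℕ := 0x80100200000a0000100300801801803002000018030080080100000600402805002008020030020140280400600400800008018008020000000100500c0080180400800c030030020040180400a0180000500c010008040040100200600c00000804008014028010020140180200a0080180400800c0280100800c0300600a0100200300800c0180000801801004006000030060000140180000c0140180300a0080300600400c000020000080080400601001005004004010010040000100400601400001002014020010080040280600a0180100100a008030000040100200400000801002000010000020000180000400a014018060020040280600a014010060040080100300c0040080400a0100100200a01002806000004030010000080280100000c000040080000200300800402802000010000050020100180400a000000050020140000400c000000040020100000300000c0300600c008018050020000300400a0080200300a00802804008000010050000100200400600402805004014010000020100180200801000005008000020030080000280500400002006004018010040020180200100a01802806002018028000000080080400c0140280500c00002800004018030040080100080400000002001008000010000060080080400601403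0010000140200100c00400800006004018020020000200200c0100000300800c010000000040100500200c0100200600c0280200000c0180200200002004004000000000080140080500000c020010000080080300801401004006000028030000100280200a008000060020140280600600c008020000080000000c00c020010060040200100a000008060080000200500c00401003004010030040060100100600400c0100200c00c0180500200c0300100c00001803002010020020000080000600a0000080200a0100000500801000803002004008050060040280400c0100300100800c030030060100280100001802803008000028020080140180300001400001002008020030040080180500a008018060020100100500a01802800000004000050020180300500a018028040000140000600200c0000500a010028030040180080100201800800006010030020080180200600c0140280300c0100180600a00c030040040080100200600400802004008000000020140180000600c0280600801803005006014028050080040000100c00400803002010000040020000000300a0100000000a00c0100500000c00804000004010030020140100000600801006004008018030060100300600600c01802002014020040000140280300200c02802006004008010060180100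10020040080200a00c03004006004030010000180280400c00c010040060100280300c004008050040080180100201803005008014008020040100280100801002002000004010030060180180500600c028010020100000100c0000180600a0000180200a018000030020040180400a000018060020040180100800c0100500801801003002000030000000040180500c010000050060180280100c00400003002010030000080000280600a0140000000c008028040060000300400201400004006010030040060100180000c010028000020040080600400c01805002000020060000080000100a0040100300c014008030040040000200400c0100100401003000006008010050060080180400c0180280100a01400006008004020020020180200500a000008030060040300400400c0080300c010020060060000080400a0140180600a0000100000c004028040060080180300c0140000200a004020030020100300200c0180300300c010008040060080080400c00000004002008028000040080000100601401001002008008030060040280100a01401802004014028000000080180300600c0000100a0180100600c004030000040080300600800c0080600200c0100600c0100100000c010020030000000300200800c0080600a014030010000080300300000c018030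040040080300200001003008008020040040140180100600001003004018030050040000100100c0000180600a004010050060100280300c0140280000c01001801000018000050060140180600c018018040060000280200a0140000200800c030020000140300200a004010060060080000600401401005002010008060020040200500c018028020080100080500c004030060060100080300200c0180600c0180200600200001006008018028060080040180300c01001803002000008010040140100400c00401001008004020060040000200300c0180300300800c0100400a0140000100c0040180000a0140300200a0100080600800000004004014018030040040280200200c00001004014030000060000000500600c030060020040080200400801803004014000020040080180100200c028000000140200300c0140080200a00c0180600000c008030040080000000000c0180200a01003004006018030030020040100000c00c028060000080080100601403000004008018040040180180600a00002806006004030020020180180300c0080280000001000006004004028050060000100500201400802000014030060040100080500a008018020080180200400a00c0080000c0180100400a010000020040000080300c0180200200c0080180600c01402806002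000018010040080180100c0040200200001003001004008028050000140100500a00400000000018000000000000000300601400006006004030000020180080000c0140200200a010030060000180280100601400803006004000010080140200300a0100180300c00c018030040140000500c00001003008008030020060140300400400002000006000008020040000100600400c0180100800003006008008018010040100300500c0100300100401001006006004010050040180000400000402002002008028030040180280000a0180200000c0040180400601001006008018020040020040180100400c008060020040000300200c0100600a00c020020080100080500c0080000400800c00002004014010010040140000100801402004000018028010060100180200c00801000000008008060000100280000400c0200400c0040180200c0180280200c0180280500400000800000010008060080100200100c0000080200401803000002010008050060180180500200c0280000c00c0100400c0040000200001403003006008020000060000180200a0140280600a0040100400201800000006010020020040000080600801000806004010010050000180000300200002804004018010060020040080000a0140000100400c03001006010028010020140080400001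00300100c00c000030080140180200600c00006006004028030000100100000601803002000008020020000080280200a014020010040100280200200803005002008030040020180100400200c0080600400c00804006014030010000180000500401800005004008028050000180300400a014018060020180000300a0080000100c0000100200a01403003000018018040080140280400400000000006000030010040180000200a0180200000200c0300000000c0200600c0000200000000402806002008028040040180200200200c01802002014000000020000080100a0100000100a0000180100a0040100600a01802801000004030010000100000300800c0080300000c0100100200c010000000140280600c0000180400400801001002000028010080180180200c00c0080600c00401806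

def mU : ℕ := 0x3006000020010000080180000201000001008010018050080080300300c00c0280600401001806006010030000060100200500c00c000030060180280000800c00801002004008030020100100400a0180200400a014008060040140180300000400004000004030000000080300200a00c0200300c00c0200200a008030000040140300200800c0180400a01800801000010008060080040300500c000030050080180180400a0180100200a018028040020180280500a01800805008014000040000000280000800401005008010020040000180200500a0080180600a00c01004008018030010000000000300001800006000000010000020180000100c0100200500600402000000004008000080000080200a01800005004018008000080000180600c01401802006000028050020100000100a0140200100400c0180400c0100080500200401806004000028050080040180100001002000004018028050020100280400c014028030060140100000c01801005006014000040080080180100a0080080400c00c0100000400802804002000008060080100200200800c0080500a01402804008018018060000000180600c00c0280600c0180200400200c028010020080300300200c0280400a0180300500801001800008018020000040080100000000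0010000020180180400c008028040080000000500200802800008000010000040000300600a00c01802002008018040080080200200c004010040060000080500200c00003002008000000080000200300a0180180200a000010050040000180400a018008010080140300200800802003006014018060000040180100800c0280400000c0000100200c0180200a0100180400a00401803004004000030040080280000000c0080200a0100180600c00c0200000200c0280000a0140280100801002800002010010050020180100000a0040200600a00000804004008030010080000280100801002004000010030040000180080200a0100280300201003005006000008050000180300400a00c0080400600001800006004028050020000100100200802802008010030000000180100500600c008040000040000400200c0080600201401005006004020020080100000300400c0100500400c018030000180280200a0080080400001002000002010000020080140100400c00c02801006010028020080100080400a00c0080000a010018030000000200300400c0000400a0040180200c0100080500000c0200400400c0080400c014010030020140100000600801006004008018030060100300600600c01802002014020040000140280300200c02802006004008010060180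10010020040080500a01003003004008008020000000100200200c0080600800c01805008010030010020000180300c00c008040080040100200400c0000300a01002801000010000050020100180400a000000050020140000400c000000040020100000300000c0300600c008018050020000300400a0080200300a008028040080100280500c00c00000002014018030020040080000a0140280000a00002001006010028030060040100400c0080200000200c0100200200003000004004030040020140200300000400002002014030030040100180500800803004006008008000000180100100a0180000400a000018030060040100400a0040080400a0080080500c00c008000060100000500000802001008010028000020080080400400000005004004028060000180080600200c028060000000000400a0080000200a0100180400200800006004000028000060040200500a0180280300c0000000000400c0100100801002005008010020020060100000500a008028030060180300000000c00804004010008050060140100500400000002004014018040020180080000a00c0080400200002800004008020030040140000600001401805006018030060060100180000a008028050000080200300c0080000500c008028010040180180200001801005004014008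040020180080200a0140100300c0180280300a0000180000a00c02804002008020050020040180200a00c030050040000080100a0180000400a018018000000100000100400401003000008028010000040180500401003004002014008060020100280400c0100200500c0180180200c0140100500001803002002004020000080000080000801402805008008028040080180200400c00c0300300400001805004010020010060100180300a00c010030020080100000400c0300600400801801004000010020080100200200c004030040060080180200a018028000040040300000200c0000400c0100280400a00402005006018010060040080000300a000000000040000000500a0140200000401000806008018008040060100180200c018018020020100180200a0140080200a00c0000600c0180280100400800000004000020040080000200500200402806004004018000020100100300200c010030020080300100a018018050060180300300a0040100600a014010000040140280400000400006004014028060060040300100a0180180200c010000060000080100300200c000040040100200600000400002004014000040020140280300a0180280500c010020020000100180000a00c0300000a004030030000140200400a0080300000a00c0200400a01001005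00201801002004018020010040140280100c0000180600a014008050060000280400400002001004008018010060000080000a00c00800002004028030080140200000c000030030020100080500c0180080200c014028030020000280300a01000001004008000000020140080500c000028000080080200500a0140080600a0080100000c0180180600c01003006006014030050080080000400800803003006008010000040100000400c01800002004018028050020080200600200801803004008008050020180180400000c028000080080100000c008030050040100180100001403002008018000060060140300100200c0200600a0140200100a00c010030040180280200a00400001000008010010080080000400a008020000080100300100c01002801000004020020040140100500001003002002000020060040180180400a01000006000004000050060080300600600c030040000000200300a014020010000140100400c0040080400401802000008000020050000080180400801800803004018030050040180300500a008000010000000200100c0100200400201800001004008030060000040200100a00c0280000000c008040060180080500c01002806006008010060060040000000600001803002014000030020000100300200c030040020100080300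000c020020000040000600201801006000018020020040180200000000c0180500a0000300100801002002004000018020020140300400a0180100500a0080300500a00800800002018020010060040080000400402804002000030030000040100200600001806006000018040060100200600a00c030040060140180200800c0200500a00c0200600a0180080000800001003000004028060080180200300600c00001002000018060040100180200a0040180300200c0280000a0100080000800c000010020180300300a000018050040080300600400400000000014000030080040180000201801802000010028030000000280200600c000050060080300500400c03005002014010030020140300100800802800004000020030040000200300601002000004008030040080040100500400000804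

def mR : ℕ := 0x300200c028040020040180400c00c0200600c0040180500c01000004000008018020000080100500200c030060000180200100000803005006008020010000180180500a00400801002004010040000000100600a008010000080080100100600c0100200a014010030060140080600401003006004004020060060040080300c0000180300a00c0300300001401803008004000050060100200300a0000180000c00801800004010000000080140000200a00400803000000008010020140100500c0140000000400c018050020080080000a00c030060040140280100c00400802004008030010000040080300a01802002004004008050000180000400a0180080600600c02000008018018000060080180600200c0100300800c01006000008020020000100280300c010000010080040080400600001804000014010060000180100600c00c0280100400400801000010020050020100180200c0040300400a01803002000010008000000100300300801801004004018000060060140100600c0000100400800800005004010000040000140280200c01402800006010000010020100000400c010000040020180180000c00c028060060100000100200c000040060000080300600c028010020080180400c0080080100c00c018020080000280600600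c020000000000280400801401802000014028060060000100200c00c000040080140200000c008018020060180200000c00c020030060080100400600c0000500a0080280000a00000003004004008060060180200100c0180100000800803001006000020060000040000500a0180180300200c0100300c018030060080080200600a0080100200a01800806000018008020000040000400c010020050080100200100800c00806008014010040020040100100a0000180100a00c0080500800c008030020000280200a0000080400000c0000400601000004002010010020080140180100400c03005002004030010080040180600c014010050040080080000c0000200400000c02804008000020050060180200400a0000000200200c010000060040180000c004010000060040280600c010030030080080180600a00c020040020140180600c0180280100a000030050040080180500200c0180400c014028060000140080600000c0000000800800800006008030030020140180100c000000020060080100000a014030060000040180300001801804000008020020020140000600a00c0300400400c0180300a01802802004014010010060100300600600c00000002018028040040000280000800c0300300c00c0280500a000020030020180200600c004020000040100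200300000000003002018020060020100280100801800806000014030060080140200100c00c018030040100080300a010020020040080300500c0180200300800002002004004010050000180200400600401004000018018000040140300500600c020040060000300400600802803002018018060020180080200801000000000000030020040040180300a00c0200200a000018050000100080600601401006006018020050060000280100c0140180500000c0300200c0000000500000c0080200600c0200200a00c02806004008008040020000300200a0040080600c0000080600200c0000500601800002004014028000020180300300a0100280500201802801004004010020060040200400c01802802008010008000000080000600a0140200600c00c030000060040280600a014010030060140280000a00c018040000180200100a0040200100200c028000060140000400c000008040060080280600c00401003008018010060000080280100a0000080000200803006002010008060080000100400000403002006008028040060180200400a00401003002004008020080040300000a000028020060000280500a0000100300000c0080000400800000000018010040020180080100a0080280000a000028000000180080600200c028010060000080500c000018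040060000280500200c028030020100180000400c0100300c01402802002014008030080100280200000c0180500a004018000080040100400c00c00006000010028010060140280500c01003006000018030020040180200500001801005006018010050000080200000200c0280000800c0180500600400004002010000020000100180500800c018000040180100300401400803000014028020060100080600c0100080200a00c0280600c0100000400800803003002018020020080080280500a01402803004014010030040100300300c000010000000140200400801002802002014030020080140080500c0180080500000001003004018010010080180280000a0180300600400c0180200a00c01802000008018000000040100400a01400803004010008020060000000200c00c0080200a00400806008018018040020080000400601801005000010028050060100100000c0040080600801800000008004028000020040080200c00c0180300c00c0100600a0100100300000401804004004000040080140000000c000030010080000300000400c02800008000030030000100280200600402003002018020040060180300600c0040280600c0180300100800c0180400c0040080000000001001008018030040000100200600c018000020020000000500401003000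00a0180080500a0040180500801400805008004008050020140080300201402003006008028050060180100100a00403001004008030050060080300100a00000803008010028020080100200100400000003004008000030000040180600c0080300000000c0100100400c0300100a014008050060100280100a018018000020180300500800c0300200a0180280500a0000180600c0000080100c018028010060100000200a00400806000010010050000000180200600c030050040100180000c004020030020140280300c010000060080140000100800002002006010018050040100000100c0180000600400c000010080100280200000c00801006010008010040000080200600c01801004008010000080140100600000c008050020080280600400802800002000010060080040300200200c0280100a0080300300c00801004004008018010020080080500a00001801008008028050020140300500a004000020000000200000c0000280500a01400003000008018010040080200100201002005008014028040080040300500400c008030060040080200c01401003000014028030040100300600c0000080200c0000180300401800001006008000030040100200200201802003008008010020080040100200c0140180400000802002006018010060080000000400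600c020010020180080500a00802005008010010060000180300100a014028050040180000600a014018060040180200500c014030000000100100600a0100000100000c0080600c0000100200600c028040080180100300a010030030060140100200c014000050060080000100800002002004004008030020180300500c00c0180200200c008010040040200100a00401003004014018040020040100600000003000006004028000080080280600c0100000500c01403004006000008020080100080400c0000000200600c00002006004028020080140000100200403001004010000040020000100400a0180000400c01400800000000020050080180080600400c00804008000020040040140100600601402000002014028030020040180400c0140100100c004030020040080200300801403002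

end Cfsg.Agent.H51.Fpf.ONData
end

-- part: H51/Fpf/PslSeven
section
/-!
# `PSL_3(7)`: no fixed-point-free odd prime (helper51, for S4228)
-/

set_option autoImplicit false

namespace Cfsg.Agent.H51.Fpf.PslSeven

open Subgroup Cfsg Cfsg.Agent.H80.Fpf Cfsg.Agent.H517.FpfPsl

local notation "SL37" => Matrix.SpecialLinearGroup (Fin 3) (ZMod 7)
local notation "PSL37" => Matrix.ProjectiveSpecialLinearGroup (Fin 3) (ZMod 7)

instance fact7 : Fact (Nat.Prime 7) := ⟨by norm_num⟩

theorem card_comap {G S : Type*} [Group G] [Finite G] [Group S] {π : G →* S} (hs : Function.Surjective π)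
    (N : Subgroup S) : Nat.card (N.comap π) = Nat.card π.ker * Nat.card N := by
  have : Finite S := Finite.of_surjective π hs
  have e1 := Subgroup.card_mul_index (N.comap π)
  have e2 := Subgroup.card_mul_index π.ker
  have e3 := Subgroup.card_mul_index N
  have e4 := Subgroup.index_comap_of_surjective N hs
  have e5 : π.ker.index = Nat.card S := by
    rw [Subgroup.index_ker, MonoidHom.range_eq_top.2 hs, Subgroup.card_top]
  have e6 : N.index ≠ 0 := Subgroup.index_ne_zero_of_finite
  apply Nat.eq_of_mul_eq_mul_right (Nat.pos_of_ne_zero e6)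
  rw [e4, ← e2, e5, ← e3] at e1
  rw [e1, mul_assoc]

theorem card_ker : Nat.card (pr (ZMod 7) 3).ker = 3 := by
  rw [ker_pr, Cfsg.Agent.S0280.card_center_SL (by norm_num), ZMod.card]
  decide

theorem ord19 : orderOf ((Fintype.card (ZMod 7) : ℕ) : ZMod 19) = 3 := by
  rw [ZMod.card]
  have : Fact (Nat.Prime 3) := ⟨Nat.prime_three⟩
  exact orderOf_eq_prime (by decide) (by decide)

theorem card_norm {x : PSL37} (hx : orderOf x = 19) :
    Nat.card (normalizer (zpowers x : Set PSL37)) ≤ 171 := by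
  have h19 : Nat.Prime 19 := by norm_num
  have hz : ¬ 19 ∣ Nat.card (pr (ZMod 7) 3).ker := by rw [card_ker]; norm_num
  obtain ⟨X, rfl, hX⟩ := exists_lift (isCover (F := ZMod 7) (n := 3) le_rfl) h19 hz hx
  have h1 := card_normalizer_mul_le (isCover (F := ZMod 7) (n := 3) le_rfl).surj
    (isCover (F := ZMod 7) (n := 3) le_rfl).central h19 hz hX
  have h2 := Cfsg.Agent.H701.FpfTwo.card_normalizer_le
    (Matrix.SpecialLinearGroup.toGL : SL37 →* GL (Fin 3) (ZMod 7)) Matrix.SpecialLinearGroup.toGL_injective h19 hX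
    (by decide)
  have h3 : Nat.card (centralizer ({X} : Set SL37)) ≤ 3 * Nat.card (centralizer ({pr (ZMod 7) 3 X} : Set PSL37)) := by
    have h5 := card_comap (isCover (F := ZMod 7) (n := 3) le_rfl).surj
      (centralizer ({pr (ZMod 7) 3 X} : Set PSL37))
    rw [card_ker] at h5
    rw [← h5]
    apply Subgroup.card_le_of_le
    intro c hc
    rw [mem_comap, mem_centralizer_singleton_iff, ← map_mul, ← map_mul, mem_centralizer_singleton_iff.1 hc]
  have h4 := card_centralizer (F := ZMod 7) h19 (n := 3) le_rfl (by rw [ZMod.card]; norm_num) ord19 hx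
  rw [ZMod.card] at h4
  rw [card_ker] at h1
  rw [Fintype.card_fin] at h2
  have h5 : Nat.card (centralizer ({pr (ZMod 7) 3 X} : Set PSL37)) * 6 ≤ 342 := h4
  omega

theorem not_may_nineteen : ¬ May 19 PSL37 := by
  intro hM
  have h19 : Nat.Prime 19 := by norm_num
  have : Fact (Nat.Prime 19) := ⟨h19⟩
  have hd : 19 ∣ Nat.card PSL37 := by
    rw [Cfsg.Agent.SporRec.ONL37.card_PSL37]
    norm_num
  obtain ⟨x, hx⟩ := exists_prime_orderOf_dvd_card' 19 hd
  have h1 := hM.lt_of_minDeg h19 (by norm_num) (minDeg (F := ZMod 7) (n := 3) le_rfl (by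
    simp [ZMod.card])) hx
  have h2 := card_norm hx
  rw [ZMod.card] at h1
  norm_num only [] at h1
  omega

/-- **`PSL_3(7)`: no odd prime** -/
theorem not_may {r : ℕ} (hr : r.Prime) (hr2 : r ≠ 2) (hd : r ∣ Nat.card PSL37) : ¬ May r PSL37 := by
  have h1 := hd
  rw [Cfsg.Agent.SporRec.ONL37.card_PSL37, show (1876896 : ℕ) = 2 ^ 5 * 3 ^ 2 * 7 ^ 3 * 19 by norm_num, hr.dvd_mul,
    hr.dvd_mul, hr.dvd_mul] at h1
  have key : ∀ {q : ℕ}, q.Prime → r ∣ q → r = q := fun hq h => (Nat.prime_dvd_prime_iff_eq hr hq).1 h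
  have hex : (3, Fintype.card (ZMod 7)) ∉ ({(3, 2), (3, 4), (4, 2)} : Set (ℕ × ℕ)) := by simp [ZMod.card]
  rcases h1 with ((h1 | h1) | h1) | h1
  · exact absurd (key Nat.prime_two (hr.dvd_of_dvd_pow h1)) hr2
  · have := key Nat.prime_three (hr.dvd_of_dvd_pow h1)
    subst this
    refine Cfsg.Agent.H517.FpfPsl.not_may (F := ZMod 7) le_rfl hex hr hr2 hd ?_
    rw [ZMod.card, show ((7 : ℕ) : ZMod 3) = 1 by decide, orderOf_one]
    norm_num
  · have := key (by norm_num) (hr.dvd_of_dvd_pow h1)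
    subst this
    exact Cfsg.Agent.H517.FpfPsl.not_may_char (F := ZMod 7) le_rfl hr2
  · rw [key (by norm_num) h1]
    exact not_may_nineteen

end Cfsg.Agent.H51.Fpf.PslSeven
end

-- part: H51/Fpf/ON
section
/-!
# The O'Nan group: at most two fixed-point-free primes (helper51, for S4228)

`r = 3, 7, 19` : the subgroup `L₃(7)`; `r = 5` : a Frobenius subgroup `31 : 5`.
-/

set_option autoImplicit false
set_option maxRecDepth 10000

namespace Cfsg.Agent.H51.Fpf.ON

open Cfsg.Spor Cfsg.Spor.ON Cfsg.Agent.Lib.PackMat Cfsg.Agent.SporadicB.ON45Data Cfsg.Agent.SporadicB.ON45Rels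
  Cfsg.Agent.SporadicB.ON45Word Cfsg.Agent.H51.Fpf.ONData Cfsg.Agent.H80.Fpf
open Cfsg.Agent.ONType.SecondTuple (eq_of_check)
open Cfsg.Agent.KFacts.ON.OneClass (hs card_ON finite_ON)

/-- an involution -/
def t : ON := ([.g, .b, .g, .g, .a, .e, .g, .g, .c, .d, .c, .g, .g, .b, .g, .g, .e, .b, .g, .g, .d, .c, .g, .e, .d, .b, .d,
  .e, .g, .g, .g, .c, .d, .g, .g, .b, .e, .g, .g, .b, .g, .g, .c, .d, .c, .g, .g, .e, .a, .g, .g, .b, .g, .g, .g].map
    on).prod

/-- an element of order three -/
def s : ON := ([.a, .b, .f, .e].map on).prod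

/-- an element of order 31 -/
def u : ON := t * s

/-- an element of order 15 -/
def r : ON := s * t * s * t * (s * s) * t * s * t * (s * s) * t * (s * s) * t * s * t * (s * s)

theorem lt : LW t [mT] := (LW.word _).change (by decide +kernel) (by decide +kernel)
theorem ls : LW s ([.a, .b, .f, .e].map fun x => gens (gi x)) := LW.word _
theorem lu : LW u [mU] := (lt.mul ls).change (by decide +kernel) (by decide +kernel)
theorem lr : LW r [mR] :=
  ((((((((((((((ls.mul lt).mul ls).mul lt).mul (ls.mul ls)).mul lt).mul ls).mul lt).mul (ls.mul ls)).mul lt).mul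
    (ls.mul ls)).mul lt).mul ls).mul lt).mul (ls.mul ls)).change (by decide +kernel) (by decide +kernel)

theorem u31 : u ^ 31 = 1 := (lu.pow 31).eq_one hs 1 (by decide) (by decide +kernel)
theorem r15 : r ^ 15 = 1 := (lr.pow 15).eq_one hs 1 (by decide) (by decide +kernel)
theorem ru : r * u = u ^ 20 * r := eq_of_check hs (lr.mul lu) ((lu.pow 20).mul lr) (by decide +kernel)
theorem u_ne : u ≠ 1 := lu.ne_one 0 2 (by decide) (by decide +kernel)

theorem conj_r (k : ℕ) : r * u ^ k * r⁻¹ = u ^ (20 * k) := by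
  rw [← conj_pow, ru, mul_inv_cancel_right, ← pow_mul]

theorem conj_x : r ^ 3 * u * (r ^ 3)⁻¹ = u ^ 8000 := by
  calc r ^ 3 * u * (r ^ 3)⁻¹ = r * (r * (r * u ^ 1 * r⁻¹) * r⁻¹) * r⁻¹ := by
        rw [pow_one, pow_succ, pow_two]; group
    _ = u ^ 8000 := by rw [conj_r, conj_r, conj_r]

theorem order_u : orderOf u = 31 := by
  have : Fact (Nat.Prime 31) := ⟨by norm_num⟩
  exact orderOf_eq_prime u31 u_ne

theorem not_comm : r ^ 3 * u ≠ u * r ^ 3 := by
  intro h
  have h1 := conj_x
  rw [h, mul_inv_cancel_right] at h1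
  have h2 : u ^ 1 = u ^ 8000 := by rw [pow_one]; exact h1
  rw [pow_eq_pow_iff_modEq, order_u] at h2
  revert h2
  decide

theorem not_may_five : ¬ May 5 ON := by
  have := finite_ON
  have := hs
  have : Fact (Nat.Prime 5) := ⟨by norm_num⟩
  refine not_may_of_frob (r := 5) (l := 31) (by norm_num) (by norm_num) (by norm_num) (by norm_num) (by norm_num)
    (x := r ^ 3) (y := u) (orderOf_eq_prime (by rw [← pow_mul]; exact r15) fun h => not_comm ?_) order_u conj_x not_comm
  rw [h, one_mul, mul_one]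

/-- the primes of `L₃(7)` -/
theorem not_may_psl {p : ℕ} (hp : p.Prime) (hp2 : p ≠ 2) (hd : p ∣ 1876896) : ¬ May p ON := by
  intro hM
  obtain ⟨N, -, -, ⟨e⟩⟩ := Cfsg.Agent.SporRec.ONAssembly.exists_normal Cfsg.Agent.SporRec.ONLower.ab_ne_one
  have hsP : IsSimpleGroup (Matrix.ProjectiveSpecialLinearGroup (Fin 3) (ZMod 7)) :=
    Cfsg.Agent.SporRec.ONL37.simple_PSL37
  have hc := Cfsg.Agent.SporRec.ONL37.card_PSL37
  have hperf : commutator (Matrix.ProjectiveSpecialLinearGroup (Fin 3) (ZMod 7)) = ⊤ :=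
    (Cfsg.Agent.H517.FpfPsl.isCover (F := ZMod 7) (n := 3) le_rfl).perf_base
  refine Cfsg.Agent.H51.Fpf.PslSeven.not_may hp hp2 (by rw [hc]; exact hd)
    (hM.of_hom ((Subgroup.subtype _).comp (N.subtype.comp e.symm.toMonoidHom)) (MonoidHom.id _)
      Function.surjective_id ?_ ?_ hperf)
  · rw [MonoidHom.ker_id]
    exact bot_le
  · rw [(MonoidHom.ker_eq_bot_iff _).2]
    · exact bot_le
    · exact (Subgroup.subtype_injective _).comp (N.subtype_injective.comp e.symm.injective)

/-- **`ON`** -/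
theorem row_on : Row ON := by
  refine row_of 11 31 fun p hp hp2 hd h11 h31 => ?_
  rw [card_ON] at hd
  have h1 : p ∣ 2 ^ 9 * 3 ^ 4 * 5 * 7 ^ 3 * 11 * 19 * 31 := by norm_num; exact hd
  have key : ∀ {q : ℕ}, q.Prime → p ∣ q → p = q := fun hq h => (Nat.prime_dvd_prime_iff_eq hp hq).1 h
  rw [hp.dvd_mul, hp.dvd_mul, hp.dvd_mul, hp.dvd_mul, hp.dvd_mul, hp.dvd_mul] at h1
  rcases h1 with (((((h1 | h1) | h1) | h1) | h1) | h1) | h1
  · exact absurd (key Nat.prime_two (hp.dvd_of_dvd_pow h1)) hp2
  · exact not_may_psl hp hp2 (by rw [key Nat.prime_three (hp.dvd_of_dvd_pow h1)]; norm_num)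
  · rw [key (by norm_num) h1]
    exact not_may_five
  · exact not_may_psl hp hp2 (by rw [key (by norm_num) (hp.dvd_of_dvd_pow h1)]; norm_num)
  · exact absurd (key (by norm_num) h1) h11
  · exact not_may_psl hp hp2 (by rw [key (by norm_num) h1]; norm_num)
  · exact absurd (key (by norm_num) h1) h31

end Cfsg.Agent.H51.Fpf.ON
end

private theorem dce_33f5dc2ffafe : _root_.True := by
  try have : _root_.True := by simp only [_root_.Equiv.Perm.viaEmbedding.eq_1]
  try have : _root_.True := by simp only [_root_.Cfsg.Agent.H80.Fpf.Alt.fx.eq_1]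
  try have : _root_.True := by simp only [_root_.Cfsg.Agent.H80.Fpf.Alt.eq_32]
  try have : _root_.True := by simp only [_root_.Cfsg.Agent.H80.Fpf.Alt.tw.eq_1]
  try have : _root_.True := by simp only [_root_.Cfsg.Agent.H80.Fpf.Alt.zs.eq_1]
  exact _root_.True.intro
end
end

-- part: H215/Fpf/JFour
section
prune_inst 0x208000000000000000800000000000018000000
set_option linter.all false
open scoped Cfsg.Agent.FastGrp

-- part: H215/Fpf/J4Deg
section
/-!
# The degrees of the representations of groups of type J4 (helper215)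

`card_le_finrank`: if `F` is a frame (`N_G(E)/E = M24`, `E = 2^11` the even cocode) in a finite group `G` and `ρ` a complex
representation of `G` in which `E` does not act trivially, the degree is at least 759.
-/

set_option autoImplicit false

open scoped Pointwise

namespace Cfsg.Agent.H215.Fpf.J4Deg

open Cfsg Cfsg.Agent.J4Type
open Cfsg.Agent.H852.GolayMod (ind ind_apply ind_symmDiff hammingNorm_ind mem_octads_iff mem_dodecads_iff ind_mem_iff)
open Cfsg.Agent.S5549 (fs fs_apply fs_eq_dot mem_of_orth)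

/-- The sign of a set of points. -/
noncomputable def sg (S T : Finset GolayPt) : ℂ := ∏ p ∈ T, if p ∈ S then -1 else 1

theorem sg_pair (S : Finset GolayPt) {p q : GolayPt} (h : p ≠ q) :
    sg S {p, q} = (if p ∈ S then -1 else 1) * (if q ∈ S then -1 else 1) := by
  unfold sg
  rw [Finset.prod_pair h]

theorem sg_compl {S T : Finset GolayPt} (hT : Even T.card) : sg Sᶜ T = sg S T := by
  unfold sg
  have h1 : ∀ p ∈ T, (if p ∈ Sᶜ then (-1 : ℂ) else 1) = -1 * (if p ∈ S then -1 else 1) := by
    intro p _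
    by_cases h : p ∈ S
    · simp [h]
    · simp [h]
  rw [Finset.prod_congr rfl h1, Finset.prod_mul_distrib, Finset.prod_const, hT.neg_one_pow, one_mul]

theorem sg_smul {S T : Finset GolayPt} (g : M24) : sg (g • S) T = sg S (g⁻¹ • T) := by
  unfold sg
  have h1 : T = g • (g⁻¹ • T) := (smul_inv_smul g T).symm
  conv_lhs => rw [h1]
  rw [← Finset.image_smul, Finset.prod_image (fun a _ b _ h => MulAction.injective g h)]
  apply Finset.prod_congr rfl
  intro p _
  have h2 : (g • p ∈ g • S) ↔ p ∈ S := Finset.smul_mem_smul_finset_iff g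
  by_cases h : p ∈ S
  · rw [if_pos h, if_pos (h2.2 h)]
  · rw [if_neg h, if_neg (fun h' => h (h2.1 h'))]

variable {G : Type*} [Group G] {F : Frame G} {V : Type*} [AddCommGroup V] [Module ℂ V]

/-- the character of the even cocode given by `S` occurs -/
def Occ (F : Frame G) (ρ : Representation ℂ G V) (S : Finset GolayPt) : Prop :=
  ∃ v : V, v ≠ 0 ∧ ∀ T : Finset GolayPt, Even T.card → ρ (F.ε T) v = sg S T • v

theorem Occ.compl {ρ : Representation ℂ G V} {S : Finset GolayPt} (h : Occ F ρ S) : Occ F ρ Sᶜ := by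
  obtain ⟨v, hv, h⟩ := h
  exact ⟨v, hv, fun T hT => by rw [h T hT, sg_compl hT]⟩

theorem Occ.smul {ρ : Representation ℂ G V} {S : Finset GolayPt} (h : Occ F ρ S) (g : M24) : Occ F ρ (g • S) := by
  obtain ⟨v, hv, h⟩ := h
  obtain ⟨n, rfl⟩ := F.π_surj g
  refine ⟨ρ n v, ?_, fun T hT => ?_⟩
  · intro h0
    apply hv
    have h1 : ρ (n : G)⁻¹ (ρ n v) = v := by
      rw [← Module.End.mul_apply, ← map_mul, inv_mul_cancel, map_one]; rfl
    rw [← h1, h0, map_zero]
  · have hT' : Even (((F.π n)⁻¹ : M24) • T).card := by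
      rw [Finset.card_smul_finset]; exact hT
    have h1 : (n : G) * F.ε (((F.π n)⁻¹ : M24) • T) * (n : G)⁻¹ = F.ε T := by
      rw [F.π_smul n _ hT']
      congr 1
      exact smul_inv_smul (F.π n) T
    have h2 : F.ε T * n = n * F.ε (((F.π n)⁻¹ : M24) • T) := by rw [← h1]; group
    rw [← Module.End.mul_apply, ← map_mul, h2, map_mul, Module.End.mul_apply, h _ hT', map_smul, sg_smul]

/-- a character of the cocode gives a word of the code -/
theorem exists_occ [FiniteDimensional ℂ V] {ρ : Representation ℂ G V} (hne : ∃ T : Finset GolayPt, Even T.card ∧ ρ (F.ε T) ≠ 1) :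
    ∃ S : Finset GolayPt, Occ F ρ S ∧ S ≠ ∅ ∧ none ∉ S ∧ ind S ∈ golayCode := by
  classical
  have hE := F.E_elem hex0 FusionConj.isHex_hex0
  obtain ⟨T₀, hT₀, hρT₀⟩ := hne
  let J : Type := {T : Finset GolayPt // Even T.card}
  obtain ⟨v, χ, hv, hχ, hχ1⟩ := Cfsg.Agent.H203.LS.exists_weight (k := ℂ) (V := V) (J := J)
    (fun T => ρ (F.ε T.1)) (fun S T => by
      show ρ (F.ε S.1) * ρ (F.ε T.1) = ρ (F.ε T.1) * ρ (F.ε S.1)
      rw [← map_mul, ← map_mul, hE.2 _ (F.ε_mem _ S.2) _ (F.ε_mem _ T.2)]) (j0 := ⟨T₀, hT₀⟩) (N := 2) (by norm_num)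
    (by
      show ρ (F.ε T₀) ^ 2 = 1
      rw [← map_pow, pow_two, hE.1 _ (F.ε_mem _ hT₀), map_one]) hρT₀
  have hχ' : ∀ T : J, ρ (F.ε T.1) v = χ T • v := hχ
  have hpr : ∀ p q : GolayPt, p ≠ q → Even ({p, q} : Finset GolayPt).card := fun p q hp => by
    rw [Finset.card_pair hp]; decide
  -- the values are signs
  have hsq : ∀ T : J, χ T = 1 ∨ χ T = -1 := by
    intro T
    have h1 : ρ (F.ε T.1) (ρ (F.ε T.1) v) = v := by
      rw [← Module.End.mul_apply, ← map_mul, hE.1 _ (F.ε_mem _ T.2), map_one]; rfl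
    rw [hχ' T, map_smul, hχ' T, smul_smul] at h1
    have h2 : (χ T * χ T - 1) • v = 0 := by rw [sub_smul, one_smul, h1, sub_self]
    rcases smul_eq_zero.1 h2 with h3 | h3
    · have h4 : (χ T - 1) * (χ T + 1) = 0 := by ring_nf; ring_nf at h3; exact h3
      rcases mul_eq_zero.1 h4 with h5 | h5
      · exact Or.inl (sub_eq_zero.1 h5)
      · exact Or.inr (eq_neg_of_add_eq_zero_left h5)
    · exact absurd h3 hv
  have hmul : ∀ A B C : J, C.1 = symmDiff A.1 B.1 → χ C = χ A * χ B := by
    intro A B C hC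
    have h1 : ρ (F.ε C.1) v = ρ (F.ε A.1) (ρ (F.ε B.1) v) := by
      rw [← Module.End.mul_apply, ← map_mul, hC, F.ε_mul _ _ A.2 B.2]
    rw [hχ', hχ' B, map_smul, hχ' A, smul_smul] at h1
    have h2 : (χ C - χ B * χ A) • v = 0 := by rw [sub_smul, h1, sub_self]
    rcases smul_eq_zero.1 h2 with h3 | h3
    · rw [sub_eq_zero.1 h3, mul_comm]
    · exact absurd h3 hv
  let S : Finset GolayPt := Finset.univ.filter fun p => ∃ hp : none ≠ p, χ ⟨{none, p}, hpr none p hp⟩ = -1
  have hnone : none ∉ S := by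
    intro h
    exact (Finset.mem_filter.1 h).2.1 rfl
  have hS : ∀ p (hp : none ≠ p), χ ⟨{none, p}, hpr none p hp⟩ = if p ∈ S then -1 else 1 := by
    intro p hp
    by_cases h : p ∈ S
    · rw [if_pos h]
      exact (Finset.mem_filter.1 h).2.2
    · rw [if_neg h]
      rcases hsq ⟨{none, p}, hpr none p hp⟩ with h1 | h1
      · exact h1
      · exact absurd (Finset.mem_filter.2 ⟨Finset.mem_univ _, hp, h1⟩) h
  have hpair : ∀ p q (hpq : p ≠ q), χ ⟨{p, q}, hpr p q hpq⟩ = (if p ∈ S then -1 else 1) * (if q ∈ S then -1 else 1) := by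
    intro p q hpq
    by_cases hp : none = p
    · subst hp
      rw [if_neg hnone, one_mul, hS q hpq]
    by_cases hq : none = q
    · subst hq
      rw [if_neg hnone, mul_one, ← hS p hp]
      congr 1
      exact Subtype.ext (Finset.pair_comm _ _)
    rw [hmul ⟨{none, p}, hpr none p hp⟩ ⟨{none, q}, hpr none q hq⟩ ⟨{p, q}, hpr p q hpq⟩ ?_, hS p hp, hS q hq]
    ext x
    simp only [Finset.mem_symmDiff, Finset.mem_insert, Finset.mem_singleton]
    constructor
    · rintro (h | h)
      · subst h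
        left
        refine ⟨Or.inr rfl, ?_⟩
        rintro (h | h)
        · exact hp h.symm
        · exact hpq h
      · subst h
        right
        refine ⟨Or.inr rfl, ?_⟩
        rintro (h | h)
        · exact hq h.symm
        · exact hpq h.symm
    · rintro (⟨h | h, h'⟩ | ⟨h | h, h'⟩)
      · exact absurd (Or.inl h) h'
      · exact Or.inl h
      · exact absurd (Or.inl h) h'
      · exact Or.inr h
  -- the character is the sign of `S`
  have key : ∀ n : ℕ, ∀ T : J, T.1.card ≤ n → χ T = sg S T.1 := by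
    intro n
    induction n using Nat.strong_induction_on with
    | _ n ih =>
      rintro ⟨T, hT⟩ hTn
      have hTn' : T.card ≤ n := hTn
      rcases Finset.eq_empty_or_nonempty T with rfl | hTne
      · have h1 := hmul ⟨∅, hT⟩ ⟨∅, hT⟩ ⟨∅, hT⟩ (by simp)
        rcases hsq ⟨∅, hT⟩ with h | h
        · rw [h]; simp [sg]
        · rw [h] at h1; norm_num at h1
      · have hc1 : 1 < T.card := by
          have h1 := hTne.card_pos
          rw [Nat.even_iff] at hT
          omega
        obtain ⟨p, hp, q, hq, hpq⟩ := Finset.one_lt_card.1 hc1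
        have hq' : q ∈ T.erase p := Finset.mem_erase.2 ⟨hpq.symm, hq⟩
        let U : Finset GolayPt := (T.erase p).erase q
        have hUc : U.card + 2 = T.card := by
          show ((T.erase p).erase q).card + 2 = _
          rw [Finset.card_erase_of_mem hq', Finset.card_erase_of_mem hp]
          omega
        have hU : Even U.card := by
          rw [Nat.even_iff] at hT ⊢
          omega
        have hTU : T = symmDiff U {p, q} := by
          ext x
          simp only [Finset.mem_symmDiff, Finset.mem_insert, Finset.mem_singleton, U, Finset.mem_erase]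
          constructor
          · intro hx
            by_cases h1 : x = p
            · exact Or.inr ⟨Or.inl h1, fun h => h.2.1 h1⟩
            · by_cases h2 : x = q
              · exact Or.inr ⟨Or.inr h2, fun h => h.1 h2⟩
              · exact Or.inl ⟨⟨h2, h1, hx⟩, fun h => h.elim h1 h2⟩
          · rintro (h | ⟨h | h, -⟩)
            · exact h.1.2.2
            · exact h ▸ hp
            · exact h ▸ hq
        rw [hmul ⟨U, hU⟩ ⟨{p, q}, hpr p q hpq⟩ ⟨T, hT⟩ hTU, ih U.card (by omega) ⟨U, hU⟩ le_rfl, hpair p q hpq]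
        show _ = ∏ x ∈ T, _
        rw [← Finset.mul_prod_erase T _ hp, ← Finset.mul_prod_erase (T.erase p) _ hq']
        show sg S U * _ = _
        unfold sg
        ring
  have hOcc : Occ F ρ S := ⟨v, hv, fun T hT => by rw [hχ' ⟨T, hT⟩, key _ ⟨T, hT⟩ le_rfl]⟩
  refine ⟨S, hOcc, ?_, hnone, ?_⟩
  · intro h
    apply hχ1
    rw [key _ ⟨T₀, hT₀⟩ le_rfl, h]
    simp [sg]
  · apply mem_of_orth
    apply LinearMap.ext
    intro c
    rw [fs_apply, LinearMap.zero_apply]
    set! C : Finset GolayPt := support₂ (c : GolayPt → ZMod 2) with hC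
    have hCc : IsCode C := ⟨(c : GolayPt → ZMod 2), c.2, rfl⟩
    have hCe : Even C.card := by
      have h1 : hammingNorm (c : GolayPt → ZMod 2) = C.card := rfl
      rcases Cfsg.Agent.S0359.result _ c.2 with h | h | h | h | h <;> rw [← h1, h] <;> decide
    have h1 : sg S C = 1 := by
      have h2 := hχ' ⟨C, hCe⟩
      rw [(F.ε_ker C hCe).2 hCc, map_one, key _ ⟨C, hCe⟩ le_rfl] at h2
      have h3 : (sg S C - 1) • v = 0 := by
        rw [sub_smul, one_smul, ← h2]
        exact sub_self _
      rcases smul_eq_zero.1 h3 with h4 | h4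
      · exact sub_eq_zero.1 h4
      · exact absurd h4 hv
    have h2 : sg S C = (-1) ^ (C.filter (· ∈ S)).card := by
      unfold sg
      rw [Finset.prod_ite, Finset.prod_const, Finset.prod_const_one, mul_one]
    rw [h2] at h1
    have h3 : Even (C.filter (· ∈ S)).card := by
      by_contra ho
      rw [Nat.not_even_iff_odd] at ho
      rw [ho.neg_one_pow] at h1
      norm_num at h1
    have h4 : ∑ p ∈ S, (c : GolayPt → ZMod 2) p = ((C.filter (· ∈ S)).card : ZMod 2) := by
      have h5 : ∀ p, (c : GolayPt → ZMod 2) p = if p ∈ C then 1 else 0 := by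
        intro p
        by_cases hp : p ∈ C
        · rw [if_pos hp]
          have := (Finset.mem_filter.1 hp).2
          have h7 : ∀ a : ZMod 2, a ≠ 0 → a = 1 := by decide
          exact h7 _ this
        · rw [if_neg hp]
          by_contra h6
          exact hp (Finset.mem_filter.2 ⟨Finset.mem_univ _, h6⟩)
      rw [Finset.sum_congr rfl fun p _ => h5 p, Finset.sum_ite_mem, Finset.sum_const, nsmul_eq_mul, mul_one]
      congr 2
      ext x
      simp only [Finset.mem_inter, Finset.mem_filter]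
      itauto
    rw [h4]
    exact (ZMod.natCast_eq_zero_iff _ 2).2 h3.two_dvd

/-- **The degree bound.** -/
theorem card_le_finrank [FiniteDimensional ℂ V] {ρ : Representation ℂ G V}
    (hne : ∃ T : Finset GolayPt, Even T.card ∧ ρ (F.ε T) ≠ 1) : 759 ≤ Module.finrank ℂ V := by
  classical
  obtain ⟨S, hS, hS0, hnone, hSc⟩ := exists_occ hne
  let J : Type := {T : Finset GolayPt // Even T.card}
  -- the octads
  have hoct : ∀ O : Finset GolayPt, O ∈ octads → Occ F ρ O → 759 ≤ Module.finrank ℂ V := by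
    intro O hO hOcc
    have hall : ∀ O' : octads, Occ F ρ O' := by
      rintro ⟨O', hO'⟩
      obtain ⟨g, rfl⟩ := Cfsg.Agent.S0367.result O O' hO hO'
      exact hOcc.smul g
    choose v hv hv' using hall
    have h1 := Cfsg.Agent.H203.LS.card_le_of_weights (k := ℂ) (V := V) (ι := octads) (J := J)
      (fun T => ρ (F.ε T.1)) v (fun O' T => sg O'.1 T.1) hv (fun O' T => hv' O' T.1 T.2) (by
        rintro ⟨A, hA⟩ ⟨B, hB⟩ hAB
        apply Subtype.ext
        show A = B
        by_contra hne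
        have hA8 : A.card = 8 := hA.2
        have hB8 : B.card = 8 := hB.2
        obtain ⟨a, haA, haB⟩ : ∃ a ∈ A, a ∉ B := by
          by_contra hcon
          push Not at hcon
          exact hne (Finset.eq_of_subset_of_card_le hcon (by omega))
        obtain ⟨b, hb⟩ : ∃ b, b ∉ A ∪ B := by
          by_contra hcon
          push Not at hcon
          have h2 : (Finset.univ : Finset GolayPt) ⊆ A ∪ B := fun x _ => hcon x
          have h3 := Finset.card_le_card h2
          have h4 := Finset.card_union_le A B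
          have h5 : (Finset.univ : Finset GolayPt).card = 24 := by decide
          omega
        rw [Finset.mem_union, not_or] at hb
        have hab : a ≠ b := fun h => hb.1 (h ▸ haA)
        have h2 := congrFun hAB ⟨{a, b}, by rw [Finset.card_pair hab]; decide⟩
        simp only [sg_pair _ hab, if_pos haA, if_neg haB, if_neg hb.1, if_neg hb.2] at h2
        norm_num at h2)
    have h2 : Nat.card octads = 759 := Cfsg.Agent.S0360.result
    rwa [h2] at h1
  have hcard : S.card = 8 ∨ S.card = 12 ∨ S.card = 16 := by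
    have h1 := Cfsg.Agent.S0359.result _ hSc
    rw [hammingNorm_ind] at h1
    rcases h1 with h | h | h | h | h
    · exact absurd (Finset.card_eq_zero.1 h) hS0
    · exact Or.inl h
    · exact Or.inr (Or.inl h)
    · exact Or.inr (Or.inr h)
    · exfalso
      apply hnone
      have h2 : S = Finset.univ := by
        apply Finset.eq_univ_of_card
        rw [h]; decide
      rw [h2]
      exact Finset.mem_univ _
  have hcompl : ∀ D : Finset GolayPt, ind D ∈ golayCode → ind Dᶜ ∈ golayCode := by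
    intro D hD
    have h1 : ind Dᶜ = ind D + 1 := by
      funext p
      rw [Pi.add_apply, ind_apply, ind_apply, Pi.one_apply]
      by_cases hp : p ∈ D
      · simp [hp]; decide
      · simp [hp]
    rw [h1]
    exact golayCode.add_mem hD (Submodule.subset_span (Or.inr rfl))
  rcases hcard with h8 | h12 | h16
  · exact hoct S ((mem_octads_iff S).2 ⟨hSc, h8⟩) hS
  · -- the dodecads
    have hSd : S ∈ dodecads := (mem_dodecads_iff S).2 ⟨hSc, h12⟩
    let I : Type := {D : Finset GolayPt // D ∈ dodecads ∧ none ∉ D}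
    have hall : ∀ D : I, Occ F ρ D.1 := by
      rintro ⟨D, hD, -⟩
      obtain ⟨g, rfl⟩ := Cfsg.Agent.S0368.result S D hSd hD
      exact hS.smul g
    choose v hv hv' using hall
    have h1 := Cfsg.Agent.H203.LS.card_le_of_weights (k := ℂ) (V := V) (ι := I) (J := J)
      (fun T => ρ (F.ε T.1)) v (fun D T => sg D.1 T.1) hv (fun D T => hv' D T.1 T.2) (by
        rintro ⟨A, hA, hA0⟩ ⟨B, hB, hB0⟩ hAB
        apply Subtype.ext
        show A = B
        by_contra hne
        have hA8 : A.card = 12 := hA.2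
        have hB8 : B.card = 12 := hB.2
        obtain ⟨a, haA, haB⟩ : ∃ a ∈ A, a ∉ B := by
          by_contra hcon
          push Not at hcon
          exact hne (Finset.eq_of_subset_of_card_le hcon (by omega))
        have hab : a ≠ none := fun h => hA0 (h ▸ haA)
        have h2 := congrFun hAB ⟨{a, none}, by rw [Finset.card_pair hab]; decide⟩
        simp only [sg_pair _ hab, if_pos haA, if_neg haB, if_neg hA0, if_neg hB0] at h2
        norm_num at h2)
    have h2 : Nat.card dodecads = 2576 := Cfsg.Agent.S0361.result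
    have hcd : ∀ D : Finset GolayPt, D ∈ dodecads → Dᶜ ∈ dodecads := by
      intro D hD
      rw [mem_dodecads_iff] at hD ⊢
      refine ⟨hcompl D hD.1, ?_⟩
      rw [Finset.card_compl, hD.2]
      decide
    let f : dodecads → I × Bool := fun D =>
      if h : none ∈ D.1 then (⟨D.1ᶜ, hcd _ D.2, fun h' => (Finset.mem_compl.1 h') h⟩, true)
      else (⟨D.1, D.2, h⟩, false)
    have hf : Function.Injective f := by
      rintro ⟨A, hA⟩ ⟨B, hB⟩ h
      apply Subtype.ext
      show A = B
      by_cases hA0 : none ∈ A <;> by_cases hB0 : none ∈ B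
      · have h3 := congrArg (fun x : I × Bool => x.1.1) h
        simp only [f, hA0, hB0, dif_pos] at h3
        exact compl_injective h3
      · have h3 := congrArg (fun x : I × Bool => x.2) h
        simp [f, hA0, hB0] at h3
      · have h3 := congrArg (fun x : I × Bool => x.2) h
        simp [f, hA0, hB0] at h3
      · have h3 := congrArg (fun x : I × Bool => x.1.1) h
        simpa [f, hA0, hB0] using h3
    have h3 := Nat.card_le_card_of_injective f hf
    rw [Nat.card_prod, h2, Nat.card_eq_fintype_card (α := Bool), Fintype.card_bool] at h3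
    omega
  · have h17 : Sᶜ ∈ octads := by
      rw [mem_octads_iff]
      refine ⟨hcompl S hSc, ?_⟩
      rw [Finset.card_compl, h16]
      decide
    exact hoct _ h17 hS.compl

end Cfsg.Agent.H215.Fpf.J4Deg
end

-- part: H215/Fpf/JFour
section
/-!
# S4228: the row of the fourth Janko group (helper215)

All covers of `J4` are trivial and the degrees are at least 759, so the numeric criterion excludes all odd primes different
from 3 and 11.
-/

set_option autoImplicit false

open Cfsg

namespace Cfsg.Agent.H215.Fpf.JFour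

open Subgroup Cfsg.Agent.J4Type Cfsg.Agent.H80.Fpf
open Cfsg.Agent.H858.FixJ4 (card_J4)
open Cfsg.Agent.H859.BigCent Cfsg.Agent.H859.BigNum

/-- An irreducible representation of degree at least two is not trivial. -/
theorem exists_ne_one {G : Type*} [Group G] {d : ℕ} (ρ : Representation ℂ G (Fin d → ℂ)) (hρ : ρ.IsIrreducible)
    (hd : 2 ≤ d) : ∃ g, ρ g ≠ 1 := by
  by_contra hcon
  push Not at hcon
  have := hρ
  have hd1 : d ≤ 1 := by
    have h1 : ∀ W : Submodule ℂ (Fin d → ℂ), W = ⊥ ∨ W = ⊤ := by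
      intro W
      rcases hρ.eq_bot_or_eq_top ⟨W, fun g v hv => by rw [hcon g]; exact hv⟩ with h | h
      · exact Or.inl (congrArg Subrepresentation.toSubmodule h)
      · exact Or.inr (congrArg Subrepresentation.toSubmodule h)
    by_contra hlt
    push Not at hlt
    have h2 : (Pi.single ⟨0, by omega⟩ 1 : Fin d → ℂ) ≠ 0 := by
      intro h
      have := congrFun h ⟨0, by omega⟩
      simp at this
    rcases h1 (Submodule.span ℂ {Pi.single ⟨0, by omega⟩ 1}) with h | h
    · rw [Submodule.span_singleton_eq_bot] at h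
      exact h2 h
    · have h3 := congrArg (fun W : Submodule ℂ (Fin d → ℂ) => Module.finrank ℂ W) h
      rw [finrank_span_singleton h2, finrank_top, Module.finrank_fin_fun] at h3
      omega
  omega

/-- Irreducible representations of degree at least two of a simple group are faithful. -/
theorem faithful {G : Type*} [Group G] [IsSimpleGroup G] {d : ℕ} (ρ : Representation ℂ G (Fin d → ℂ))
    (hρ : ρ.IsIrreducible) (hd : 2 ≤ d) {x : G} (hx : x ≠ 1) : ρ x ≠ 1 := by
  intro h
  obtain ⟨g, hg⟩ := exists_ne_one ρ hρ hd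
  rcases (MonoidHom.normal_ker ρ).eq_bot_or_eq_top with h1 | h1
  · apply hx
    have h2 : x ∈ MonoidHom.ker ρ := (MonoidHom.mem_ker).2 h
    rw [h1] at h2
    exact Subgroup.mem_bot.1 h2
  · apply hg
    have h2 : g ∈ MonoidHom.ker ρ := by rw [h1]; trivial
    exact (MonoidHom.mem_ker).1 h2

theorem minDeg : MinDeg Cfsg.Spor.J4 759 := by
  obtain ⟨hfin, hs, ⟨F⟩⟩ := Cfsg.Agent.KFacts.J4.Base.exists_full (K := Cfsg.Spor.J4) ⟨MulEquiv.refl _⟩
  have hE : F.C.ε {none, some 0} ≠ 1 := DuadUniq.duad_ne_one F.C.toFrame (by decide)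
  have hperf : commutator Cfsg.Spor.J4 = ⊤ := Cfsg.Agent.H48.Crit.perfect_of_simple (by rw [card_J4]; norm_num)
  refine minDeg_of_mult_one hperf (multDvd_of_cyclic one_ne_zero Cfsg.Agent.S2042.result) fun d ρ hρ hd => ?_
  have h1 := Cfsg.Agent.H215.Fpf.J4Deg.card_le_finrank (F := F.C.toFrame) (ρ := ρ)
    ⟨{none, some 0}, by decide, faithful ρ hρ hd hE⟩
  rwa [Module.finrank_fin_fun] at h1

theorem not_may {r c : ℕ} (hr : r.Prime) (hr2 : r ≠ 2) (hd : r ∣ Nat.card Cfsg.Spor.J4)
    (hN : ∀ P : Subgroup Cfsg.Spor.J4, Nat.card P = r → Nat.card (normalizer (P : Set Cfsg.Spor.J4)) = c)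
    (hc : (r - 1) * c ≤ 759 ^ 2) : ¬ May r Cfsg.Spor.J4 := by
  intro h
  have : Fact r.Prime := ⟨hr⟩
  have hfin : Finite Cfsg.Spor.J4 := finite_J4
  obtain ⟨x, hx⟩ := exists_prime_orderOf_dvd_card' r hd
  have h1 := h.lt_of_minDeg hr hr2 minDeg hx
  rw [hN (zpowers x) (by rw [Nat.card_zpowers, hx])] at h1
  omega

/-- **The row of `J4`.** -/
theorem row_j4 : Cfsg.Agent.H80.Fpf.Row Cfsg.Spor.J4 := by
  refine row_of 3 11 fun r hr hr2 hd h3 h11 => ?_
  have hd' := hd
  rw [card_J4] at hd'
  have e : 86775571046077562880 = 2 ^ 21 * (3 ^ 3 * (5 * (7 * (11 ^ 3 * (23 * (29 * (31 * (37 * 43)))))))) := by norm_num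
  rw [e] at hd'
  have hp : ∀ {q : ℕ}, q.Prime → r ∣ q → r = q := fun hq h => (Nat.prime_dvd_prime_iff_eq hr hq).1 h
  rcases hr.dvd_mul.1 hd' with h | hd'
  · exact absurd (hp Nat.prime_two (hr.dvd_of_dvd_pow h)) hr2
  rcases hr.dvd_mul.1 hd' with h | hd'
  · exact absurd (hp Nat.prime_three (hr.dvd_of_dvd_pow h)) h3
  rcases hr.dvd_mul.1 hd' with h | hd'
  · obtain rfl := hp (by norm_num) h
    exact not_may hr hr2 hd (fun P hP => card_normalizer_five hP) (by norm_num)
  rcases hr.dvd_mul.1 hd' with h | hd'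
  · obtain rfl := hp (by norm_num) h
    exact not_may hr hr2 hd (fun P hP => card_normalizer_seven hP) (by norm_num)
  rcases hr.dvd_mul.1 hd' with h | hd'
  · exact absurd (hp (by norm_num) (hr.dvd_of_dvd_pow h)) h11
  rcases hr.dvd_mul.1 hd' with h | hd'
  · obtain rfl := hp (by norm_num) h
    exact not_may hr hr2 hd (fun P hP => (data23 hP).2) (by norm_num)
  rcases hr.dvd_mul.1 hd' with h | hd'
  · obtain rfl := hp (by norm_num) h
    exact not_may hr hr2 hd (fun P hP => (data29' hP).2) (by norm_num)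
  rcases hr.dvd_mul.1 hd' with h | hd'
  · obtain rfl := hp (by norm_num) h
    exact not_may hr hr2 hd (fun P hP => (data31 hP).2) (by norm_num)
  rcases hr.dvd_mul.1 hd' with h | h
  · obtain rfl := hp (by norm_num) h
    exact not_may hr hr2 hd (fun P hP => (data37 hP).2) (by norm_num)
  · obtain rfl := hp (by norm_num) h
    exact not_may hr hr2 hd (fun P hP => (data43 hP).2) (by norm_num)

end Cfsg.Agent.H215.Fpf.JFour
end

private theorem dce_65c1b946e287 : _root_.True := by
  try have : _root_.True := by simp only [_root_.Cfsg.Agent.H215.Fpf.J4Deg.sg.eq_1]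
  exact _root_.True.intro
end

section
prune_inst 0xfbfdfcffacfddfffff7e3ff6d9cffe11828fffe6dff943ffe863bf0fdf038a09c5fb8d1de010fe0e16c21c10b87813fb7eefffea6bdc7ffffd57b41ffbee5ff7ffb528719e8ca4066c6ff69bf07f0e6f00000800000000000000080000000000020c010000

-- part: H631/Fpf/RowTwE6_mg
section
set_option linter.all false
open scoped Cfsg.Agent.FastGrp

-- part: H631/Fpf/AdjTw
section
/-!
# `²E₆(q)`: the small tori (for S4228, helper631)

* `adj_small` : a prime `r ≠ 3` dividing `Φ₃(q)`, `Φ₄(q)`, `Φ₆(q)` or `Φ₁₀(q)` is adjacent to `p`;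
* `not_may_small` : the primes dividing `q (q² - 1)`.
-/

set_option autoImplicit false
set_option linter.unusedSectionVars false

namespace Cfsg.Agent.H631.Fpf.AdjTw

open CoxeterSystem Subgroup Cfsg Cfsg.Lie Cfsg.Lie.ChevalleyDatum
open Cfsg.Agent.ChevalleyStructure.CoxeterGeomTypes
open Cfsg.Agent.Nodes Cfsg.Agent.Nodes.RGDChev Cfsg.Agent.KFacts.RgdChevCoord Cfsg.Agent.BpExc.TorChev
open Cfsg.Agent.BpExc.TowChev
open Cfsg.Agent.H493.PGTorus Cfsg.Agent.H493.PGCyc Cfsg.Agent.H129.WData
open Cfsg.Agent.H564.NearTwo Cfsg.Agent.H94.PG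
open Cfsg.Agent.H378.ExcAdj Cfsg.Agent.H378.TwAdj Cfsg.Agent.H378 Cfsg.Agent.H80.Fpf

section

variable {K : Type} [Field K] [Fintype K] {q : ℕ} (hq : IsPrimePow q) (hK : Fintype.card K = q ^ 2)

include hq hK

open Cfsg.Agent.H493.PGE6T in
theorem adj_small {p r : ℕ} (hp : p.Prime) (hpq : p ∣ q) (hr : r.Prime) (h3 : r ≠ 3)
    (h : (r : ℤ) ∣ (q : ℤ) ^ 2 + (q : ℤ) + 1 ∨ (r : ℤ) ∣ (q : ℤ) ^ 2 + 1 ∨ (r : ℤ) ∣ (q : ℤ) ^ 2 - (q : ℤ) + 1 ∨
      (r : ℤ) ∣ (q : ℤ) ^ 4 - (q : ℤ) ^ 3 + (q : ℤ) ^ 2 - (q : ℤ) + 1) : Adj ↥(twistedE6 K q) r p := by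
  obtain ⟨p', n, hp', hn, hpn⟩ := id hq
  have hp' := hp'.nat_prime
  have hpp : p' = p := by
    rw [← hpn] at hpq
    exact ((Nat.prime_dvd_prime_iff_eq hp hp').1 (hp.dvd_of_dvd_pow hpq)).symm
  subst hpp
  have h3c := natCard_ne_of hq hK hr h3
  have hne : ∀ {f : ℕ} {c : Fin (f + 1) → ℤ}, (c 0 = 1 ∨ c 0 = -1) → (r : ℤ) ∣ pv c (q : ℤ) → r ≠ p' := by
    intro f c hc h
    rw [← hpn] at h
    exact H493.PGTwist.ne_char hc hp hn h
  rw [← pv_c3, ← pv_c4, ← pv_c6, ← pv_c10] at h
  rcases h with h | h | h | h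
  · exact (pairE_p hq hK chainB_ok hThB eigB_3 (by decide) (by decide) fixB vanB_3 hr hp h3c h hpq).adj hr hp
      (hne (by decide) h)
  · exact (pairE_p hq hK chainC_ok hThC eigC_4 (by decide) (by decide) fixC vanC_4 hr hp h3c h hpq).adj hr hp
      (hne (by decide) h)
  · exact (pairE_p hq hK chainB_ok hThB eigB_6 (by decide) (by decide) fixB vanB_6 hr hp h3c h hpq).adj hr hp
      (hne (by decide) h)
  · exact (pairE_p hq hK chainD_ok hThD eigD_10 (by decide) (by decide) fixD vanD_10 hr hp h3c h hpq).adj hr hp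
      (hne (by decide) h)

/-- the primes dividing `q (q² - 1)` -/
theorem not_may_small {r : ℕ} (hr : r.Prime) (hr2 : r ≠ 2) (h : r ∣ q * (q ^ 2 - 1)) : ¬ May r ↥(twistedE6 K q) := by
  obtain ⟨k, _, _, ι, hk, hι⟩ := H343.exists_subfield K hq two_ne_zero hK
  have h1 := ETable.Exc.neg_one_pow_q (K := K) hq 2 two_ne_zero (by rw [Nat.card_eq_fintype_card, hK])
  have key : ∀ i, H343.RootIn ETable.Exc.inList_E6 ι (twistedE6 K q) (![39, 44, 60, 71] i) :=
    fun i => ⟨ETable.Exc.orth_twE6.lt i,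
      fun t => ETable.Exc.X_mem h1 (ETable.Exc.fix_twE6 i).1 (ETable.Exc.fix_twE6 i).2.1 (hι t),
      fun t => ETable.Exc.X_mem h1 (ETable.Exc.fix_twE6 i).2.2.1 (ETable.Exc.fix_twE6 i).2.2.2 (hι t)⟩
  have hc : r ∣ Nat.card (Matrix.SpecialLinearGroup (Fin 2) k) := by
    rw [Cfsg.Agent.ClassicalGeometry.PSL2Basic.card_SL2, hk]; exact h
  exact Cfsg.Agent.H701.FpfTwo.not_may_of_two (key 0).hom (key 1).hom (fun _ => (key 0).ker) (fun _ => (key 1).ker)
    ((key 0).comm (key 1) (ETable.Exc.orth_twE6.so 0 1 (by decide))) hr hr2 hc hc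

/-- the orders of `q` modulo the prime divisors of the order -/
theorem od_2E6 {r : ℕ} (hr : r.Prime) (hr2 : r ≠ 2) (hd : r ∣ Nat.card ↥(twistedE6 K q)) :
    r ∣ q ∨ od q r = 1 ∨ od q r = 2 ∨ od q r = 3 ∨ od q r = 4 ∨ od q r = 6 ∨ od q r = 8 ∨ od q r = 10 ∨ od q r = 12 ∨
      od q r = 18 := by
  have hq1 : 1 ≤ q := hq.one_lt.le
  have h1 : r ∣ q ^ 36 * (q ^ 2 - 1) * (q ^ 5 + 1) * (q ^ 6 - 1) * (q ^ 8 - 1) * (q ^ 9 + 1) * (q ^ 12 - 1) := by
    rw [← Cfsg.Agent.S1066.result hq hK]
    exact hd.mul_left _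
  have h2 : r ∣ q ∨ r ∣ q ^ 2 - 1 ∨ r ∣ q ^ 5 + 1 ∨ r ∣ q ^ 6 - 1 ∨ r ∣ q ^ 8 - 1 ∨ r ∣ q ^ 9 + 1 ∨ r ∣ q ^ 12 - 1 := by
    have key : r ∣ q ^ 36 ∨ r ∣ q ^ 2 - 1 ∨ r ∣ q ^ 5 + 1 ∨ r ∣ q ^ 6 - 1 ∨ r ∣ q ^ 8 - 1 ∨ r ∣ q ^ 9 + 1 ∨
        r ∣ q ^ 12 - 1 := by
      simp only [hr.dvd_mul] at h1
      (clear * - h1; (solve | (intros; casesm* _ ∨ _, _ ∧ _) <;> (first | with_reducible contradiction | repeat (first | with_reducible assumption | exact Or.inl (by with_reducible assumption) | refine Or.inr ?_)) | tauto))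
    rcases key with h2 | h2
    · exact Or.inl (hr.dvd_of_dvd_pow h2)
    · exact Or.inr h2
  have key : ∀ n, r ∣ q ^ n - 1 → od q r ∣ n := fun n hn => od_dvd hq1 hn
  -- `q ^ n + 1`
  have key2 : ∀ n, r ∣ q ^ n + 1 → od q r ∣ 2 * n ∧ ¬ od q r ∣ n := by
    intro n hn
    have h3 := Int.natCast_dvd_natCast.2 hn
    push_cast at h3
    constructor
    · rw [od, ← CycTab.dvd_iff]
      exact h3.trans ⟨(q : ℤ) ^ n - 1, by ring⟩
    · rw [od, ← CycTab.dvd_iff]
      intro h4
      have h5 : (r : ℤ) ∣ ((2 : ℕ) : ℤ) := by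
        have e : ((2 : ℕ) : ℤ) = ((q : ℤ) ^ n + 1) - ((q : ℤ) ^ n - 1) := by push_cast; ring
        rw [e]
        exact dvd_sub h3 h4
      exact hr2 ((Nat.prime_dvd_prime_iff_eq hr Nat.prime_two).1 (Int.natCast_dvd_natCast.1 h5))
  clear h1 hd
  rcases h2 with h | h | h | h | h | h | h
  · exact Or.inl h
  · right
    have h3 := key 2 h
    generalize od q r = m at *
    have h4 := Nat.le_of_dvd (by norm_num) h3
    clear key key2 h
    interval_cases m <;> omega
  · right
    obtain ⟨h3, h5⟩ := key2 5 h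
    generalize od q r = m at *
    have h4 := Nat.le_of_dvd (by norm_num) h3
    clear key key2 h
    interval_cases m <;> omega
  · right
    have h3 := key 6 h
    generalize od q r = m at *
    have h4 := Nat.le_of_dvd (by norm_num) h3
    clear key key2 h
    interval_cases m <;> omega
  · right
    have h3 := key 8 h
    generalize od q r = m at *
    have h4 := Nat.le_of_dvd (by norm_num) h3
    clear key key2 h
    interval_cases m <;> omega
  · right
    obtain ⟨h3, h5⟩ := key2 9 h
    generalize od q r = m at *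
    have h4 := Nat.le_of_dvd (by norm_num) h3
    clear key key2 h
    interval_cases m <;> (clear * - h3 h5; omega)
  · right
    have h3 := key 12 h
    generalize od q r = m at *
    have h4 := Nat.le_of_dvd (by norm_num) h3
    clear key key2 h
    interval_cases m <;> (clear * - h3; omega)

end

end Cfsg.Agent.H631.Fpf.AdjTw
end

-- part: H631/Fpf/EightTw
section
/-!
# `²E₆(q)`: the primes `r` dividing `q⁴ + 1` (for S4228, helper631)

`not_may_eight` : `q` of order `8` modulo `r`: `¬ May r ²E₆(q)`, every `q`.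
-/

set_option autoImplicit false
set_option linter.unusedSectionVars false
set_option linter.style.haveILetI false

namespace Cfsg.Agent.H631.Fpf.EightTw

open CoxeterSystem Cfsg.Agent.ChevalleyStructure.CoxeterGeom Cfsg.Agent.Tits.Roots Cfsg.Agent.Tits.Core
  Cfsg.Agent.Tits.RootComb Cfsg.Agent.Nodes.Comb Cfsg.Agent.Nodes.Reps Cfsg.Agent.Nodes.BNOf
  Cfsg.Agent.Nodes.StabComb Cfsg.Agent.Nodes.Bruhat Cfsg.Agent.Nodes.LeviDec Cfsg.Agent.H35.Poin
  Cfsg.Agent.Nodes.Coroot
  Cfsg.Agent.H35.PoinNum Cfsg.Agent.H35.ExcIdx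
open Cfsg.Agent.KFacts.RgdPar Cfsg.Agent.KFacts.RgdCharP Cfsg.Agent.KFacts.RgdVJ Cfsg.Agent.KFacts.RgdCent
  Cfsg.Agent.KFacts.RgdTI Cfsg.Agent.KFacts.TwESix Cfsg.Agent.KFacts.TwESix.Comb Cfsg.Agent.KFacts.RgdSL
open Cfsg.Lie Cfsg.Agent.H80.Fpf Cfsg.Agent.H378.ExcAdj Cfsg.Agent.H378.CycTab
open Cfsg.Agent.ChevalleyStructure.TwE6Basic (exists_frob)
open scoped commutatorElement

universe u

/-- a divisor of `q ^ n - 1` -/
theorem not_dvd_of_od {q r m n : ℕ} (h : od q r = m) (hn : ¬ m ∣ n) {N : ℕ}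
    (hN : (N : ℤ) ∣ (q : ℤ) ^ n - 1) : ¬ r ∣ N := by
  intro h1
  apply hn
  rw [← h, od, ← Cfsg.Agent.H378.CycTab.dvd_iff]
  exact (Int.natCast_dvd_natCast.2 h1).trans hN

theorem not_dvd_P123 {q r a : ℕ} (hq : 1 < q) (hr : r.Prime) (hr2 : r ≠ 2) (h : od q r = 8) :
    ¬ r ∣ ((1 + q ^ 2 + q ^ 4 + q ^ 5 + q ^ 7 + q ^ 9) * ((1 + q + q ^ 3 + q ^ 4) * (1 + q ^ 2))) *
      (2 ^ a * ((q - 1) ^ 4 * (q + 1) ^ 2)) := by
  have e1 : 1 + q ^ 2 + q ^ 4 + q ^ 5 + q ^ 7 + q ^ 9 = (1 + q ^ 2 + q ^ 4) * (1 + q ^ 5) := by ring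
  have e2 : 1 + q + q ^ 3 + q ^ 4 = (1 + q) * (1 + q ^ 3) := by ring
  have hq1 : ((q - 1 : ℕ) : ℤ) = (q : ℤ) - 1 := by rw [Nat.cast_sub hq.le, Nat.cast_one]
  have f1 : ¬ r ∣ 1 + q ^ 2 + q ^ 4 := not_dvd_of_od h (n := 6) (by norm_num)
    ⟨(q : ℤ) ^ 2 - 1, by push_cast; ring⟩
  have f2 : ¬ r ∣ 1 + q ^ 5 := not_dvd_of_od h (n := 10) (by norm_num) ⟨(q : ℤ) ^ 5 - 1, by push_cast; ring⟩
  have f3 : ¬ r ∣ 1 + q := not_dvd_of_od h (n := 2) (by norm_num) ⟨(q : ℤ) - 1, by push_cast; ring⟩
  have f4 : ¬ r ∣ 1 + q ^ 3 := not_dvd_of_od h (n := 6) (by norm_num) ⟨(q : ℤ) ^ 3 - 1, by push_cast; ring⟩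
  have f5 : ¬ r ∣ 1 + q ^ 2 := not_dvd_of_od h (n := 4) (by norm_num) ⟨(q : ℤ) ^ 2 - 1, by push_cast; ring⟩
  have f6 : ¬ r ∣ q - 1 := not_dvd_of_od h (n := 1) (by norm_num) ⟨1, by rw [hq1]; ring⟩
  have f7 : ¬ r ∣ q + 1 := by rw [add_comm]; exact f3
  have f8 : ¬ r ∣ 2 ^ a := fun h1 => hr2 ((Nat.prime_dvd_prime_iff_eq hr Nat.prime_two).1 (hr.dvd_of_dvd_pow h1))
  have f9 : ¬ r ∣ (q - 1) ^ 4 := fun h1 => f6 (hr.dvd_of_dvd_pow h1)
  have f10 : ¬ r ∣ (q + 1) ^ 2 := fun h1 => f7 (hr.dvd_of_dvd_pow h1)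
  rw [e1, e2]
  simp only [hr.dvd_mul]
  (clear * - f1 f2 f3 f4 f5 f8 f9 f10; tauto)

variable {K : Type u} [Field K] [Fintype K] {q : ℕ} {φ : K →+* K}

section

variable {p : ℕ} [Fact p.Prime] [CharP K p]
  (hφ : ∀ x, φ x = x ^ q) (hqq : ∀ t : K, (t ^ q) ^ q = t) (hq : 1 < q) (hK : Fintype.card K = q ^ 2)

include hφ hqq hq hK p in
theorem dvd_P012 {r : ℕ} (hr : r.Prime) (h : od q r = 8) :
    r ∣ Nat.card ↥(PJ CoxeterMatrix.F₄.toCoxeterSystem Nodes.RGDTwE6.isCartan (Nodes.RGDTwE6.T K q)
      (Nodes.RGDTwE6.X φ q) {j | j ∈ ([0, 1, 2] : List (Fin 4))}) := by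
  rw [CardTw.card_P012 hφ hqq hq hK (p := p)]
  refine Dvd.dvd.mul_right (Dvd.dvd.mul_right ?_ _) _
  have h1 := dvd8 hr h
  rw [pv8] at h1
  have h2 : r ∣ q ^ 4 + 1 := by exact_mod_cast h1
  have e : 1 + q + q ^ 2 + q ^ 4 + q ^ 5 + q ^ 6 = (q ^ 4 + 1) * (1 + q + q ^ 2) := by ring
  rw [e]
  exact Dvd.dvd.mul_right h2 _

end

section Two

variable [CharP K 2]
  (hφ : ∀ x, φ x = x ^ q) (hqq : ∀ t : K, (t ^ q) ^ q = t) (hq : 1 < q) (hK : Fintype.card K = q ^ 2)

include hφ hqq hq hK in
/-- **Characteristic two.** -/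
theorem not_may_eight_two (hpp : IsPrimePow q) {r : ℕ} (hr : r.Prime) (hr2 : r ≠ 2) (h : od q r = 8) :
    ¬ May r ↥(twistedE6 K q) := by
  haveI : Fact (Nat.Prime 2) := ⟨Nat.prime_two⟩
  haveI hs : IsSimpleGroup ↥(twistedE6 K q) := (Cfsg.Agent.S1070.result hpp hK).1
  let cs : CoxeterSystem CoxeterMatrix.F₄ CoxeterMatrix.F₄.Group := CoxeterMatrix.F₄.toCoxeterSystem
  haveI hfin : Finite CoxeterMatrix.F₄.Group := Nodes.RGDFold.finite_W (hp := Nodes.RGDTwE6.hp)
    cs Nodes.RGDTwE6.isCartan Nodes.RGDTwE6.foldData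
  have D := Dat.dat cs hφ hqq hK hq
  set R := Nodes.RGDTwE6.rgd cs hφ hqq 2 with hR
  have hG : GG cs Nodes.RGDTwE6.isCartan (Nodes.RGDTwE6.T K q) (Nodes.RGDTwE6.X φ q) = ⊤ := by
    rw [eq_top_iff, ← Nodes.RGDTwE6.G1_eq_top cs hφ hqq]
    exact le_sup_right
  obtain ⟨x, hx, -, hxN⟩ := exists_mem_par R hr (dvd_P012 (p := 2) hφ hqq hq hK hr h)
  set V := VJ cs Nodes.RGDTwE6.isCartan (Nodes.RGDTwE6.X φ q) {j | j ∈ ([0, 1, 2] : List (Fin 4))} with hV
  have hX : ∀ y, IsRoot cs Nodes.RGDTwE6.isCartan y → (∀ i, 0 ≤ y i) → 0 < y 3 → Nodes.RGDTwE6.X φ q y ≤ V :=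
    fun y h1 h2 h3 => RGD.le_Sup ⟨h1, h2, 3, by decide, h3⟩
  have L := D.lr rho (rho_root cs) rho_long
  obtain ⟨z, hz, hz1⟩ := Facts.exists_ne_one R (rho_root cs)
  -- `z` commutes with `V`
  have hzV : ∀ v ∈ V, v * z = z * v := by
    intro v hv
    refine L.comm' ?_ hz
    refine (RGD.Sup_mono ?_ : V ≤ _) hv
    rintro y ⟨h1, h2, -⟩
    exact ⟨h1, by rw [cpr_rho]; exact h2 0⟩
  have hzV' : z ∈ V := hX rho (rho_root cs) (by decide) (by decide) hz
  have hzD : z ∈ ⁅V, V⁆ := by
    have hx1 : IsRoot cs Nodes.RGDTwE6.isCartan ![1, 1, 1, 1] := (mem_rts cs).2 (by decide +kernel)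
    have hy1 : IsRoot cs Nodes.RGDTwE6.isCartan ![1, 2, 3, 1] := (mem_rts cs).2 (by decide +kernel)
    have e : (![1, 1, 1, 1] + ![1, 2, 3, 1] : Fin 4 → ℤ) = rho := by decide
    obtain ⟨a, ha, b, hb, hab⟩ := Facts.orth_surj D hx1 hy1 (by decide) (by decide) (by decide) (w := z)
      (by rw [e]; exact hz)
    rw [← hab]
    exact Subgroup.commutator_mem_commutator (hX _ hx1 (by decide) (by decide) ha) (hX _ hy1 (by decide) (by decide) hb)
  -- `x` does not commute with `z`
  have hne : x * z ≠ z * x := by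
    intro hc
    have h1 : x ∈ PS (Nodes.RGDTwE6.T K q) (Nodes.RGDTwE6.X φ q) (Ge cs Nodes.RGDTwE6.isCartan rho) :=
      L.le_PS_of_comm (by rw [hG]; exact Subgroup.mem_top _) hz hz1 hc
    have h2 : PS (Nodes.RGDTwE6.T K q) (Nodes.RGDTwE6.X φ q) (Ge cs Nodes.RGDTwE6.isCartan rho) =
        PJ cs Nodes.RGDTwE6.isCartan (Nodes.RGDTwE6.T K q) (Nodes.RGDTwE6.X φ q)
          {i | ell cs Nodes.RGDTwE6.isCartan L.root (sr i) = 0} :=
      PS_half_of_dom (f := ell cs Nodes.RGDTwE6.isCartan L.root) fun i => by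
        show 0 ≤ cpr cs Nodes.RGDTwE6.isCartan (sr i) rho
        rw [cpr_rho]
        (revert i; simp only [sr, _root_.Fin.forall_fin_succ, Fin.isValue, _root_.Pi.single_eq_same, _root_.zero_le_one, _root_.ne_eq, _root_.Fin.succ_ne_zero, _root_.not_false_eq_true, _root_.Pi.single_eq_of_ne', _root_.Std.le_refl, _root_.implies_true, _root_.and_self])
    have h3 : ({i | ell cs Nodes.RGDTwE6.isCartan L.root (sr i) = 0} : Set (Fin 4)) =
        {j | j ∈ ([1, 2, 3] : List (Fin 4))} := by
      ext i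
      show cpr cs Nodes.RGDTwE6.isCartan (sr i) rho = 0 ↔ i ∈ ([1, 2, 3] : List (Fin 4))
      rw [cpr_rho]
      (revert i; simp only [sr, _root_.Fin.forall_fin_succ, Fin.isValue, _root_.List.mem_cons, _root_.List.not_mem_nil, _root_.or_false, _root_.Pi.single_eq_same, _root_.one_ne_zero, _root_.zero_ne_one, Fin.reduceEq, _root_.or_self, _root_.ne_eq, _root_.Fin.succ_ne_zero, _root_.not_false_eq_true, _root_.Pi.single_eq_of_ne', _root_.true_iff, _root_.Fin.succ_zero_eq_one, _root_.Fin.succ_one_eq_two, _root_.or_true, Fin.reduceSucc, _root_.IsEmpty.forall_iff, _root_.and_self])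
    rw [h2, h3] at h1
    have h4 : r ∣ Nat.card ↥(PJ cs Nodes.RGDTwE6.isCartan (Nodes.RGDTwE6.T K q) (Nodes.RGDTwE6.X φ q)
        {j | j ∈ ([1, 2, 3] : List (Fin 4))}) := by
      rw [← hx, ← Subgroup.orderOf_mk x h1]
      exact orderOf_dvd_natCard _
    obtain ⟨p, f, hp, hf, hpf⟩ := id hpp
    have hp2 : p = 2 := by
      obtain ⟨n, -, hn⟩ := FiniteField.card K 2
      have h5 : p ∣ 2 ^ (n : ℕ) := by
        rw [← hn, hK, ← hpf]
        exact dvd_pow (dvd_pow_self p hf.ne') (by norm_num)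
      exact (Nat.prime_dvd_prime_iff_eq hp.nat_prime Nat.prime_two).1 (hp.nat_prime.dvd_of_dvd_pow h5)
    subst hp2
    obtain ⟨a, ha⟩ := CardTw.card_B (p := 2) hφ hqq hq hK ⟨f, hf.ne', hpf.symm⟩
    apply not_dvd_P123 (a := a) hq hr hr2 h
    rw [← ha]
    rw [CardTw.card_P123 hφ hqq hq hK (p := 2)] at h4
    exact h4.trans ⟨Nat.gcd 3 (q + 1), by ring⟩
  -- the subgroup `A`
  have hnorm : ∀ {B : Subgroup ↥(twistedE6 K q)}, (∀ g : ↥(twistedE6 K q), g ∈ Subgroup.normalizer (V : Set _) →
      ∀ b ∈ B, g * b * g⁻¹ ∈ B) → x ∈ Subgroup.normalizer (B : Set ↥(twistedE6 K q)) := by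
    intro B hB
    rw [Subgroup.mem_normalizer_iff]
    intro b
    refine ⟨fun hb => hB x hxN b hb, fun hb => ?_⟩
    have h1 := hB x⁻¹ (inv_mem hxN) _ hb
    have e : x⁻¹ * (x * b * x⁻¹) * x⁻¹⁻¹ = b := by group
    rwa [e] at h1
  refine not_may_of_derived (V := V) (A := ⁅V, V⁆) hr hr2 le_rfl hzD hzV hx (hnorm ?_) hne
  intro g hg b hb
  have h1 : ⁅V, V⁆.map (MulAut.conj g).toMonoidHom = ⁅V, V⁆ := by
    rw [Subgroup.map_commutator]
    have h2 : V.map (MulAut.conj g).toMonoidHom = V := by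
      apply le_antisymm
      · rintro _ ⟨v, hv, rfl⟩
        exact (Subgroup.mem_normalizer_iff.1 hg v).1 hv
      · intro v hv
        refine ⟨g⁻¹ * v * g, (Subgroup.mem_normalizer_iff''.1 hg v).1 hv, ?_⟩
        show g * (g⁻¹ * v * g) * g⁻¹ = v
        group
    rw [h2]
  rw [← h1]
  exact ⟨b, hb, rfl⟩

end Two

theorem locChar_2E6 {K : Type} [Field K] [Fintype K] {q : ℕ} (hpp : IsPrimePow q) (hK : Fintype.card K = q ^ 2) {p : ℕ}
    [Fact p.Prime] [CharP K p] : Cfsg.Agent.BpLieP.Big.LocChar p ↥(twistedE6 K q) := by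
  haveI : IsSimpleGroup ↥(twistedE6 K q) := (Cfsg.Agent.S1070.result hpp hK).1
  haveI : Finite ↥(twistedE6 K q) := inferInstance
  apply Cfsg.Agent.H400.LieLocal.locChar_of_filt
  have h : Cfsg.IsTwistedE6D4Char p ↥(twistedE6 K q) := by
    exact ⟨K, inferInstance, inferInstance, inferInstance, q, hpp, Or.inl ⟨hK, ⟨MulEquiv.refl _⟩⟩⟩
  exact Cfsg.Agent.KFacts.RgdLieCharP.hasFilt_of_lie (Or.inr (Or.inr (Or.inr (Or.inr (Or.inr (Or.inr (Or.inr h)))))))

end Cfsg.Agent.H631.Fpf.EightTw
end

-- part: H631/Fpf/Det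
section
/-!
# `|det (w - q)| ≤ (q + 1) ^ l` for `w` of finite order (for S4228, helper631)
-/

set_option autoImplicit false

namespace Cfsg.Agent.H631.Fpf

/-- the roots of the characteristic polynomial of a matrix of finite order -/
theorem norm_root {l N : ℕ} (hN : 0 < N) {A : Matrix (Fin l) (Fin l) ℂ} (hA : A ^ N = 1) {μ : ℂ}
    (hμ : μ ∈ A.charpoly.roots) : ‖μ‖ = 1 := by
  have h1 : A.charpoly.IsRoot μ := Polynomial.isRoot_of_mem_roots hμ
  have h2 : ∃ v : Fin l → ℂ, v ≠ 0 ∧ A.mulVec v = μ • v := by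
    have h3 : (Matrix.scalar (Fin l) μ - A).det = 0 := by
      rw [← Matrix.eval_charpoly]
      exact h1
    obtain ⟨v, hv, hv0⟩ := Matrix.exists_mulVec_eq_zero_iff.2 h3
    refine ⟨v, hv, ?_⟩
    rw [Matrix.sub_mulVec, sub_eq_zero] at hv0
    rw [← hv0]
    simp [Matrix.scalar_apply]
  obtain ⟨v, hv, hAv⟩ := h2
  have h3 : ∀ k : ℕ, (A ^ k).mulVec v = μ ^ k • v := by
    intro k
    induction k with
    | zero => simp
    | succ k ih => rw [pow_succ, ← Matrix.mulVec_mulVec, hAv, Matrix.mulVec_smul, ih, smul_smul, pow_succ, mul_comm]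
  have h4 := h3 N
  rw [hA, Matrix.one_mulVec] at h4
  have h5 : (1 : ℂ) • v = μ ^ N • v := by rw [one_smul]; exact h4
  have h6 := smul_left_injective ℂ hv h5
  exact Complex.norm_eq_one_of_pow_eq_one h6.symm hN.ne'

theorem norm_det_le {l N : ℕ} (hN : 0 < N) {A : Matrix (Fin l) (Fin l) ℂ} (hA : A ^ N = 1) (q : ℕ) :
    ‖(Matrix.scalar (Fin l) (q : ℂ) - A).det‖ ≤ ((q : ℝ) + 1) ^ l := by
  rw [← Matrix.eval_charpoly, (IsAlgClosed.splits A.charpoly).eval_eq_prod_roots_of_monic A.charpoly_monic]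
  have hcard : A.charpoly.roots.card = l := by
    rw [← (IsAlgClosed.splits A.charpoly).natDegree_eq_card_roots, Matrix.charpoly_natDegree_eq_dim, Fintype.card_fin]
  have key : ∀ s : Multiset ℂ, (∀ μ ∈ s, ‖μ‖ = 1) →
      ‖(s.map fun μ => (q : ℂ) - μ).prod‖ ≤ ((q : ℝ) + 1) ^ s.card := by
    intro s
    induction s using Multiset.induction_on with
    | empty => intro _; simp
    | cons a s ih =>
      intro hs
      rw [Multiset.map_cons, Multiset.prod_cons, norm_mul, Multiset.card_cons, pow_succ, mul_comm]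
      have h1 := ih fun μ hμ => hs μ (Multiset.mem_cons_of_mem hμ)
      have h2 : ‖(q : ℂ) - a‖ ≤ (q : ℝ) + 1 := by
        refine (norm_sub_le _ _).trans ?_
        rw [hs a (Multiset.mem_cons_self _ _)]
        simp
      exact mul_le_mul h1 h2 (norm_nonneg _) (by positivity)
  have h1 := key A.charpoly.roots fun μ hμ => norm_root hN hA hμ
  rwa [hcard] at h1

/-- **The determinant of `w - q`.** -/
theorem natAbs_det_le {l N : ℕ} (hN : 0 < N) {w : Module.End ℤ (Fin l → ℤ)} (hw : w ^ N = 1) (q : ℕ) :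
    (LinearMap.det (w - (q : ℤ) • (1 : Module.End ℤ (Fin l → ℤ)))).natAbs ≤ (q + 1) ^ l := by
  set A := LinearMap.toMatrix' w with hAdef
  have hA : A ^ N = 1 := by
    have h1 : LinearMap.toMatrixAlgEquiv' (w ^ N) = 1 := by rw [hw, map_one]
    rw [map_pow] at h1
    exact h1
  let B : Matrix (Fin l) (Fin l) ℂ := A.map (Int.castRingHom ℂ)
  have hB : B ^ N = 1 := by
    have h1 : (Int.castRingHom ℂ).mapMatrix (A ^ N) = 1 := by rw [hA, map_one]
    rw [map_pow] at h1
    exact h1
  have h1 := norm_det_le hN hB q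
  have h2 : (Matrix.scalar (Fin l) (q : ℂ) - B).det =
      ((Matrix.scalar (Fin l) (q : ℤ) - A).det : ℤ) := by
    have h3 : (Matrix.scalar (Fin l) (q : ℂ) - B) = (Int.castRingHom ℂ).mapMatrix (Matrix.scalar (Fin l) (q : ℤ) - A) := by
      rw [map_sub]
      congr 1
      ext i j
      simp only [Matrix.scalar_apply, Matrix.diagonal_apply, _root_.map_natCast]
    rw [h3, ← RingHom.map_det]
    rfl
  have h3 : (LinearMap.det (w - (q : ℤ) • (1 : Module.End ℤ (Fin l → ℤ)))).natAbs =
      ((Matrix.scalar (Fin l) (q : ℤ) - A).det).natAbs := by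
    rw [← LinearMap.det_toMatrix', map_sub, map_smul]
    have h4 : LinearMap.toMatrix' (1 : Module.End ℤ (Fin l → ℤ)) = 1 := LinearMap.toMatrix'_one
    rw [h4]
    have h5 : LinearMap.toMatrix' w - (q : ℤ) • (1 : Matrix (Fin l) (Fin l) ℤ) =
        -(Matrix.scalar (Fin l) (q : ℤ) - A) := by
      rw [neg_sub]
      congr 1
      ext i j
      rw [Matrix.smul_apply, Matrix.one_apply, Matrix.scalar_apply, Matrix.diagonal_apply]
      split_ifs <;> simp
    rw [h5, Matrix.det_neg, Int.natAbs_mul, Int.natAbs_pow]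
    simp only [_root_.Int.reduceNeg, _root_.IsUnit.neg_iff, _root_.isUnit_one, _root_.Int.natAbs_of_isUnit, _root_.Fintype.card_fin, _root_.one_pow, _root_.map_natCast, _root_.one_mul]
  rw [h3]
  rw [h2] at h1
  rw [Complex.norm_intCast] at h1
  have h4 : ((((Matrix.scalar (Fin l) (q : ℤ) - A).det).natAbs : ℕ) : ℝ) ≤ (((q + 1) ^ l : ℕ) : ℝ) := by
    rw [Nat.cast_natAbs, Int.cast_abs]
    refine h1.trans ?_
    push_cast
    exact le_rfl
  exact_mod_cast h4

end Cfsg.Agent.H631.Fpf
end

-- part: H631/Fpf/Cent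
section
/-!
# A bound for the centralisers of elements of prime order (for S4228, helper631)

* `adj_or_bound` : `x` of prime order `ℓ ≠ p`, `ℓ ∤ |W|`: an element of order `p` commutes with `x`, or `|C(x)| ≤ (q + 1) ^ l`;
* `adj_or_bound_untw`, `adj_or_bound_2E6` : the instances.
-/

set_option autoImplicit false
set_option linter.unusedSectionVars false

namespace Cfsg.Agent.H631.Fpf.Cent

open CoxeterSystem Subgroup Cfsg Cfsg.Lie Cfsg.Lie.ChevalleyDatum
open Cfsg.Agent.ChevalleyStructure Cfsg.Agent.ChevalleyStructure.Elts Cfsg.Agent.ChevalleyStructure.CoxeterGeom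
  Cfsg.Agent.ChevalleyStructure.CoxeterGeomTypes Cfsg.Agent.ChevalleyStructure.NPerm
open Cfsg.Agent.Tits.Roots Cfsg.Agent.Tits.Core Cfsg.Agent.Nodes Cfsg.Agent.Nodes.Reps Cfsg.Agent.Nodes.BNOf
  Cfsg.Agent.Nodes.RGDChev Cfsg.Agent.Nodes.Bruhat
open Cfsg.Agent.KFacts.RgdField Cfsg.Agent.KFacts.RgdChevCoord Cfsg.Agent.BpExc Cfsg.Agent.BpExc.TorCent
  Cfsg.Agent.BpExc.TorChev Cfsg.Agent.BpExc.Tow Cfsg.Agent.BpExc.TowChev Cfsg.Agent.BpExc.Fr Cfsg.Agent.BpExc.Pair
  Cfsg.Agent.BpExc.LangFr Cfsg.Agent.BpExc.FamUntw Cfsg.Agent.BpExc.FamExt Cfsg.Agent.BpExc.FamInst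
open Cfsg.Agent.GpExc.Field (glMap emb coe_emb glMap_xG emb_injective coe_glMap)
open Cfsg.Agent.H129.TorusChar
open Cfsg.Agent.H378.TorDual Cfsg.Agent.H378.TorChar Cfsg.Agent.H378.TorFin Cfsg.Agent.H378.LatRoot
  Cfsg.Agent.H378.LatCyc Cfsg.Agent.H378.Regular Cfsg.Agent.H378.RegTw Cfsg.Agent.H378 Cfsg.Agent.H378.AdjTab

universe u v

section Fin

variable {D : ChevalleyDatum} {l : ℕ} {M : CoxeterMatrix (Fin l)} (hp : IsType D l M) {k : Type u} [Field k]
  {W : Type*} [Group W] (cs : CoxeterSystem M W) [IsAlgClosed k] (hk : LocFin k) {p e : ℕ} [Fact p.Prime] [CharP k p]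
  {σ : MulAut ↥(D.group k)} {g : (Fin l → ℤ) ≃+ (Fin l → ℤ)}
  {G0 : Type*} [Group G0] [Finite G0] {e0 : G0 →* ↥(D.group k)}

include hp cs hk in
/-- **Either an element of order `p` commutes with `x` or `|C(x)| ≤ (q + 1) ^ l`.** -/
theorem adj_or_bound [Finite W] (hka : BpExc.TorAll.HAlg p k) (he : 0 < e) (hσ : IsFrob p e σ)
    (F : Fr cs hp.isCartan (TT D k) (XX D l k) σ g) (he0 : Function.Injective e0) (hfix : ∀ a, σ (e0 a) = e0 a) {d : ℕ}
    (hd : ∀ y, σ y = y → y ^ d ∈ e0.range) (hpd : ¬ p ∣ d) {x : G0} {ℓ : ℕ} (hℓ : ℓ.Prime) (hℓp : ℓ ≠ p)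
    (hx : orderOf x = ℓ) (hℓW : ¬ ℓ ∣ Nat.card W) :
    (∃ v : G0, orderOf v = p ∧ Commute v x) ∨ Nat.card ↥(Subgroup.centralizer ({x} : Set G0)) ≤ (p ^ e + 1) ^ l := by
  have hxℓ : x ^ ℓ = 1 := by rw [← hx]; exact pow_orderOf_eq_one x
  have hx1 : x ≠ 1 := by
    rintro rfl
    rw [orderOf_one] at hx
    exact hℓ.one_lt.ne hx
  obtain ⟨g', χ, hg', hE, h1, h2⟩ := pair_core hp cs hk hka he hσ F (hfix x) hℓ hℓp
    (by rw [← map_pow, hxℓ, map_one]) (fun h => hx1 (he0 (h.trans (map_one _).symm))) hℓW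
  by_cases hr : ∃ a, IsRoot cs hp.isCartan a ∧ χ (Multiplicative.ofAdd a) = 1
  · obtain ⟨u, hu, hc, ho⟩ := h1 hr
    exact Or.inl (exists_desc he0 hd hpd hu hc ho)
  · right
    push Not at hr
    obtain ⟨φ, hφ⟩ := h2 hr
    obtain ⟨ψ, hψ⟩ := exists_cent he0 hfix hφ
    obtain ⟨N, hN, hwN⟩ := exists_pow_one (cs := cs) (h := hp.isCartan) hg'
    have hdet : ((LinearMap.det (endo g' - ((p ^ e : ℕ) : ℤ) • (1 : Module.End ℤ (Fin l → ℤ))) : ℤ) : k) ≠ 0 := by
      refine det_ne_zero (endo_mul_symm g') ?_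
      rw [Int.cast_natCast, Nat.cast_pow, CharP.cast_eq_zero, zero_pow he.ne']
    have hcard := card_kerOf k hdet
    have hpos : (LinearMap.det (endo g' - ((p ^ e : ℕ) : ℤ) • (1 : Module.End ℤ (Fin l → ℤ)))).natAbs ≠ 0 := by
      intro h0
      rw [Int.natAbs_eq_zero] at h0
      rw [h0, Int.cast_zero] at hdet
      exact hdet rfl
    have h3 := Subgroup.card_dvd_of_injective ψ hψ
    rw [hcard] at h3
    exact (Nat.le_of_dvd (Nat.pos_of_ne_zero hpos) h3).trans (natAbs_det_le hN hwN (p ^ e))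

end Fin

/-- **The untwisted groups.** -/
theorem adj_or_bound_untw {D : ChevalleyDatum} {l : ℕ} {M : CoxeterMatrix (Fin l)} (hp : IsType D l M)
    {W : Type*} [Group W] [Finite W] (cs : CoxeterSystem M W) {d : ℕ} {B : Fin l → Fin l → ℤ} (hB : Cfsg.Agent.BpExc.FamExt.InvC D l d B)
    (hd : d ≠ 0) {F : Type u} [Field F] [Finite F] {p : ℕ} (hpp : p.Prime) (hpq : p ∣ Nat.card F)
    {x : ↥(D.group F)} {ℓ : ℕ} (hℓ : ℓ.Prime) (hℓp : ℓ ≠ p) (hx : orderOf x = ℓ) (hlℓ : l + 1 < ℓ) :
    (∃ v : ↥(D.group F), orderOf v = p ∧ Commute v x) ∨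
      Nat.card ↥(Subgroup.centralizer ({x} : Set ↥(D.group F))) ≤ (Nat.card F + 1) ^ l := by
  obtain ⟨k, _, _, f, r, hr, _, n, hk, hka, hn0, hn⟩ := TorFin.exists_closure F
  have hpr : p = r := by
    rw [hn] at hpq
    exact (Nat.prime_dvd_prime_iff_eq hpp hr.out).1 (hpp.dvd_of_dvd_pow hpq)
  subst hpr
  have hgcd : ¬ p ∣ Nat.gcd d (Nat.card F - 1) := by
    intro h
    have h1 : p ∣ Nat.card F - 1 := h.trans (Nat.gcd_dvd_right _ _)
    have h2 : p ∣ Nat.card F := by rw [hn]; exact dvd_pow_self _ hn0.ne'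
    have h3 : 0 < Nat.card F := Nat.card_pos
    have h4 := Nat.dvd_sub h2 h1
    rw [show Nat.card F - (Nat.card F - 1) = 1 by omega] at h4
    exact hpp.one_lt.ne' (Nat.dvd_one.1 h4)
  have key := adj_or_bound hp cs hk hka hn0 (σ := phi D k p n) (g := AddEquiv.refl _)
    (Cfsg.Agent.H666.SigFr.isFrob_fld (fun a => Cfsg.Agent.BpExc.FamField.frb_apply k p n a)) (Cfsg.Agent.H666.SigFr.fr_fld hp cs _)
    (e0 := emb hp.inList f) (emb_injective hp.inList f) (fun a => phi_emb' hp f p hn a)
    (d := Nat.gcd d (Nat.card F - 1))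
    (fun y hy => by
      obtain ⟨x, hx⟩ := Cfsg.Agent.H378.RootTor.fix_pow_mem' hp f p hn hB hd hy
      exact ⟨x, hx⟩) hgcd hℓ hℓp hx
    (fun h => by
      have := LatCodim.le_of_dvd_card cs hp.isCartan hℓ h
      omega)
  rwa [← hn] at key

/-- **`²E₆(q)`.** -/
theorem adj_or_bound_2E6 {K : Type u} [Field K] [Fintype K] {q : ℕ} (hq : IsPrimePow q) (hK : Fintype.card K = q ^ 2)
    {p : ℕ} (hp : p.Prime) (hpq : p ∣ q) {x : ↥(twistedE6 K q)} (hr : (orderOf x).Prime)
    (hxp : orderOf x ≠ p) (h7 : 7 < orderOf x) :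
    (∃ v : ↥(twistedE6 K q), orderOf v = p ∧ Commute v x) ∨
      Nat.card ↥(Subgroup.centralizer ({x} : Set ↥(twistedE6 K q))) ≤ (q + 1) ^ 6 := by
  have hfin := H493.PGE6.finW
  obtain ⟨k, _, _, f, p', hpF, _, e, hk, hka, he, hqe⟩ := TwRows.exists_closure' hq hK
  have hpp : p = p' := by
    rw [hqe] at hpq
    exact (Nat.prime_dvd_prime_iff_eq hp hpF.out).1 (hp.dvd_of_dvd_pow hpq)
  subst hpp
  have hpd : ¬ p ∣ Nat.gcd 3 (q + 1) := by
    intro h3
    have h4 : p ∣ q + 1 := h3.trans (Nat.gcd_dvd_right _ _)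
    exact hp.one_lt.ne' (Nat.dvd_one.1 ((Nat.dvd_add_right hpq).1 h4))
  have key := adj_or_bound RGDTwE6.hp CoxeterMatrix.E₆.toCoxeterSystem hk hka he H493.TwE6Alg.isFrob_tau
    (H493.TwE6Alg.fr_tau CoxeterMatrix.E₆.toCoxeterSystem) (e0 := H493.TwE6Alg.embT f q)
    (H493.TwE6Alg.embT_injective f q)
    (fun a => H493.TwE6Alg.tau_embT f hqe hq hK a) (d := Nat.gcd 3 (q + 1))
    (fun y hy => H493.TwE6Alg.tau_pow f hqe hq hK hy) hpd hr hxp rfl
    (fun h => by
      have := LatCodim.le_of_dvd_card CoxeterMatrix.E₆.toCoxeterSystem RGDTwE6.hp.isCartan hr h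
      omega)
  rwa [← hqe] at key

end Cfsg.Agent.H631.Fpf.Cent
end

-- part: H631/Fpf/RowE6
section
/-!
# The row of `E₆(q)` (for S4228, helper631)
-/

set_option autoImplicit false
set_option linter.unusedSectionVars false
set_option linter.style.haveILetI false

namespace Cfsg.Agent.H631.Fpf

universe u

open CoxeterSystem Cfsg.Agent.ChevalleyStructure.CoxeterGeom Cfsg.Agent.ChevalleyStructure.CoxeterGeomTypes
  Cfsg.Agent.H35.ExcIdx
open Cfsg.Lie Cfsg.Agent.Nodes.RGDChev
open Cfsg.Agent.H80.Fpf Cfsg.Agent.H378.ExcAdj Cfsg.Agent.H378.CycTab Cfsg.Agent.H493.PGTorus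
open Cfsg.Agent.BpExc.FamInst

/-- `r - 1` is divisible by the order of `q` modulo `r` -/
theorem od_dvd_sub_one {q r m : ℕ} (hr : r.Prime) (h : od q r = m) (hm : 0 < m) : m ∣ r - 1 := by
  haveI : Fact r.Prime := ⟨hr⟩
  have h4 := Cfsg.Agent.H378.RegFin.not_dvd_q hr h hm
  have h5 : ((q : ℕ) : ZMod r) ≠ 0 := fun h6 => h4 ((ZMod.natCast_eq_zero_iff _ _).1 h6)
  have h6 : orderOf ((q : ℕ) : ZMod r) ∣ r - 1 := ZMod.orderOf_dvd_card_sub_one h5
  rw [← h]
  exact h6

/-- `Good l r` from an odd prime divisor of the order of `q` -/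
theorem good_of_od {l q r m s : ℕ} (hl : l.Prime) (hr : r.Prime) (hr2 : r ≠ 2) (h : od q r = m) (hm : 0 < m)
    (hs : s.Prime) (hs2 : s ≠ 2) (hsm : s ∣ m) : Good l r := by
  by_cases hl2 : l = 2
  · subst hl2
    exact good_two_of_dvd hs hs2 (hsm.trans (od_dvd_sub_one hr h hm))
  · exact good_of_odd hl hl2 hr hr2

theorem locChar_E6 {F : Type} [Field F] [Fintype F] {p : ℕ} [Fact p.Prime] [CharP F p] :
    Cfsg.Agent.BpLieP.Big.LocChar p ↥(chevE6.group F) := by
  haveI : IsSimpleGroup ↥(chevE6.group F) := (Cfsg.Agent.S1054.result chevE6 (by simp)).1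
  haveI : Finite ↥(chevE6.group F) := inferInstance
  apply Cfsg.Agent.H400.LieLocal.locChar_of_filt
  have h : Cfsg.IsExceptionalChevChar p ↥(chevE6.group F) :=
    ⟨F, inferInstance, inferInstance, inferInstance, Or.inr (Or.inr (Or.inl ⟨MulEquiv.refl _⟩))⟩
  exact Cfsg.Agent.KFacts.RgdLieCharP.hasFilt_of_lie (Or.inr (Or.inr (Or.inr (Or.inr (Or.inr (Or.inr (Or.inl h)))))))

theorem num_nine {q : ℕ} (hq : 2 ≤ q) : (q ^ 6 + q ^ 3) ^ 2 * (q ^ 6 + q ^ 3 + 1) ≤ (q ^ 10) ^ 2 := by
  obtain ⟨x, hx⟩ : ∃ x, x = q ^ 3 := ⟨_, rfl⟩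
  have h8 : 8 ≤ x := by
    rw [hx]
    calc 8 = 2 ^ 3 := by norm_num
      _ ≤ q ^ 3 := Nat.pow_le_pow_left hq 3
  have e1 : q ^ 6 = x ^ 2 := by rw [hx]; ring
  have e2 : (q ^ 10) ^ 2 = q ^ 2 * x ^ 6 := by rw [hx]; ring
  rw [e1, e2, ← hx]
  have h1 : (x ^ 2 + x) ^ 2 ≤ 2 * x ^ 4 := by
    have : (x ^ 2 + x) ^ 2 = x ^ 2 * (x + 1) ^ 2 := by ring
    rw [this]
    have h2 : (x + 1) ^ 2 ≤ 2 * x ^ 2 := by nlinarith only [h8]
    calc x ^ 2 * (x + 1) ^ 2 ≤ x ^ 2 * (2 * x ^ 2) := Nat.mul_le_mul_left _ h2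
      _ = 2 * x ^ 4 := by ring
  have h2 : x ^ 2 + x + 1 ≤ 2 * x ^ 2 := by nlinarith only [h8]
  have h3 : 4 ≤ q ^ 2 := by
    calc 4 = 2 ^ 2 := by norm_num
      _ ≤ q ^ 2 := Nat.pow_le_pow_left hq 2
  calc (x ^ 2 + x) ^ 2 * (x ^ 2 + x + 1) ≤ (2 * x ^ 4) * (2 * x ^ 2) := Nat.mul_le_mul h1 h2
    _ = 4 * x ^ 6 := by ring
    _ ≤ q ^ 2 * x ^ 6 := Nat.mul_le_mul_right _ h3

theorem num_twelve {q : ℕ} (hq : 2 ≤ q) : (q ^ 4) ^ 2 * (q + 1) ^ 6 ≤ (q ^ 10) ^ 2 := by
  have h1 : q + 1 ≤ q ^ 2 := by nlinarith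
  calc (q ^ 4) ^ 2 * (q + 1) ^ 6 ≤ (q ^ 4) ^ 2 * (q ^ 2) ^ 6 := Nat.mul_le_mul_left _ (Nat.pow_le_pow_left h1 6)
    _ = _ := by ring

/-- a prime factor of `q ^ 4 - q ^ 2 + 1` -/
theorem sub_one_le_twelve {q r : ℕ} (hr : r.Prime) (h : od q r = 12) : r - 1 ≤ q ^ 4 := by
  have h1 := dvd12 hr h
  rw [pv12] at h1
  have h2 : ((q : ℤ) ^ 4 - (q : ℤ) ^ 2 + 1) > 0 := by nlinarith only [sq_nonneg ((q : ℤ) ^ 2 - 1), sq_nonneg (q : ℤ)]
  have h3 := Int.le_of_dvd h2 h1
  have h4 : (r : ℤ) - 1 ≤ (q : ℤ) ^ 4 := by linarith only [h3, sq_nonneg (q : ℤ)]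
  have h5 := hr.one_lt
  zify [h5.le]
  exact h4

/-- **The row of `E₆(q)`.** -/
theorem row_E6 {F : Type} [Field F] [Fintype F] : Row ↥(Cfsg.Lie.chevE6.group F) := by
  classical
  haveI hs : IsSimpleGroup ↥(chevE6.group F) := (Cfsg.Agent.S1054.result chevE6 (by simp)).1
  haveI : Finite ↥(chevE6.group F) := inferInstance
  let cs : CoxeterSystem CoxeterMatrix.E₆ CoxeterMatrix.E₆.Group := CoxeterMatrix.E₆.toCoxeterSystem
  haveI := finite_W hpE6 cs
  obtain ⟨p, hp⟩ := CharP.exists F
  haveI : Fact p.Prime := ⟨CharP.char_is_prime F p⟩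
  obtain ⟨n, -, hn⟩ := FiniteField.card F p
  have hq : Nat.card F = Fintype.card F := Nat.card_eq_fintype_card
  have hpq : p ∣ Fintype.card F := by rw [hn]; exact dvd_pow_self _ n.ne_zero
  have hq2 : 2 ≤ Fintype.card F := Fintype.one_lt_card
  refine row_of 0 0 fun r hr hr2 hd _ _ => ?_
  haveI : Fact r.Prime := ⟨hr⟩
  rcases od_E6 hr hd with h | h | h | h | h | h | h | h | h | h
  · exact ParE6.not_may_self_E6 hr hr2 (by rw [← hq]; exact h)
  · exact ParE6.not_may_small hr hr2 (by (clear * - h; tauto))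
  · exact ParE6.not_may_small hr hr2 (by (clear * - h; (solve | repeat (first | with_reducible assumption | exact Or.inl (by with_reducible assumption) | refine Or.inr ?_) | tauto)))
  · exact ParE6.not_may_small hr hr2 (by (clear * - h; tauto))
  · exact ParE6.not_may_small hr hr2 (by (clear * - h; (solve | repeat (first | with_reducible assumption | exact Or.inl (by with_reducible assumption) | refine Or.inr ?_) | tauto)))
  · exact ParE6.not_may_small hr hr2 (by (clear * - h; (solve | repeat (first | with_reducible assumption | exact Or.inl (by with_reducible assumption) | refine Or.inr ?_) | tauto)))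
  · exact ParE6.not_may_small hr hr2 (by (clear * - h; (solve | repeat (first | with_reducible assumption | exact Or.inl (by with_reducible assumption) | refine Or.inr ?_) | tauto)))
  · exact ParE6.not_may_small hr hr2 (by (clear * - h; (solve | repeat (first | with_reducible assumption | exact Or.inl (by with_reducible assumption) | refine Or.inr ?_) | tauto)))
  · -- `9`
    intro hM
    obtain ⟨x, hx⟩ := exists_prime_orderOf_dvd_card' r hd
    have h1 := hM.lt_of_minDeg' hr hr2 minDeg_E6 hx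
    have h5 := (Cfsg.Agent.H378.RegFin.cent_od hpE6 inv_E6 three_ne_zero hr hx h (by decide)
      (by norm_num)).2
    have h6 : (Polynomial.cyclotomic 9 ℤ).eval ((Nat.card F : ℕ) : ℤ) =
        ((Fintype.card F ^ 6 + Fintype.card F ^ 3 + 1 : ℕ) : ℤ) := by
      have := Cfsg.Agent.H371.CycEval.ev9 ((Nat.card F : ℕ) : ℤ)
      rw [hq] at this ⊢
      push_cast
      exact this
    rw [h6, Int.natAbs_natCast] at h5
    have h7 : _ ≤ Fintype.card F ^ 6 + Fintype.card F ^ 3 + 1 := Nat.le_of_dvd (Nat.succ_pos _) h5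
    have h8 : r - 1 ≤ Fintype.card F ^ 6 + Fintype.card F ^ 3 := by
      have h9 := dvd9 hr h
      rw [pv9, hq] at h9
      have h10 : r ∣ Fintype.card F ^ 6 + Fintype.card F ^ 3 + 1 := by exact_mod_cast h9
      have := Nat.le_of_dvd (Nat.succ_pos _) h10
      omega
    have h9 := Nat.mul_le_mul (Nat.pow_le_pow_left h8 2) h7
    have h10 := num_nine hq2
    omega
  · -- `12`
    obtain ⟨x, hx⟩ := exists_prime_orderOf_dvd_card' r hd
    have hrp : r ≠ p := by
      rintro rfl
      exact Cfsg.Agent.H378.RegFin.not_dvd_q hr h (by norm_num) (by rw [hq]; exact hpq)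
    have h13 : 7 < r := by
      have h1 := od_dvd_sub_one hr h (by norm_num)
      have h2 := hr.two_le
      have := Nat.le_of_dvd (by omega) h1
      omega
    rcases Cent.adj_or_bound_untw hpE6 cs inv_E6 three_ne_zero (F := F) (p := p) Fact.out (by rw [hq]; exact hpq) hr hrp
      hx h13 with ⟨v, hv, hc⟩ | hb
    · exact not_may_of_adj hr2 (good_of_od (s := 3) Fact.out hr hr2 h (by norm_num) Nat.prime_three (by norm_num)
        (by norm_num)) locChar_E6 ⟨hr, Fact.out, hrp, x, v, hx, hv, hc.symm⟩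
    · intro hM
      have h1 := hM.lt_of_minDeg' hr hr2 minDeg_E6 hx
      have h8 := sub_one_le_twelve hr h
      rw [hq] at h8 hb
      have h9 := Nat.mul_le_mul (Nat.pow_le_pow_left h8 2) hb
      have h10 := num_twelve hq2
      omega

end Cfsg.Agent.H631.Fpf
end

-- part: H631/Fpf/RowTwE6
section
/-!
# The row of `²E₆(q)` (for S4228, helper631)

`row_2E6` : at most two primes; in fact none for `q > 2` and at most `13`, `19` for `q = 2`.
-/

set_option autoImplicit false
set_option linter.unusedSectionVars false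
set_option linter.style.haveILetI false

namespace Cfsg.Agent.H631.Fpf

open CoxeterSystem Cfsg.Agent.ChevalleyStructure.CoxeterGeom Cfsg.Agent.Tits.Roots Cfsg.Agent.Nodes.BNOf
open Cfsg.Lie Cfsg.Agent.Nodes.LeviDec
open Cfsg.Agent.H80.Fpf Cfsg.Agent.H378.ExcAdj Cfsg.Agent.H378.CycTab Cfsg.Agent.H493.PGTorus
open Cfsg.Agent.ChevalleyStructure.TwE6Basic (exists_frob)

theorem num_eighteen {q : ℕ} : (q ^ 6) ^ 2 * q ^ 6 ≤ (q ^ 10) ^ 2 := by
  rcases Nat.eq_zero_or_pos q with rfl | h
  · norm_num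
  · calc (q ^ 6) ^ 2 * q ^ 6 = q ^ 18 := by ring
      _ ≤ q ^ 20 := Nat.pow_le_pow_right h (by norm_num)
      _ = _ := by ring

section

variable {K : Type} [Field K] [Fintype K] {q : ℕ} (hq : IsPrimePow q) (hK : Fintype.card K = q ^ 2)

include hq hK

/-- the primes dividing `q⁴ + 1` -/
theorem not_may_eight_2E6 {p : ℕ} [Fact p.Prime] [CharP K p] (hpq : p ∣ q) {r : ℕ} (hr : r.Prime) (hr2 : r ≠ 2)
    (h : od q r = 8) : ¬ May r ↥(twistedE6 K q) := by
  obtain ⟨φ, hφ, hqq⟩ := exists_frob hq hK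
  by_cases hp2 : p = 2
  · subst hp2
    exact EightTw.not_may_eight_two hφ hqq hq.one_lt hK hq hr hr2 h
  · haveI hs : IsSimpleGroup ↥(twistedE6 K q) := (Cfsg.Agent.S1070.result hq hK).1
    haveI hfin : Finite CoxeterMatrix.F₄.Group := Cfsg.Agent.Nodes.RGDFold.finite_W (hp := Cfsg.Agent.Nodes.RGDTwE6.hp)
      CoxeterMatrix.F₄.toCoxeterSystem Cfsg.Agent.Nodes.RGDTwE6.isCartan Cfsg.Agent.Nodes.RGDTwE6.foldData
    refine not_may_par (Cfsg.Agent.Nodes.RGDTwE6.rgd CoxeterMatrix.F₄.toCoxeterSystem hφ hqq p)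
      (J := {j | j ∈ ([0, 1, 2] : List (Fin 4))}) ⟨3, by decide⟩ hr hr2 ?_ (good_of_odd Fact.out hp2 hr hr2)
      (EightTw.locChar_2E6 hq hK) (EightTw.dvd_P012 (p := p) hφ hqq hq.one_lt hK hr h)
    rintro rfl
    exact Cfsg.Agent.H378.RegFin.not_dvd_q hr h (by norm_num) hpq

theorem not_may_adj_2E6 {p : ℕ} [Fact p.Prime] [CharP K p] (hpq : p ∣ q) {r : ℕ} (hr : r.Prime) (hr2 : r ≠ 2)
    (h : od q r = 3 ∨ od q r = 4 ∨ od q r = 6 ∨ od q r = 10) : ¬ May r ↥(twistedE6 K q) := by
  haveI hs : IsSimpleGroup ↥(twistedE6 K q) := (Cfsg.Agent.S1070.result hq hK).1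
  have h3 : r ≠ 3 := by
    rintro rfl
    rcases h with h | h | h | h <;>
    · have h1 := Nat.le_of_dvd (by norm_num) (od_dvd_sub_one hr h (by norm_num))
      omega
  have hadj := AdjTw.adj_small hq hK (p := p) Fact.out hpq hr h3 (by
    rcases h with h | h | h | h
    · have := dvd3 hr h; rw [pv3] at this; (solve | repeat (first | with_reducible assumption | exact Or.inl (by with_reducible assumption) | refine Or.inr ?_) | tauto)
    · have := dvd4 hr h; rw [pv4] at this; (clear * - this; tauto)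
    · have := dvd6 hr h; rw [pv6] at this; (clear * - this; (solve | repeat (first | with_reducible assumption | exact Or.inl (by with_reducible assumption) | refine Or.inr ?_) | tauto))
    · have := dvd10 hr h; rw [pv10] at this; (clear * - this; (solve | repeat (first | with_reducible assumption | exact Or.inl (by with_reducible assumption) | refine Or.inr ?_) | tauto)))
  by_cases h4 : p = 2 ∧ od q r = 4
  · obtain ⟨rfl, h4⟩ := h4
    exact EmbF4.not_may_F4 hq hK hr hr2 (by (clear * - h4; (solve | repeat (first | with_reducible assumption | exact Or.inl (by with_reducible assumption) | refine Or.inr ?_) | tauto)))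
  · refine not_may_of_adj hr2 ?_ (EightTw.locChar_2E6 (p := p) hq hK) hadj
    rcases h with h | h | h | h
    · exact good_of_od (s := 3) Fact.out hr hr2 h (by norm_num) Nat.prime_three (by norm_num) (by norm_num)
    · exact good_of_odd Fact.out (fun h5 => h4 ⟨h5, h⟩) hr hr2
    · exact good_of_od (s := 3) Fact.out hr hr2 h (by norm_num) Nat.prime_three (by norm_num) (by norm_num)
    · exact good_of_od (s := 5) Fact.out hr hr2 h (by norm_num) Nat.prime_five (by norm_num) (by norm_num)

/-- the primes dividing `q⁴ - q² + 1`, `q > 2` -/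
theorem not_may_twelve_2E6 (h2 : q ≠ 2) {p : ℕ} [Fact p.Prime] [CharP K p] (hpq : p ∣ q) {r : ℕ} (hr : r.Prime)
    (hr2 : r ≠ 2) (hd : r ∣ Nat.card ↥(twistedE6 K q)) (h : od q r = 12) : ¬ May r ↥(twistedE6 K q) := by
  haveI hs : IsSimpleGroup ↥(twistedE6 K q) := (Cfsg.Agent.S1070.result hq hK).1
  haveI : Fact r.Prime := ⟨hr⟩
  obtain ⟨x, hx⟩ := exists_prime_orderOf_dvd_card' r hd
  have hrp : r ≠ p := by
    rintro rfl
    exact Cfsg.Agent.H378.RegFin.not_dvd_q hr h (by norm_num) hpq
  have h13 : 7 < r := by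
    have h1 := od_dvd_sub_one hr h (by norm_num)
    have h2 := hr.two_le
    have := Nat.le_of_dvd (by omega) h1
    omega
  rcases Cent.adj_or_bound_2E6 hq hK (p := p) Fact.out hpq (x := x) (by rw [hx]; exact hr) (by rw [hx]; exact hrp)
    (by rw [hx]; exact h13) with ⟨v, hv, hc⟩ | hb
  · exact not_may_of_adj hr2 (good_of_od (s := 3) Fact.out hr hr2 h (by norm_num) Nat.prime_three (by norm_num)
      (by norm_num)) (EightTw.locChar_2E6 (p := p) hq hK) ⟨hr, Fact.out, hrp, x, v, hx, hv, hc.symm⟩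
  · intro hM
    have h1 := hM.lt_of_minDeg' hr hr2 (minDeg_2E6 hq hK hs h2) hx
    have h8 := sub_one_le_twelve hr h
    have h9 := Nat.mul_le_mul (Nat.pow_le_pow_left h8 2) hb
    have h10 := num_twelve hq.two_le
    omega

/-- the primes dividing `q⁶ - q³ + 1`, `q > 2` -/
theorem not_may_eighteen_2E6 (h2 : q ≠ 2) {r : ℕ} (hr : r.Prime)
    (hr2 : r ≠ 2) (hd : r ∣ Nat.card ↥(twistedE6 K q)) (h : od q r = 18) : ¬ May r ↥(twistedE6 K q) := by
  haveI hs : IsSimpleGroup ↥(twistedE6 K q) := (Cfsg.Agent.S1070.result hq hK).1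
  haveI : Fact r.Prime := ⟨hr⟩
  obtain ⟨x, hx⟩ := exists_prime_orderOf_dvd_card' r hd
  intro hM
  have h1 := hM.lt_of_minDeg' hr hr2 (minDeg_2E6 hq hK hs h2) hx
  have h5 := (Cfsg.Agent.H378.TwRows.cent_2E6 hq hK hr hx h).2
  rw [Cfsg.Agent.H378.TwRows.eval_cyc18] at h5
  have hq3 : 1 ≤ q ^ 3 := Nat.one_le_pow _ _ hq.pos
  have hq6 : q ^ 6 = q ^ 3 * q ^ 3 := by ring
  have hle : q ^ 3 ≤ q ^ 6 := by rw [hq6]; exact Nat.le_mul_of_pos_left _ hq3
  have e : (q : ℤ) ^ 6 - (q : ℤ) ^ 3 + 1 = ((q ^ 6 - q ^ 3 + 1 : ℕ) : ℤ) := by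
    push_cast [Nat.cast_sub hle]; ring
  rw [e, Int.natAbs_natCast] at h5
  have h7 : _ ≤ q ^ 6 - q ^ 3 + 1 := Nat.le_of_dvd (Nat.succ_pos _) h5
  have h8 : r - 1 ≤ q ^ 6 := by
    have h9 := dvd18 hr h
    rw [pv18, e] at h9
    have h10 := Nat.le_of_dvd (Nat.succ_pos _) (Int.natCast_dvd_natCast.1 h9)
    omega
  have h9 := Nat.mul_le_mul (Nat.pow_le_pow_left h8 2) 
    (show Nat.card ↥(Subgroup.centralizer ({x} : Set ↥(twistedE6 K q))) ≤ q ^ 6 by omega)
  have h10 := num_eighteen (q := q)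
  omega

/-- **The row of `²E₆(q)`.** -/
theorem row_2E6 : Row ↥(Cfsg.Lie.twistedE6 K q) := by
  obtain ⟨p, hp⟩ := CharP.exists K
  haveI : Fact p.Prime := ⟨CharP.char_is_prime K p⟩
  obtain ⟨n, -, hn⟩ := FiniteField.card K p
  have hpq : p ∣ q := by
    have h1 : p ∣ q ^ 2 := by rw [← hK, hn]; exact dvd_pow_self _ n.ne_zero
    exact (Fact.out : p.Prime).dvd_of_dvd_pow h1
  refine row_of 13 19 fun r hr hr2 hd h13 h19 => ?_
  rcases AdjTw.od_2E6 hq hK hr hr2 hd with h | h | h | h | h | h | h | h | h | h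
  · exact AdjTw.not_may_small hq hK hr hr2 (dvd_mul_of_dvd_left h _)
  · exact AdjTw.not_may_small hq hK hr hr2 (dvd_mul_of_dvd_right (dvd_of_od_dvd hq.one_lt.le (by rw [h]; norm_num)) _)
  · exact AdjTw.not_may_small hq hK hr hr2 (dvd_mul_of_dvd_right (dvd_of_od_dvd hq.one_lt.le (by rw [h])) _)
  · exact not_may_adj_2E6 hq hK hpq hr hr2 (by (clear * - q r h; tauto))
  · exact not_may_adj_2E6 hq hK hpq hr hr2 (by (clear * - h; (solve | repeat (first | with_reducible assumption | exact Or.inl (by with_reducible assumption) | refine Or.inr ?_) | tauto)))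
  · exact not_may_adj_2E6 hq hK hpq hr hr2 (by (clear * - h; tauto))
  · exact not_may_eight_2E6 hq hK hpq hr hr2 h
  · exact not_may_adj_2E6 hq hK hpq hr hr2 (by (clear * - h; tauto))
  · by_cases h2 : q = 2
    · exfalso
      have h1 := dvd12 hr h
      rw [pv12, h2] at h1
      have h4 : r ∣ 13 := Int.natCast_dvd_natCast.1 (by norm_num at h1 ⊢; exact h1)
      exact h13 ((Nat.prime_dvd_prime_iff_eq hr (by norm_num)).1 h4)
    · exact not_may_twelve_2E6 hq hK h2 hpq hr hr2 hd h
  · by_cases h2 : q = 2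
    · exfalso
      have h1 := dvd18 hr h
      rw [pv18, h2] at h1
      have h4 : r ∣ 3 * 19 := Int.natCast_dvd_natCast.1 (by norm_num at h1 ⊢; exact h1)
      rcases hr.dvd_mul.1 h4 with h4 | h4
      · have h5 := (Nat.prime_dvd_prime_iff_eq hr Nat.prime_three).1 h4
        subst h5
        have h6 := Nat.le_of_dvd (by norm_num) (od_dvd_sub_one hr h (by norm_num))
        omega
      · exact h19 ((Nat.prime_dvd_prime_iff_eq hr (by norm_num)).1 h4)
    · exact not_may_eighteen_2E6 hq hK h2 hr hr2 hd h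

end

end Cfsg.Agent.H631.Fpf
end

-- part: H701/Fpf3D4
section
/-!
# `³D₄(q)`: at most two fixed-point-free primes (helper701, for S4228)

* `row_3D4` : `Row (³D₄(q))`; in fact at most the prime `q^4 - q^2 + 1`, and this only for `q ≤ 5`.
-/

set_option autoImplicit false
set_option linter.style.haveILetI false
set_option linter.unusedSectionVars false

namespace Cfsg.Agent.H701.Fpf3D4

open Cfsg Cfsg.Lie Matrix
open Cfsg.Agent.H80.Fpf Cfsg.Agent.H701.FpfTwo Cfsg.Agent.H343 Cfsg.Agent.ETable.Exc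
open Cfsg.Agent.H378.ExcAdj Cfsg.Agent.H378.TwAdj Cfsg.Agent.H378.TwRows
open Cfsg.Agent.H493.PGTorus Cfsg.Agent.H493.PGCyc Cfsg.Agent.H129.WData
open Cfsg.Agent.ChevalleyStructure

section

variable {K : Type} [Field K] [Fintype K] {q : ℕ} (hq : IsPrimePow q) (hK : Fintype.card K = q ^ 3)

include hq hK

/-- the primes dividing `q (q^2 - 1)` -/
theorem not_may_small {r : ℕ} (hr : r.Prime) (hr2 : r ≠ 2) (h : r ∣ q * (q ^ 2 - 1)) :
    ¬ May r ↥(twistedD4 K q) := by
  obtain ⟨φ, hφ⟩ := Cfsg.Agent.ChevalleyStructure.D4Fixed.exists_frob (K := K) hq hK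
  obtain ⟨k, _, _, ι, hk, hι⟩ := exists_subfield K hq three_ne_zero hK
  have hφι : ∀ t, φ (ι t) = ι t := fun t => by rw [hφ, hι]
  have hR : RootIn inList_D4 ι (twistedD4 K q) 23 :=
    ⟨Tri.l23, fun t => by rw [Tri.xG_eq']; exact Tri.mem_23 hφ (hφι t),
      fun t => by
        rw [Tri.xG_eq', D4NConj.neg_eq (by norm_num)]; exact Tri.mem_0 hφ (hφι t)⟩
  let g : SpecialLinearGroup (Fin 2) K →* twistedD4 K q :=
    (Tri.shHom φ).codRestrict (twistedD4 K q) (Tri.shHom_mem hφ)
  refine not_may_of_two hR.hom g (fun _ => hR.ker) ?_ ?_ hr hr2 ?_ ?_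
  · intro x hx
    exact Tri.shHom_ker φ (congrArg Subtype.val hx)
  · intro a b
    apply Subtype.ext
    change rootHom₀ inList_D4 ι hR.lt a * Tri.sh φ b = Tri.sh φ b * rootHom₀ inList_D4 ι hR.lt a
    have c1 : Commute (rootHom₀ inList_D4 ι hR.lt a) (rootHom₀ inList_D4 (RingHom.id K) Tri.l18 b) :=
      Tri.rootHom₀_comm ι (RingHom.id K) _ _ Tri.so_23_18 a b
    have c2 : Commute (rootHom₀ inList_D4 ι hR.lt a) (rootHom₀ inList_D4 φ Tri.l13 b) :=
      Tri.rootHom₀_comm ι φ _ _ Tri.so_23_13 a b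
    have c3 : Commute (rootHom₀ inList_D4 ι hR.lt a) (rootHom₀ inList_D4 (φ.comp φ) Tri.l12 b) :=
      Tri.rootHom₀_comm ι (φ.comp φ) _ _ Tri.so_23_12 a b
    exact (c1.mul_right (c2.mul_right c3)).eq
  · rw [Cfsg.Agent.ClassicalGeometry.PSL2Basic.card_SL2, hk]; exact h
  · rw [Cfsg.Agent.ClassicalGeometry.PSL2Basic.card_SL2, hK]
    rcases (hr.dvd_mul).1 h with h | h
    · exact dvd_mul_of_dvd_left (dvd_pow h three_ne_zero) _
    · refine dvd_mul_of_dvd_right (h.trans ?_) _
      have h1 : (q ^ 3) ^ 2 - 1 = (q ^ 2) ^ 3 - 1 ^ 3 := by rw [← pow_mul, ← pow_mul, one_pow]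
      rw [h1]
      exact Nat.sub_dvd_pow_sub_pow _ _ 3

theorem locChar {p : ℕ} (hp : p.Prime) (hpq : p ∣ q) :
    Cfsg.Agent.BpLieP.Big.LocChar p ↥(twistedD4 K q) := by
  haveI : Fact p.Prime := ⟨hp⟩
  haveI := (Cfsg.Agent.S1071.result hq hK).1
  obtain ⟨p', hp'⟩ := CharP.exists K
  obtain ⟨n, hpp, hn⟩ := FiniteField.card K p'
  have h1 : p = p' := by
    have h2 : p ∣ p' ^ (n : ℕ) := by
      rw [← hn, hK]; exact dvd_pow hpq three_ne_zero
    exact (Nat.prime_dvd_prime_iff_eq hp hpp).1 (hp.dvd_of_dvd_pow h2)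
  subst h1
  have h2 : IsTwistedE6D4Char p ↥(twistedD4 K q) :=
    ⟨K, inferInstance, inferInstance, hp', q, hq, Or.inr ⟨hK, ⟨MulEquiv.refl _⟩⟩⟩
  exact Cfsg.Agent.H400.LieLocal.locChar_of_filt (KFacts.RgdLieCharP.hasFilt_of_lie
      (Or.inr (Or.inr (Or.inr (Or.inr (Or.inr (Or.inr (Or.inr h2))))))))

theorem minDeg : MinDeg ↥(twistedD4 K q) (q * (q ^ 4 - q ^ 2 + 1)) := by
  have hsi := Cfsg.Agent.S1071.result hq hK
  haveI := hsi.1
  have hperf : commutator ↥(twistedD4 K q) = ⊤ := by
    by_contra hcon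
    apply hsi.2
    refine ⟨⟨?_⟩⟩
    by_contra hcon2
    push Not at hcon2
    obtain ⟨a, b, hab⟩ := hcon2
    exact hcon (perfect_of_simple hab)
  refine minDeg_of_mult_one hperf (multDvd_of_cyclic one_ne_zero (Cfsg.Agent.S2110.result hq hK)) ?_
  intro d ρ hρ hd
  exact Cfsg.Agent.S2342.result q hq hK d ρ hρ hd

end

/-- `q^2 + q + 1` or `q^2 - q + 1` divisible by `r ≠ 3`: `3 ∣ r - 1` -/
theorem three_dvd {r : ℕ} (hr : r.Prime) (h3 : r ≠ 3) {y : ZMod r} (h : y ^ 2 + y + 1 = 0) : 3 ∣ r - 1 := by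
  haveI : Fact r.Prime := ⟨hr⟩
  have h1 : y ^ 3 = 1 := by linear_combination (y - 1) * h
  have h2 : y ≠ 1 := by
    rintro rfl
    have h4 : ((3 : ℕ) : ZMod r) = 0 := by push_cast; linear_combination h
    rw [ZMod.natCast_eq_zero_iff] at h4
    exact h3 ((Nat.prime_dvd_prime_iff_eq hr Nat.prime_three).1 h4)
  have h5 : y ≠ 0 := by
    rintro rfl
    rw [zero_pow three_ne_zero] at h1
    exact zero_ne_one h1
  haveI : Fact (Nat.Prime 3) := ⟨Nat.prime_three⟩
  rw [← orderOf_eq_prime h1 h2]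
  exact ZMod.orderOf_dvd_card_sub_one h5

theorem three_dvd_mul (q : ℕ) : 3 ∣ q * (q ^ 2 - 1) := by
  rcases Nat.eq_zero_or_pos q with rfl | hq
  · simp
  have h1 : 1 ≤ q ^ 2 := Nat.one_le_pow _ _ hq
  have h2 : q % 3 = 0 ∨ q % 3 = 1 ∨ q % 3 = 2 := by omega
  rcases h2 with h2 | h2 | h2
  · exact dvd_mul_of_dvd_left (Nat.dvd_of_mod_eq_zero h2) _
  · refine dvd_mul_of_dvd_right ?_ _
    have h3 : q ^ 2 % 3 = 1 := by rw [Nat.pow_mod, h2]
    omega
  · refine dvd_mul_of_dvd_right ?_ _
    have h3 : q ^ 2 % 3 = 1 := by rw [Nat.pow_mod, h2]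
    omega

theorem card_idx : Fintype.card chevD4.Idx = 28 := by decide +kernel

section

variable {K : Type} [Field K] [Fintype K] {q : ℕ} (hq : IsPrimePow q) (hK : Fintype.card K = q ^ 3)

include hq hK

theorem not_may_twelve (h6 : 6 ≤ q) {r : ℕ} (hr : r.Prime) (hr2 : r ≠ 2)
    (hd : r ∣ Nat.card ↥(twistedD4 K q)) (h : od q r = 12) : ¬ May r ↥(twistedD4 K q) := by
  intro hM
  haveI : Fact r.Prime := ⟨hr⟩
  obtain ⟨x, hx⟩ := exists_prime_orderOf_dvd_card' r hd
  have hrF : ¬ r ∣ Fintype.card K := by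
    rw [hK]
    intro h1
    exact Cfsg.Agent.H378.RegFin.not_dvd_q hr h (by norm_num) (hr.dvd_of_dvd_pow h1)
  have hle : q ^ 2 ≤ q ^ 4 := Nat.pow_le_pow_right (by omega) (by norm_num)
  have hC : Nat.card ↥(Subgroup.centralizer ({x} : Set ↥(twistedD4 K q))) ≤ q ^ 4 - q ^ 2 + 1 := by
    have h1 := (cent_3D4 hq hK hr hx h).2
    rw [eval_cyc12] at h1
    have h2 : ((q : ℤ) ^ 4 - (q : ℤ) ^ 2 + 1).natAbs = q ^ 4 - q ^ 2 + 1 := by
      have : ((q : ℤ) ^ 4 - (q : ℤ) ^ 2 + 1) = ((q ^ 4 - q ^ 2 + 1 : ℕ) : ℤ) := by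
        push_cast [Nat.cast_sub hle]; ring
      rw [this, Int.natAbs_natCast]
    rw [h2] at h1
    exact Nat.le_of_dvd (by positivity) h1
  have hrC : r ≤ q ^ 4 - q ^ 2 + 1 := by
    refine le_trans ?_ hC
    have h1 : r ∣ Nat.card ↥(Subgroup.centralizer ({x} : Set ↥(twistedD4 K q))) := by
      have h2 : x ∈ Subgroup.centralizer ({x} : Set ↥(twistedD4 K q)) := Subgroup.mem_centralizer_singleton_iff.2 rfl
      rw [← hx, ← Subgroup.orderOf_mk x h2]
      exact orderOf_dvd_natCard _
    exact Nat.le_of_dvd Nat.card_pos h1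
  have hN := card_normalizer_le (twistedD4 K q).subtype (Subgroup.subtype_injective _) hr hx
    (FpfG2.ne_zero hr hrF)
  rw [card_idx] at hN
  have h1 := hM.lt_of_minDeg hr hr2 (minDeg hq hK) hx
  have hr1 := hr.two_le
  generalize q ^ 4 - q ^ 2 + 1 = Φ at *
  generalize Nat.card ↥(Subgroup.normalizer ((Subgroup.zpowers x : Subgroup ↥(twistedD4 K q)) : Set ↥(twistedD4 K q))) = N at *
  generalize Nat.card ↥(Subgroup.centralizer ({x} : Set ↥(twistedD4 K q))) = C at *
  have h2 : (r - 1) * N ≤ Φ * (28 * Φ) :=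
    Nat.mul_le_mul (by omega) (hN.trans (Nat.mul_le_mul_left _ hC))
  have h3 : Φ * (28 * Φ) ≤ (q * Φ) ^ 2 := by
    have h4 : 28 ≤ q * q := by nlinarith only [h6]
    calc Φ * (28 * Φ) = 28 * (Φ * Φ) := by ring
      _ ≤ (q * q) * (Φ * Φ) := Nat.mul_le_mul_right _ h4
      _ = (q * Φ) ^ 2 := by ring
  omega

open Cfsg.Agent.H493.PGD4T in
/-- **`³D₄(q)`.** -/
theorem row_3D4 : Row ↥(Cfsg.Lie.twistedD4 K q) := by
  haveI := (Cfsg.Agent.S1071.result hq hK).1
  refine row_of (q ^ 4 - q ^ 2 + 1) (q ^ 4 - q ^ 2 + 1) fun r hr hr2 hd ha _ => ?_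
  have hd0 := hd
  obtain ⟨p, n, hp, hn, hpn⟩ := id hq
  have hp := hp.nat_prime
  have hpq : p ∣ q := hpn ▸ dvd_pow_self p hn.ne'
  have h2q : 2 ≤ q := hq.two_le
  have hne : ∀ {f : ℕ} {c : Fin (f + 1) → ℤ}, (c 0 = 1 ∨ c 0 = -1) → (r : ℤ) ∣ pv c (q : ℤ) → r ≠ p := by
    intro f c hc h
    rw [← hpn] at h
    exact Cfsg.Agent.H493.PGTwist.ne_char hc hp hn h
  have hgood : 3 ∣ r - 1 → Good p r := by
    intro h
    by_cases h2 : p = 2
    · rw [h2]
      exact good_two_of_dvd Nat.prime_three (by norm_num) h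
    · exact good_of_odd hp h2 hr hr2
  have h1q : 1 ≤ q ^ 2 := Nat.one_le_pow _ _ (by omega)
  rw [Cfsg.Agent.S1067.result hq hK] at hd
  rcases cover h2q hr hd with (h | h | h | h | h) | h
  · exact not_may_small hq hK hr hr2 (dvd_mul_of_dvd_left h _)
  · refine not_may_small hq hK hr hr2 (dvd_mul_of_dvd_right ?_ _)
    rw [pv_c1] at h
    rw [← Int.natCast_dvd_natCast, Nat.cast_sub h1q]
    refine h.trans ⟨(q : ℤ) + 1, by push_cast; ring⟩
  · refine not_may_small hq hK hr hr2 (dvd_mul_of_dvd_right ?_ _)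
    rw [pv_c2] at h
    rw [← Int.natCast_dvd_natCast, Nat.cast_sub h1q]
    refine h.trans ⟨(q : ℤ) - 1, by push_cast; ring⟩
  · by_cases h3 : r = 3
    · apply not_may_small hq hK hr hr2
      rw [h3]
      exact three_dvd_mul q
    · have hA : Cfsg.Agent.H94.PG.Adj ↥(twistedD4 K q) r p :=
        (pairD_p hq hK chainA_ok hThA eigA_3 (by decide) (by decide) fixA vanA_3 hr hp h hpq).adj hr hp
          (hne (by decide) h)
      refine not_may_of_adj hr2 (hgood (three_dvd hr h3 (y := (q : ZMod r)) ?_)) (locChar hq hK hp hpq) hA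
      rw [pv_c3] at h
      have := (ZMod.intCast_zmod_eq_zero_iff_dvd _ r).2 h
      push_cast at this
      exact this
  · by_cases h3 : r = 3
    · apply not_may_small hq hK hr hr2
      rw [h3]
      exact three_dvd_mul q
    · have hA : Cfsg.Agent.H94.PG.Adj ↥(twistedD4 K q) r p :=
        (pairD_p hq hK chainB_ok hThB eigB_6 (by decide) (by decide) fixB vanB_6 hr hp h hpq).adj hr hp
          (hne (by decide) h)
      refine not_may_of_adj hr2 (hgood (three_dvd hr h3 (y := -(q : ZMod r)) ?_)) (locChar hq hK hp hpq) hA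
      rw [pv_c6] at h
      have := (ZMod.intCast_zmod_eq_zero_iff_dvd _ r).2 h
      push_cast at this
      linear_combination this
  · have h12 := od_of_c12 hr h
    rcases Nat.lt_or_ge q 6 with h6 | h6
    · exfalso
      apply ha
      rw [pv_c12] at h
      have h4 : q ^ 2 ≤ q ^ 4 := Nat.pow_le_pow_right (by omega) (by norm_num)
      have h5 : r ∣ q ^ 4 - q ^ 2 + 1 := by
        rw [← Int.natCast_dvd_natCast]
        push_cast [Nat.cast_sub h4]
        exact h
      have h7 : (q ^ 4 - q ^ 2 + 1).Prime := by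
        have : q = 2 ∨ q = 3 ∨ q = 4 ∨ q = 5 := by omega
        rcases this with rfl | rfl | rfl | rfl <;> norm_num
      exact (Nat.prime_dvd_prime_iff_eq hr h7).1 h5
    · exact not_may_twelve hq hK h6 hr hr2 hd0 h12

end

end Cfsg.Agent.H701.Fpf3D4
end

-- part: H111/Fpf/SevenRow
section
/-!
# The row `E₇(q)`: no odd prime divisor `r` of `|E₇(q)|` has `May r`
-/

set_option autoImplicit false
set_option linter.unusedSectionVars false

namespace Cfsg.Agent.H111.Fpf

open Cfsg Cfsg.Lie Cfsg.Agent.H378.ExcAdj Cfsg.Agent.H378 Cfsg.Agent.H80.Fpf Cfsg.Agent.H111.Fpf.SevenPar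
  Cfsg.Agent.H111.Fpf.SevenRad Cfsg.Agent.H378.CycTab Cfsg.Agent.BpExc.RowsUntw Cfsg.Agent.BpExc.FamInst
  Cfsg.Agent.H378.AdjTab

variable (F : Type) [Field F] [Fintype F]

/-- the numerical exclusion -/
theorem not_may_torus {r N : ℕ} (hr : r.Prime) (hr2 : r ≠ 2) (hN : r ∣ N) (hN0 : 0 < N) (hNq : N ≤ Nat.card F ^ 6)
    (T : Subgroup ↥(chevE7.group F)) (h1 : Nat.card ↥T ∣ (Nat.card F + 1) * N)
    (h2 : (Nat.card F + 1) * N ∣ 2 * Nat.card ↥T)
    (h3 : ∀ y ∈ T, orderOf y = r → Subgroup.centralizer {y} ≤ T) : ¬ May r ↥(chevE7.group F) := by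
  intro h
  have hfr : Fact r.Prime := ⟨hr⟩
  have hq : 2 ≤ Nat.card F := Finite.one_lt_card
  have hd : r ∣ Nat.card ↥T := by
    have h4 : r ∣ 2 * Nat.card ↥T := (hN.trans (Dvd.intro_left _ rfl)).trans h2
    rcases hr.dvd_mul.1 h4 with h5 | h5
    · exact absurd ((Nat.prime_dvd_prime_iff_eq hr Nat.prime_two).1 h5) hr2
    · exact h5
  obtain ⟨y, hy⟩ := exists_prime_orderOf_dvd_card' r hd
  have hy' : orderOf (y : ↥(chevE7.group F)) = r := by rw [Subgroup.orderOf_coe, hy]
  have h4 := h.lt_of_minDeg' hr hr2 (SevenMin.minDeg F) hy'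
  rw [← Nat.card_eq_fintype_card] at h4
  have h5 : Nat.card (Subgroup.centralizer ({(y : ↥(chevE7.group F))} : Set ↥(chevE7.group F))) ≤ (Nat.card F + 1) * N :=
    (Subgroup.card_le_of_le (h3 y y.2 hy')).trans (Nat.le_of_dvd (Nat.mul_pos (by omega) hN0) h1)
  have h6 : r - 1 ≤ Nat.card F ^ 6 := (Nat.sub_le _ _).trans ((Nat.le_of_dvd hN0 hN).trans hNq)
  generalize Nat.card F = q at *
  have h7 : (r - 1) ^ 2 * Nat.card (Subgroup.centralizer ({(y : ↥(chevE7.group F))} : Set ↥(chevE7.group F))) ≤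
      (q ^ 6) ^ 2 * (q ^ 2 * q ^ 6) := by
    refine Nat.mul_le_mul (Nat.pow_le_pow_left h6 2) (h5.trans (Nat.mul_le_mul ?_ hNq))
    nlinarith only [hq]
  have h8 : (q ^ 6) ^ 2 * (q ^ 2 * q ^ 6) ≤ (q ^ 16) ^ 2 := by
    have h9 : q ^ 20 ≤ q ^ 32 := Nat.pow_le_pow_right (by omega) (by norm_num)
    calc (q ^ 6) ^ 2 * (q ^ 2 * q ^ 6) = q ^ 20 := by ring
      _ ≤ q ^ 32 := h9
      _ = (q ^ 16) ^ 2 := by ring
  omega

theorem not_may_14 {r : ℕ} (hr : r.Prime) (hr2 : r ≠ 2) (h : od (Nat.card F) r = 14) : ¬ May r ↥(chevE7.group F) := by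
  have hm := od_dvd_sub hr (by norm_num) h
  have h7 : 7 < r := by
    have h1 := hr.two_le
    have h2 := Nat.le_of_dvd (by omega) hm
    omega
  have hd := dvd14 hr h
  rw [pv14] at hd
  have hq : 2 ≤ Nat.card F := Finite.one_lt_card
  obtain ⟨q, hF⟩ : ∃ q, Nat.card F = q := ⟨_, rfl⟩
  have hF' : Fintype.card F = q := by rw [← Nat.card_eq_fintype_card]; exact hF
  rw [hF] at hq hd
  have hqz : (2 : ℤ) ≤ q := by exact_mod_cast hq
  have e0 : (q : ℤ) ^ 6 - (q : ℤ) ^ 5 + (q : ℤ) ^ 4 - (q : ℤ) ^ 3 + (q : ℤ) ^ 2 - q + 1 =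
      ((q : ℤ) - 1) * ((q : ℤ) ^ 5 + (q : ℤ) ^ 3 + q) + 1 := by ring
  have e1 : (0 : ℤ) < (q : ℤ) ^ 6 - (q : ℤ) ^ 5 + (q : ℤ) ^ 4 - (q : ℤ) ^ 3 + (q : ℤ) ^ 2 - q + 1 := by
    rw [e0]
    have : (0 : ℤ) ≤ ((q : ℤ) - 1) * ((q : ℤ) ^ 5 + (q : ℤ) ^ 3 + q) := mul_nonneg (by linarith only [hq]) (by positivity)
    linarith only [this]
  have e2 : (q : ℤ) ^ 6 - (q : ℤ) ^ 5 + (q : ℤ) ^ 4 - (q : ℤ) ^ 3 + (q : ℤ) ^ 2 - q + 1 ≤ (q : ℤ) ^ 6 := by
    have e3 : (q : ℤ) ^ 6 - (q : ℤ) ^ 5 + (q : ℤ) ^ 4 - (q : ℤ) ^ 3 + (q : ℤ) ^ 2 - q + 1 =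
      (q : ℤ) ^ 6 - ((q : ℤ) - 1) * ((q : ℤ) ^ 4 + (q : ℤ) ^ 2 + 1) := by ring
    rw [e3]
    have : (0 : ℤ) ≤ ((q : ℤ) - 1) * ((q : ℤ) ^ 4 + (q : ℤ) ^ 2 + 1) := mul_nonneg (by linarith only [hq]) (by positivity)
    linarith only [this]
  obtain ⟨N, hN⟩ := Int.eq_ofNat_of_zero_le e1.le
  have hN1 : (N : ℤ) = 1 - (q : ℤ) + (q : ℤ) ^ 2 - (q : ℤ) ^ 3 + (q : ℤ) ^ 4 - (q : ℤ) ^ 5 + (q : ℤ) ^ 6 := by
    rw [← hN]; ring
  rw [hN] at hd e1 e2
  have hrN : r ∣ N := Int.natCast_dvd_natCast.1 hd
  obtain ⟨T, -, h1, h2, -, h3⟩ := Cfsg.Agent.H585.SuE7.torus14 hF' hN1 hr h7 hrN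
  exact not_may_torus F hr hr2 hrN (by exact_mod_cast e1) (by rw [hF]; exact_mod_cast e2) T (by rw [hF]; exact h1)
    (by rw [hF]; exact h2) h3

theorem not_may_18 {r : ℕ} (hr : r.Prime) (hr2 : r ≠ 2) (h : od (Nat.card F) r = 18) : ¬ May r ↥(chevE7.group F) := by
  have hm := od_dvd_sub hr (by norm_num) h
  have h7 : 7 < r := by
    have h1 := hr.two_le
    have h2 := Nat.le_of_dvd (by omega) hm
    omega
  have hd := dvd18 hr h
  rw [pv18] at hd
  have hq : 2 ≤ Nat.card F := Finite.one_lt_card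
  obtain ⟨q, hF⟩ : ∃ q, Nat.card F = q := ⟨_, rfl⟩
  have hF' : Fintype.card F = q := by rw [← Nat.card_eq_fintype_card]; exact hF
  rw [hF] at hq hd
  have hqz : (2 : ℤ) ≤ q := by exact_mod_cast hq
  have hq3 : (8 : ℤ) ≤ (q : ℤ) ^ 3 := by
    have := pow_le_pow_left₀ (by norm_num) hqz 3
    linarith only [this]
  have e1 : (0 : ℤ) < (q : ℤ) ^ 6 - (q : ℤ) ^ 3 + 1 := by nlinarith only [hq3]
  have e2 : (q : ℤ) ^ 6 - (q : ℤ) ^ 3 + 1 ≤ (q : ℤ) ^ 6 := by linarith only [hq3]
  obtain ⟨N, hN⟩ := Int.eq_ofNat_of_zero_le e1.le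
  have hN1 : (N : ℤ) = 1 - (q : ℤ) ^ 3 + (q : ℤ) ^ 6 := by
    rw [← hN]; ring
  rw [hN] at hd e1 e2
  have hrN : r ∣ N := Int.natCast_dvd_natCast.1 hd
  obtain ⟨T, -, h1, h2, -, h3⟩ := Cfsg.Agent.H585.SuE7.torus18 hF' hN1 hr h7 hrN
  exact not_may_torus F hr hr2 hrN (by exact_mod_cast e1) (by rw [hF]; exact_mod_cast e2) T (by rw [hF]; exact h1)
    (by rw [hF]; exact h2) h3

theorem not_may_10 {r : ℕ} (hr : r.Prime) (hr2 : r ≠ 2) (hrq : ¬ r ∣ Nat.card F) (h : od (Nat.card F) r = 10) :
    ¬ May r ↥(chevE7.group F) := by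
  obtain ⟨p, hpc⟩ := CharP.exists F
  have hp : Fact p.Prime := ⟨CharP.char_is_prime F p⟩
  have hfin := Cfsg.Agent.Nodes.RGDChev.finite_W e7T CoxeterMatrix.E₇.toCoxeterSystem
  have hn1 : ¬ r ∣ Nat.card F - 1 := by
    intro h4
    have h5 : od (Nat.card F) r ∣ 1 := od_dvd Nat.card_pos (by rw [pow_one]; exact h4)
    rw [h] at h5
    norm_num at h5
  obtain ⟨x, u, n, h1, h2, -, h3, -⟩ := exists_comm_row e7T CoxeterMatrix.E₇.toCoxeterSystem inv_E7 two_ne_zero
    AdjE7.hA AdjE7.lt_nroots AdjE7.row10 hr hn1 (dvd10 hr h) (F := F) (p := p)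
  have h5 : 5 ∣ r - 1 := (Dvd.intro 2 rfl).trans (od_dvd_sub hr (by norm_num) h)
  refine not_may_of_adj hr2 (good_all hr hr2 (by norm_num) (by norm_num) h5 p hp.out) (locChar F p)
    ⟨hr, hp.out, ?_, x, u, h1, h2, h3⟩
  rintro rfl
  exact hrq (p_dvd F r)

/-- **`E₇(q)`.** -/
theorem not_may_E7 {r : ℕ} (hr : r.Prime) (hr2 : r ≠ 2) (hd : r ∣ Nat.card ↥(chevE7.group F)) :
    ¬ May r ↥(chevE7.group F) := by
  by_cases hrq : r ∣ Nat.card F
  · exact not_may_char F hr hr2 hrq
  obtain ⟨p, hpc⟩ := CharP.exists F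
  have hp : Fact p.Prime := ⟨CharP.char_is_prime F p⟩
  have key : ∀ _ : od (Nat.card F) r = 1 ∨ od (Nat.card F) r = 2 ∨ od (Nat.card F) r = 3 ∨ od (Nat.card F) r = 4 ∨
      od (Nat.card F) r = 5 ∨ od (Nat.card F) r = 6 ∨ od (Nat.card F) r = 8 ∨ od (Nat.card F) r = 9 ∨
      od (Nat.card F) r = 12, ¬ May r ↥(chevE7.group F) := fun h =>
    not_may_a F hr hr2 hrq (dvd_a F p hr hr2 h)
  rcases od_E7 hr hd with h | h | h | h | h | h | h | h | h | h | h | h | h | h
  · exact absurd h hrq
  · exact key (by (clear * - h; tauto))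
  · exact key (by (clear * - h; tauto))
  · exact key (by (clear * - h; tauto))
  · exact key (by (clear * - h; (solve | repeat (first | with_reducible assumption | exact Or.inl (by with_reducible assumption) | refine Or.inr ?_) | tauto)))
  · exact key (by (clear * - h; tauto))
  · exact key (by (clear * - h; (solve | repeat (first | with_reducible assumption | exact Or.inl (by with_reducible assumption) | refine Or.inr ?_) | tauto)))
  · have h7 := od_dvd_sub hr (by norm_num) h
    exact not_may_b F hr hr2 hrq (good_all hr hr2 (by norm_num) (by norm_num) h7) (dvd_b F p hr h)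
  · exact key (by (clear * - h; (solve | repeat (first | with_reducible assumption | exact Or.inl (by with_reducible assumption) | refine Or.inr ?_) | tauto)))
  · exact key (by (clear * - h; (solve | repeat (first | with_reducible assumption | exact Or.inl (by with_reducible assumption) | refine Or.inr ?_) | tauto)))
  · exact not_may_10 F hr hr2 hrq h
  · exact key (by (clear * - h; (solve | repeat (first | with_reducible assumption | exact Or.inl (by with_reducible assumption) | refine Or.inr ?_) | tauto)))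
  · exact not_may_14 F hr hr2 h
  · exact not_may_18 F hr hr2 h

/-- **The row `E₇(q)`.** -/
theorem row_E7 {F : Type} [Field F] [Fintype F] : Cfsg.Agent.H80.Fpf.Row ↥(Cfsg.Lie.chevE7.group F) :=
  row_of 0 0 fun _ hr hr2 hd _ _ => not_may_E7 F hr hr2 hd

end Cfsg.Agent.H111.Fpf
end

-- part: H111/Fpf/EightRow
section
/-!
# The row `E₈(q)`: no odd prime divisor `r` of `|E₈(q)|` has `May r`
-/

set_option autoImplicit false
set_option linter.unusedSectionVars false

namespace Cfsg.Agent.H111.Fpf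

open Cfsg Cfsg.Lie Cfsg.Agent.H378.ExcAdj Cfsg.Agent.H378 Cfsg.Agent.H80.Fpf Cfsg.Agent.H111.Fpf.SevenPar
  Cfsg.Agent.H111.Fpf.SevenRad Cfsg.Agent.H378.CycTab Cfsg.Agent.BpExc.RowsUntw Cfsg.Agent.BpExc.FamInst
  Cfsg.Agent.H378.AdjTab Cfsg.Agent.H120.StSeven Cfsg.Agent.KFacts.En.Roots

variable (F : Type) [Field F] [Fintype F]

/-- `May r` for `E₈(q)` gives `May r` for `E₇(q)` -/
theorem may_seven {r : ℕ} (h : May r ↥(chevE8.group F)) : May r ↥(chevE7.group F) := by
  obtain ⟨θ, hθs, hθk, hθ⟩ := Cfsg.Agent.S1077.result (K := F) chevE7 ty_E7.ty.inList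
  have hsimple := (Cfsg.Agent.S1054.result (F := F) chevE7 (by simp)).1
  refine h.of_hom (Cfsg.Agent.H120.StSeven.alpha F) θ hθs hθk.le ?_ (Cfsg.Agent.H65.UnivE.Typ.perfect Cfsg.Agent.H65.UnivE.typE7 F)
  have hn : ((Cfsg.Agent.H120.StSeven.alpha F).ker.map θ).Normal := Subgroup.Normal.map inferInstance θ hθs
  rcases hn.eq_bot_or_eq_top with h | h
  · rw [Subgroup.map_eq_bot_iff] at h
    exact h
  · exfalso
    obtain ⟨r, hr, s, hs, hne⟩ := not_comm F
    apply hne
    rw [← alpha_stGen F hr, ← alpha_stGen F hs]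
    have hfac : ∀ g : chevE7.SteinbergGroup F, ∃ z ∈ Subgroup.center (chevE7.SteinbergGroup F),
        Cfsg.Agent.H120.StSeven.alpha F g = Cfsg.Agent.H120.StSeven.alpha F z := by
      intro g
      have h1 : θ g ∈ (Cfsg.Agent.H120.StSeven.alpha F).ker.map θ := by rw [h]; exact Subgroup.mem_top _
      obtain ⟨k, hk, hk'⟩ := h1
      refine ⟨k⁻¹ * g, ?_, ?_⟩
      · rw [← hθk, MonoidHom.mem_ker, map_mul, map_inv, hk', inv_mul_cancel]
      · rw [map_mul, map_inv, MonoidHom.mem_ker.1 hk, inv_one, one_mul]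
    obtain ⟨z, hz, hz'⟩ := hfac (chevE7.stGen F r 1)
    rw [hz', ← map_mul, ← map_mul, Subgroup.mem_center_iff.1 hz]

/-- the degrees of the representations of `E₈(q)` -/
theorem minDeg8 : MinDeg ↥(chevE8.group F) (Nat.card F ^ 29) := by
  have hs := Cfsg.Agent.S1054.result (F := F) chevE8 (by simp)
  have := hs.1
  have hne : ∃ a b : ↥(chevE8.group F), a * b ≠ b * a := by
    by_contra hcon
    push Not at hcon
    exact hs.2 ⟨⟨hcon⟩⟩
  obtain ⟨a, b, hab⟩ := hne
  refine minDeg_of_mult_one (perfect_of_simple hab) (multDvd_of_cyclic one_ne_zero (Cfsg.Agent.S2107.result (F := F)))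
    fun d ρ hρ hd => le_trans ?_ (Cfsg.Agent.S2339.result d ρ hρ hd)
  rw [Nat.card_eq_fintype_card]
  generalize Fintype.card F = q
  calc q ^ 29 = q * q ^ 12 * q ^ 10 * q ^ 6 := by ring
    _ ≤ _ := Nat.mul_le_mul (Nat.mul_le_mul (Nat.mul_le_mul le_rfl (Nat.le_succ _)) (Nat.le_succ _)) (Nat.le_succ _)

/-- the value of the cyclotomic polynomial -/
theorem cyc_le {q m : ℕ} (hq : 2 ≤ q) (hm : m.totient = 8) :
    0 < ((Polynomial.cyclotomic m ℤ).eval ((q : ℕ) : ℤ)).natAbs ∧
      ((Polynomial.cyclotomic m ℤ).eval ((q : ℕ) : ℤ)).natAbs ≤ (q + 1) ^ 8 := by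
  have h1 : (1 : ℝ) < q := by exact_mod_cast hq
  have h2 := Polynomial.cyclotomic_eval_le_add_one_pow_totient h1 m
  rw [hm] at h2
  have h3 : (Polynomial.cyclotomic m ℝ).eval (q : ℝ) = (((Polynomial.cyclotomic m ℤ).eval ((q : ℕ) : ℤ) : ℤ) : ℝ) := by
    rw [← Polynomial.map_cyclotomic_int m ℝ]
    have := Polynomial.eval_intCast_map (Int.castRingHom ℝ) (Polynomial.cyclotomic m ℤ) ((q : ℕ) : ℤ)
    push_cast at this
    simpa using this
  have h4 := Polynomial.cyclotomic_pos' m h1
  rw [h3] at h2 h4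
  have h5 : 0 < (Polynomial.cyclotomic m ℤ).eval ((q : ℕ) : ℤ) := by exact_mod_cast h4
  have h6 : (Polynomial.cyclotomic m ℤ).eval ((q : ℕ) : ℤ) ≤ (((q + 1) ^ 8 : ℕ) : ℤ) := by
    push_cast
    exact_mod_cast h2
  refine ⟨Int.natAbs_pos.2 h5.ne', ?_⟩
  rw [← Int.ofNat_le, Int.natAbs_of_nonneg h5.le]
  exact h6

/-- **the regular primes** -/
theorem not_may_cyc {r m : ℕ} (hr : r.Prime) (hr2 : r ≠ 2) (hd : r ∣ Nat.card ↥(chevE8.group F))
    (h : od (Nat.card F) r = m) (hm : m.totient = 8) (hm8 : 8 < m) : ¬ May r ↥(chevE8.group F) := by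
  intro hM
  have hfr : Fact r.Prime := ⟨hr⟩
  have hq : 2 ≤ Nat.card F := Finite.one_lt_card
  obtain ⟨x, hx⟩ := exists_prime_orderOf_dvd_card' r hd
  have h1 := (RegFin.cent_od e8T inv_E8 one_ne_zero hr hx h hm hm8).2
  have h2 := RegFin.cyclotomic_dvd hr h (by omega)
  obtain ⟨h3, h4⟩ := cyc_le hq hm
  have h5 := hM.lt_of_minDeg' hr hr2 (minDeg8 F) hx
  have h6 : r ≤ ((Polynomial.cyclotomic m ℤ).eval ((Nat.card F : ℕ) : ℤ)).natAbs :=
    Nat.le_of_dvd h3 (Int.natCast_dvd.1 h2)
  have h7 := Nat.le_of_dvd h3 h1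
  generalize Nat.card F = q at *
  have h8 : q + 1 ≤ q ^ 2 := by nlinarith only [hq]
  have h9 : (r - 1) ^ 2 * Nat.card (Subgroup.centralizer ({x} : Set ↥(chevE8.group F))) ≤ ((q ^ 2) ^ 8) ^ 2 * (q ^ 2) ^ 8 := by
    refine Nat.mul_le_mul (Nat.pow_le_pow_left ?_ 2) ?_
    · exact (Nat.sub_le _ _).trans (h6.trans (h4.trans (Nat.pow_le_pow_left h8 8)))
    · exact h7.trans (h4.trans (Nat.pow_le_pow_left h8 8))
  have h10 : ((q ^ 2) ^ 8) ^ 2 * (q ^ 2) ^ 8 ≤ (q ^ 29) ^ 2 := by
    calc ((q ^ 2) ^ 8) ^ 2 * (q ^ 2) ^ 8 = q ^ 48 := by ring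
      _ ≤ q ^ 58 := Nat.pow_le_pow_right (by omega) (by norm_num)
      _ = (q ^ 29) ^ 2 := by ring
  omega

theorem dvd_seven {r : ℕ} (hr : r.Prime) (hr2 : r ≠ 2) (h : r ∣ Nat.card F ∨ od (Nat.card F) r ∣ 2 ∨
    od (Nat.card F) r ∣ 6 ∨ od (Nat.card F) r ∣ 8 ∨ od (Nat.card F) r ∣ 10 ∨ od (Nat.card F) r ∣ 12 ∨
    od (Nat.card F) r ∣ 14 ∨ od (Nat.card F) r ∣ 18) : r ∣ Nat.card ↥(chevE7.group F) := by
  have h1 := Cfsg.Agent.S1064.result (F := F) rfl
  rw [← Nat.card_eq_fintype_card] at h1
  have hq : 1 ≤ Nat.card F := Nat.card_pos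
  have h2 : r ∣ Nat.gcd 2 (Nat.card F - 1) * Nat.card ↥(chevE7.group F) := by
    rw [h1]
    rcases h with h | h | h | h | h | h | h | h
    · exact Dvd.dvd.mul_right (Dvd.dvd.mul_right (Dvd.dvd.mul_right (Dvd.dvd.mul_right (Dvd.dvd.mul_right (Dvd.dvd.mul_right
        (Dvd.dvd.mul_right (h.trans (dvd_pow_self _ (by norm_num))) _) _) _) _) _) _) _
    · exact Dvd.dvd.mul_right (Dvd.dvd.mul_right (Dvd.dvd.mul_right (Dvd.dvd.mul_right (Dvd.dvd.mul_right (Dvd.dvd.mul_right
        (Dvd.dvd.mul_left (dvd_of_od_dvd hq h) _) _) _) _) _) _) _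
    · exact Dvd.dvd.mul_right (Dvd.dvd.mul_right (Dvd.dvd.mul_right (Dvd.dvd.mul_right (Dvd.dvd.mul_right
        (Dvd.dvd.mul_left (dvd_of_od_dvd hq h) _) _) _) _) _) _
    · exact Dvd.dvd.mul_right (Dvd.dvd.mul_right (Dvd.dvd.mul_right (Dvd.dvd.mul_right
        (Dvd.dvd.mul_left (dvd_of_od_dvd hq h) _) _) _) _) _
    · exact Dvd.dvd.mul_right (Dvd.dvd.mul_right (Dvd.dvd.mul_right
        (Dvd.dvd.mul_left (dvd_of_od_dvd hq h) _) _) _) _
    · exact Dvd.dvd.mul_right (Dvd.dvd.mul_right (Dvd.dvd.mul_left (dvd_of_od_dvd hq h) _) _) _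
    · exact Dvd.dvd.mul_right (Dvd.dvd.mul_left (dvd_of_od_dvd hq h) _) _
    · exact Dvd.dvd.mul_left (dvd_of_od_dvd hq h) _
  rcases hr.dvd_mul.1 h2 with h3 | h3
  · exact absurd ((Nat.prime_dvd_prime_iff_eq hr Nat.prime_two).1 (h3.trans (Nat.gcd_dvd_left _ _))) hr2
  · exact h3

/-- **`E₈(q)`.** -/
theorem not_may_E8 {r : ℕ} (hr : r.Prime) (hr2 : r ≠ 2) (hd : r ∣ Nat.card ↥(chevE8.group F)) :
    ¬ May r ↥(chevE8.group F) := by
  have key : r ∣ Nat.card ↥(chevE7.group F) → ¬ May r ↥(chevE8.group F) := fun h1 h2 =>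
    not_may_E7 F hr hr2 h1 (may_seven F h2)
  have key' : ∀ _ : r ∣ Nat.card F ∨ od (Nat.card F) r ∣ 2 ∨
    od (Nat.card F) r ∣ 6 ∨ od (Nat.card F) r ∣ 8 ∨ od (Nat.card F) r ∣ 10 ∨ od (Nat.card F) r ∣ 12 ∨
    od (Nat.card F) r ∣ 14 ∨ od (Nat.card F) r ∣ 18, ¬ May r ↥(chevE8.group F) := fun h => key (dvd_seven F hr hr2 h)
  rcases od_E8 hr hd with h | h | h | h | h | h | h | h | h | h | h | h | h | h | h | h | h | h
  · exact key' (Or.inl h)
  · exact key' (Or.inr (by rw [h]; decide))
  · exact key' (Or.inr (by rw [h]; decide))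
  · exact key' (Or.inr (by rw [h]; decide))
  · exact key' (Or.inr (by rw [h]; decide))
  · exact key' (Or.inr (by rw [h]; decide))
  · exact key' (Or.inr (by rw [h]; decide))
  · exact key' (Or.inr (by rw [h]; decide))
  · exact key' (Or.inr (by rw [h]; decide))
  · exact key' (Or.inr (by rw [h]; decide))
  · exact key' (Or.inr (by rw [h]; decide))
  · exact key' (Or.inr (by rw [h]; decide))
  · exact key' (Or.inr (by rw [h]; decide))
  · exact not_may_cyc F hr hr2 hd h (by decide) (by norm_num)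
  · exact key' (Or.inr (by rw [h]; decide))
  · exact not_may_cyc F hr hr2 hd h (by decide) (by norm_num)
  · exact not_may_cyc F hr hr2 hd h (by decide) (by norm_num)
  · exact not_may_cyc F hr hr2 hd h (by decide) (by norm_num)

/-- **The row `E₈(q)`.** -/
theorem row_E8 {F : Type} [Field F] [Fintype F] : Cfsg.Agent.H80.Fpf.Row ↥(Cfsg.Lie.chevE8.group F) :=
  row_of 0 0 fun _ hr hr2 hd _ _ => not_may_E8 F hr hr2 hd

end Cfsg.Agent.H111.Fpf
end

-- part: H497/Fpf/Ree
section
/-!
# S4228: the row of the small Ree groups (helper497)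
-/

set_option autoImplicit false

namespace Cfsg.Agent.H497.Fpf

open Cfsg Cfsg.Lie Cfsg.Agent.H80.Fpf

theorem arith {q s r k n : ℕ} (hs : s * s = 3 * q) (h9 : 9 ≤ s) (hr : r ≤ k)
    (h : (k = (q - 1) / 2 ∧ n = 2 * (q - 1)) ∨ (k = (q + 1) / 4 ∧ n = 6 * (q + 1)) ∨
      (k = q - s + 1 ∧ n = 6 * (q - s + 1)) ∨ (k = q + s + 1 ∧ n = 6 * (q + s + 1))) :
    (r - 1) * n ≤ (q ^ 2 - q + 1) ^ 2 := by
  have h3 : 3 * s ≤ q := by nlinarith only [hs, h9]
  have h27 : 27 ≤ q := by omega
  have hB : 5 * q ≤ q ^ 2 - q + 1 := by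
    have : 6 * q ≤ q ^ 2 := by nlinarith only [h9, h3]
    omega
  have hk : (r - 1) * n ≤ (2 * q) * (12 * q) := by
    apply Nat.mul_le_mul
    · rcases h with ⟨h, -⟩ | ⟨h, -⟩ | ⟨h, -⟩ | ⟨h, -⟩ <;> omega
    · rcases h with ⟨-, h⟩ | ⟨-, h⟩ | ⟨-, h⟩ | ⟨-, h⟩ <;> omega
  have h5 : (5 * q) ^ 2 ≤ (q ^ 2 - q + 1) ^ 2 := Nat.pow_le_pow_left hB 2
  linarith only [hk, h5, _root_.sq_nonneg (↑(q ^ 2 - q) + 1 : ℤ)]

theorem row_twistedG2 {K : Type} [Field K] [Fintype K] {m : ℕ} (hm : 1 ≤ m) (hK : Fintype.card K = 3 ^ (2 * m + 1)) :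
    Row ↥(twistedG2 K (3 ^ m)) := by
  have hcard := Cfsg.Agent.S1069.result hK
  have hfin : Finite ↥(twistedG2 K (3 ^ m)) := Nat.finite_of_card_ne_zero (by
    rw [hcard]
    have h1 : 1 < 3 ^ (2 * m + 1) := Nat.one_lt_pow (by omega) (by norm_num)
    have h2 : 0 < 3 ^ (2 * m + 1) - 1 := by omega
    positivity)
  have hdeg := Cfsg.Agent.S2343.result (K := K) m hm hK
  have hmin : MinDeg ↥(twistedG2 K (3 ^ m)) ((3 ^ (2 * m + 1)) ^ 2 - 3 ^ (2 * m + 1) + 1) :=
    minDeg_of_mult_one (Cfsg.Agent.S1116.result hK hm) (multDvd_of_cyclic one_ne_zero (Cfsg.Agent.S2113.result hm hK)) hdeg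
  refine row_of 3 3 fun r hr hr2 hd h3 _ hM => ?_
  have : Fact r.Prime := ⟨hr⟩
  obtain ⟨q, hq⟩ : ∃ q, q = 3 ^ (2 * m + 1) := ⟨_, rfl⟩
  obtain ⟨s, hs⟩ : ∃ s, s = 3 ^ (m + 1) := ⟨_, rfl⟩
  have hss : s * s = 3 * q := by
    rw [hs, hq, ← pow_add, ← pow_succ']
    congr 1
    omega
  have h9 : 9 ≤ s := by
    have : 3 ^ 2 ≤ 3 ^ (m + 1) := Nat.pow_le_pow_right (by norm_num) (by omega)
    rw [hs]; omega
  have h3s : 3 * s ≤ q := by nlinarith only [hss, h9]
  have h1158 := Cfsg.Agent.S1158.result hm hK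
  rw [hcard] at hd
  rw [← hq] at hmin hd h1158
  rw [← hs] at h1158
  have hq4 : 4 ∣ q + 1 := by
    have h1 : q % 4 = 3 := by
      rw [hq, pow_succ, pow_mul, Nat.mul_mod, Nat.pow_mod]
      norm_num
    omega
  have hq2 : 2 ∣ q - 1 := by omega
  -- the four cases
  have hcases : ∃ k n, ((k, n) : ℕ × ℕ) ∈ ({((q - 1) / 2, 2 * (q - 1)), ((q + 1) / 4, 6 * (q + 1)),
      (q - s + 1, 6 * (q - s + 1)), (q + s + 1, 6 * (q + s + 1))} : Set (ℕ × ℕ)) ∧ r ∣ k ∧ 0 < k := by
    have hr3 : ¬ r ∣ q := by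
      intro h
      rw [hq] at h
      exact h3 ((Nat.prime_dvd_prime_iff_eq hr Nat.prime_three).1 (hr.dvd_of_dvd_pow h))
    rcases (Nat.Prime.dvd_mul hr).1 hd with hd | hd
    · rcases (Nat.Prime.dvd_mul hr).1 hd with hd | hd
      · exact absurd (hr.dvd_of_dvd_pow hd) hr3
      · refine ⟨_, _, Or.inl rfl, ?_, by (clear * - hq4; omega)⟩
        obtain ⟨c, hc⟩ := hq2
        rw [hc] at hd ⊢
        rcases (Nat.Prime.dvd_mul hr).1 hd with hd | hd
        · exact absurd ((Nat.prime_dvd_prime_iff_eq hr Nat.prime_two).1 hd) hr2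
        · rwa [Nat.mul_div_cancel_left _ (by norm_num)]
    · have he : q ^ 3 + 1 = (q + 1) * ((q - s + 1) * (q + s + 1)) := by
        obtain ⟨c, hc⟩ : ∃ c, q = s + c := ⟨q - s, by (clear * - h3s; omega)⟩
        have h1 : q - s = c := by (clear * - hc; omega)
        rw [h1]
        have h2 : ((q : ℤ)) ^ 3 + 1 = (q + 1) * ((c + 1) * (q + s + 1)) := by
          have h3 : (c : ℤ) = q - s := by rw [hc]; push_cast; ring
          have h4 : (s : ℤ) * s = 3 * q := by exact_mod_cast hss
          rw [h3]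
          linear_combination ((q : ℤ) + 1) * h4
        exact_mod_cast h2
      rw [he] at hd
      rcases (Nat.Prime.dvd_mul hr).1 hd with hd | hd
      · refine ⟨_, _, Or.inr (Or.inl rfl), ?_, by omega⟩
        obtain ⟨c, hc⟩ := hq4
        rw [hc] at hd ⊢
        rcases (Nat.Prime.dvd_mul hr).1 hd with hd | hd
        · have h4 : (4 : ℕ) = 2 ^ 2 := by norm_num
          rw [h4] at hd
          exact absurd ((Nat.prime_dvd_prime_iff_eq hr Nat.prime_two).1 (hr.dvd_of_dvd_pow hd)) hr2
        · rwa [Nat.mul_div_cancel_left _ (by norm_num)]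
      · rcases (Nat.Prime.dvd_mul hr).1 hd with hd | hd
        · exact ⟨_, _, Or.inr (Or.inr (Or.inl rfl)), hd, by omega⟩
        · exact ⟨_, _, Or.inr (Or.inr (Or.inr rfl)), hd, by (clear * - h9; omega)⟩
  obtain ⟨k, n, hkn, hrk, hk0⟩ := hcases
  obtain ⟨A, -, hA, hN, hsub⟩ := h1158 _ hkn
  have hA' : Nat.card A = k := hA
  have hN' : Nat.card (Subgroup.normalizer (A : Set ↥(twistedG2 K (3 ^ m)))) = n := hN
  obtain ⟨y, hy⟩ := exists_prime_orderOf_dvd_card' (G := A) r (by rw [hA']; exact hrk)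
  have hy' : orderOf (y : ↥(twistedG2 K (3 ^ m))) = r := by rw [Subgroup.orderOf_coe, hy]
  have h1 := hM.lt_of_minDeg hr hr2 hmin hy'
  have h2 := hsub (Subgroup.zpowers (y : ↥(twistedG2 K (3 ^ m)))) (by rw [Subgroup.zpowers_le]; exact y.2) (by
    rw [Ne, Subgroup.zpowers_eq_bot]
    intro h
    rw [h, orderOf_one] at hy'
    exact hr.one_lt.ne hy')
  rw [h2, hN'] at h1
  have h3 := arith (q := q) (s := s) (r := r) (k := k) (n := n) hss h9 (Nat.le_of_dvd hk0 hrk) (by
    rcases hkn with h | h | h | h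
    · exact Or.inl (Prod.mk.inj h)
    · exact Or.inr (Or.inl (Prod.mk.inj h))
    · exact Or.inr (Or.inr (Or.inl (Prod.mk.inj h)))
    · exact Or.inr (Or.inr (Or.inr (Prod.mk.inj h))))
  omega

/-- **The row of the small Ree groups.** -/
theorem row_Ree {S : Type} [Group S] (h : Cfsg.Lie.IsoRee S) : Row S := by
  obtain ⟨K, _, _, m, hm, hK, ⟨e⟩⟩ := h
  exact (row_twistedG2 hm hK).of_equiv e.symm

end Cfsg.Agent.H497.Fpf
end
end

-- part: H352/Fpf/Tits
section
set_option linter.all false
open scoped Cfsg.Agent.FastGrp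

/-!
# S4228: the row of the Tits group (helper352)
-/

set_option autoImplicit false

namespace Cfsg.Agent.H352.Fpf

open Cfsg.Agent.H80.Fpf

theorem card_tits : Nat.card Cfsg.Lie.TitsGroup = 17971200 := Cfsg.Agent.S1074.result.2.2.2.trans (by norm_num)

theorem not_may_five : ¬ May 5 Cfsg.Lie.TitsGroup := by
  intro h
  have hfin : Finite Cfsg.Lie.TitsGroup := Nat.finite_of_card_ne_zero (by rw [card_tits]; norm_num)
  obtain ⟨P, hP, hP5⟩ := Cfsg.Agent.H20.FrobTitsInst.exists_P
  have hPp : IsPGroup 5 P := IsPGroup.of_card (n := 2) (by rw [hP]; norm_num)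
  have hc : IsCyclic P := h.isCyclic (by norm_num) (by norm_num) P hPp
  obtain ⟨g, hg⟩ := hc.exists_generator
  have h1 : orderOf g = 25 := by
    rw [orderOf_eq_card_of_forall_mem_zpowers hg, hP]
  have h2 : orderOf g ∣ 5 := orderOf_dvd_of_pow_eq_one (Subtype.ext (hP5 g g.2))
  rw [h1] at h2
  norm_num at h2

theorem row_model : Row Cfsg.Lie.TitsGroup := by
  refine row_of 3 13 ?_
  intro r hr hr2 hd h3 h13
  have h5 : r = 5 := by
    rw [card_tits] at hd
    have h4 : (17971200 : ℕ) = 2 ^ 11 * 3 ^ 3 * 5 ^ 2 * 13 := by norm_num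
    rw [h4, hr.dvd_mul, hr.dvd_mul, hr.dvd_mul] at hd
    rcases hd with ((hd | hd) | hd) | hd
    · exact absurd ((Nat.prime_dvd_prime_iff_eq hr Nat.prime_two).1 (hr.dvd_of_dvd_pow hd)) hr2
    · exact absurd ((Nat.prime_dvd_prime_iff_eq hr Nat.prime_three).1 (hr.dvd_of_dvd_pow hd)) h3
    · exact (Nat.prime_dvd_prime_iff_eq hr Nat.prime_five).1 (hr.dvd_of_dvd_pow hd)
    · exact absurd ((Nat.prime_dvd_prime_iff_eq hr (by norm_num)).1 hd) h13
  rw [h5]
  exact not_may_five

theorem row_gen {X : Type} [Group X] (hX : Row X) {S : Type} [Group S] (h : Nonempty (S ≃* X)) : Row S := by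
  obtain ⟨e⟩ := h
  exact hX.of_equiv e.symm

/-- FPF-TITS -/
theorem row_Tits {S : Type} [Group S] (h : Cfsg.Lie.IsoTits S) : Row S := row_gen row_model h

end Cfsg.Agent.H352.Fpf
end
end
end
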